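import Groth.Agent.SGA3cLib.UnibranchTwConst
import Groth.Agent.Et18.ShriekSheaf
import Mathlib.AlgebraicGeometry.ValuativeCriterion

/-! # Twisted constant schemes are separated and satisfy the valuative criterion -/

set_option linter.style.haveILetI false
set_option autoImplicit false
set_option backward.isDefEq.respectTransparency.types false
universe u

open CategoryTheory CategoryTheory.Limits MonoidalCategory CartesianMonoidalCategory MonObj AlgebraicGeometry

noncomputable section

namespace Groth.Agent.RelPerfH3.TwConstVal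

theorem isSeparated_const (U : Scheme.{u}) (I : Type u) : IsSeparated (TwC.const U I).hom := by
  let f : (TwC.const U I).left ⟶ U := (TwC.const U I).hom
  let ι₀ := Sigma.ι (fun _ : I => U)
  have hf : ∀ i, ι₀ i ≫ f = 𝟙 U := fun i => Sigma.ι_desc _ _
  haveI : ∀ i, IsOpenImmersion (ι₀ i) := fun i => inferInstance
  refine ⟨?_⟩
  have piece : ∀ x, ∃ i, x ∈ Set.range (ι₀ i) := fun x => by
    obtain ⟨i, w, hw⟩ := (sigmaOpenCover (fun _ : I => U)).exists_eq x
    exact ⟨i, w, hw⟩
  have disj : ∀ i j x, x ∈ Set.range (ι₀ i) → x ∈ Set.range (ι₀ j) → i = j := by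
    rintro i j _ ⟨a, rfl⟩ ⟨b, hb⟩
    exact (congrArg Sigma.fst ((sigmaι_eq_iff (fun _ : I => U) j i b a).1 hb)).symm
  have hrange : (Set.range (pullback.diagonal f))ᶜ = ⋃ (i : I) (j : I) (_ : i ≠ j),
      pullback.fst f f ⁻¹' Set.range (ι₀ i) ∩ pullback.snd f f ⁻¹' Set.range (ι₀ j) := by
    ext p
    simp only [Set.mem_compl_iff, Set.mem_iUnion, Set.mem_inter_iff, Set.mem_preimage]
    constructor
    · intro hp
      obtain ⟨i, hi⟩ := piece (pullback.fst f f p)
      obtain ⟨j, hj⟩ := piece (pullback.snd f f p)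
      refine ⟨i, j, fun hij => hp ?_, hi, hj⟩
      subst hij
      let m := pullback.map (ι₀ i ≫ f) (ι₀ i ≫ f) f f (ι₀ i) (ι₀ i) (𝟙 U) (by simp) (by simp)
      have hm : p ∈ Set.range m := by
        rw [Scheme.Pullback.range_map]
        exact ⟨hi, hj⟩
      obtain ⟨t, rfl⟩ := hm
      have e : m = pullback.fst (ι₀ i ≫ f) (ι₀ i ≫ f) ≫ ι₀ i ≫ pullback.diagonal f := by
        have h : pullback.fst (ι₀ i ≫ f) (ι₀ i ≫ f) = pullback.snd (ι₀ i ≫ f) (ι₀ i ≫ f) := by
          simpa [hf i] using (pullback.condition (f := ι₀ i ≫ f) (g := ι₀ i ≫ f))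
        apply pullback.hom_ext
        · simp [m, pullback.map]; exact pullback.lift_fst _ _ _
        · simp [m, h, pullback.map]; exact pullback.lift_snd _ _ _
      exact ⟨ι₀ i (pullback.fst (ι₀ i ≫ f) (ι₀ i ≫ f) t), by rw [e]; rfl⟩
    · rintro ⟨i, j, hij, hi, hj⟩ ⟨x, rfl⟩
      rw [← Scheme.Hom.comp_apply, pullback.diagonal_fst] at hi
      rw [← Scheme.Hom.comp_apply, pullback.diagonal_snd] at hj
      exact hij (disj i j x hi hj)
  have hclosed : IsClosed (Set.range (pullback.diagonal f)) := by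
    rw [← isOpen_compl_iff, hrange]
    exact isOpen_iUnion fun i => isOpen_iUnion fun j => isOpen_iUnion fun _ =>
      ((ι₀ i).isOpenEmbedding.isOpen_range.preimage (pullback.fst f f).continuous).inter
        ((ι₀ j).isOpenEmbedding.isOpen_range.preimage (pullback.snd f f).continuous)
  exact .of_isPreimmersion _ hclosed

variable {S : Scheme.{u}} (X : Over S)

theorem isSeparated_of_twConst (hX : TwC.IsTwConst TwC.Topology.etale X) : IsSeparated X.hom := by
  choose W q hq hs I e using hX
  haveI : ∀ s, Etale (q s) := hq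
  refine Et18.isSeparated_of_etale_cover X.hom W q (fun s => ⟨s, hs s⟩) fun s => ?_
  obtain ⟨i⟩ := e s
  have hi : i.hom.left ≫ (TwC.const (W s) (I s)).hom = pullback.snd X.hom (q s) := Over.w i.hom
  rw [← hi]
  haveI : IsIso i.hom.left := inferInstanceAs (IsIso ((Over.forget _).map i.hom))
  haveI := isSeparated_const (W s) (I s)
  infer_instance

theorem specializingMap_of_twConst (hX : TwC.IsTwConst TwC.Topology.etale X) :
    (topologically @SpecializingMap).universally X.hom := by
  intro X' T i₁ i₂ f' sq x t (hxt : f' x ⤳ t)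
  choose W q hq hs I e using hX
  haveI : ∀ s, Etale (q s) := hq
  let s := i₂ t
  obtain ⟨w, hw⟩ := hs s
  obtain ⟨i⟩ := e s
  obtain ⟨t', ht', -⟩ := Scheme.Pullback.exists_preimage_pullback (f := i₂) (g := q s) t w hw.symm
  obtain ⟨t'', htt, ht''⟩ := Flat.generalizingMap (pullback.fst i₂ (q s)) (ht' ▸ hxt : f' x ⤳ pullback.fst i₂ (q s) t')
  obtain ⟨y, hy1, hy2⟩ := Scheme.Pullback.exists_preimage_pullback (f := f') (g := pullback.fst i₂ (q s)) x t'' ht''.symm
  let Z := pullback X.hom (q s)
  let m : pullback f' (pullback.fst i₂ (q s)) ⟶ Z :=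
    pullback.lift (pullback.fst _ _ ≫ i₁) (pullback.snd _ _ ≫ pullback.snd i₂ (q s)) (by
      rw [Category.assoc, Category.assoc, ← sq.w, ← pullback.condition, pullback.condition_assoc])
  obtain ⟨a, b, hab⟩ := (sigmaOpenCover (fun _ : I s => W s)).exists_eq (i.hom.left (m y))
  have hi : i.hom.left ≫ (TwC.const (W s) (I s)).hom = pullback.snd X.hom (q s) := Over.w i.hom
  haveI : IsIso i.hom.left := inferInstanceAs (IsIso ((Over.forget _).map i.hom))
  let σ : W s ⟶ Z := Sigma.ι (fun _ : I s => W s) a ≫ inv i.hom.left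
  have hσ : σ ≫ pullback.snd X.hom (q s) = 𝟙 _ := by
    rw [← hi]
    simp only [σ, Category.assoc, IsIso.inv_hom_id_assoc]
    exact Sigma.ι_desc _ _
  let pw := pullback.snd i₂ (q s) ≫ σ ≫ pullback.fst X.hom (q s)
  have hpw : pullback.fst i₂ (q s) ≫ i₂ = pw ≫ X.hom := by
    simp only [pw, Category.assoc, pullback.condition]
    rw [reassoc_of% hσ]
  let τ : pullback i₂ (q s) ⟶ X' := sq.lift (pullback.fst i₂ (q s)) pw hpw
  let k := (pullback f' (pullback.fst i₂ (q s))).fromSpecResidueField y
  have hr : Set.range (k ≫ m ≫ i.hom.left) ⊆ Set.range (Sigma.ι (fun _ : I s => W s) a) := by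
    rintro _ ⟨z, rfl⟩
    refine ⟨b, hab.trans ?_⟩
    have hz : k z = y := Scheme.fromSpecResidueField_apply y z
    simp only [Scheme.Hom.comp_apply, hz]
  let l := IsOpenImmersion.lift (Sigma.ι (fun _ : I s => W s) a) _ hr
  have hl : l ≫ σ = k ≫ m := by
    simp only [σ, l, IsOpenImmersion.lift_fac_assoc, Category.assoc, IsIso.hom_inv_id, Category.comp_id]
  have hl' : l = k ≫ pullback.snd _ _ ≫ pullback.snd i₂ (q s) := by
    have := congrArg (· ≫ pullback.snd X.hom (q s)) hl
    simp only [Category.assoc, hσ, Category.comp_id] at this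
    refine this.trans ?_
    exact congrArg (k ≫ ·) (pullback.lift_snd _ _ _)
  have key : (k ≫ pullback.snd _ _) ≫ τ = k ≫ pullback.fst _ _ := by
    apply sq.hom_ext
    · simp only [τ, Category.assoc, IsPullback.lift_fst]
      exact congrArg (k ≫ ·) pullback.condition.symm
    · simp only [τ, Category.assoc, IsPullback.lift_snd, pw]
      rw [← reassoc_of% hl', reassoc_of% hl]
      exact congrArg (k ≫ ·) (pullback.lift_fst _ _ _)
  refine ⟨τ t', ?_, ?_⟩
  · have hz := congrArg (fun g => g default) key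
    simp only [Scheme.Hom.comp_apply] at hz
    rw [show k default = y from Scheme.fromSpecResidueField_apply y _, hy1, hy2] at hz
    rw [← hz]
    exact htt.map τ.continuous
  · rw [← Scheme.Hom.comp_apply, show τ ≫ f' = pullback.fst i₂ (q s) from sq.lift_fst _ _ _, ht']

theorem main (hX : TwC.IsTwConst TwC.Topology.etale X) :
    IsSeparated X.hom ∧ Etale X.hom ∧ ValuativeCriterion X.hom := by
  haveI := isSeparated_of_twConst X hX
  exact ⟨‹_›, SGA3cLib.UnibranchTwConst.etale_of_twConst X hX,
    ValuativeCriterion.iff.2 ⟨ValuativeCriterion.Existence.of_specializingMap _ (specializingMap_of_twConst X hX),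
      IsSeparated.valuativeCriterion X.hom⟩⟩

end Groth.Agent.RelPerfH3.TwConstVal
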