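import Groth.Agent.CechExt.Koszul
import Mathlib.Algebra.Homology.HomotopyCategory.MappingCone
import Mathlib.LinearAlgebra.TensorProduct.RightExactness
import Mathlib.RingTheory.Flat.Basic

/-!
# Koszul complexes of flat modules, and the vanishing criterion for torsion complexes
-/

set_option autoImplicit false
set_option backward.isDefEq.respectTransparency false
set_option backward.isDefEq.respectTransparency.types false
universe u

open CategoryTheory CategoryTheory.Limits CochainComplex MonoidalCategory
open Groth.Agent.CAlgH3.ExtCech Groth.Agent.CAlgH3.CechQis Groth.Agent.CechExt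

namespace Groth.Agent.RelPerfH3.KoszulFlat

variable {R : Type u} [CommRing R]

/-- Iterated cones preserve elementwise quasi-isomorphisms. -/
theorem qi_kosMap' {K L : CochainComplex (ModuleCat.{u} R) ℤ} {a : K ⟶ L} (ha : Qi a) :
    ∀ gs : List R, Qi (kosMap a gs)
  | [] => ha
  | _ :: gs => qi_coneMap _ _ _ _ _ (qi_kosMap' ha gs) (qi_kosMap' ha gs)

theorem ex_of_qi {K L : CochainComplex (ModuleCat.{u} R) ℤ} {a : K ⟶ L} (ha : Qi a) {q : ℤ}
    (h : Ex L q) : Ex K q := fun p r hp hr z hz => by
  obtain ⟨y, hy⟩ := h p r hp hr ((a.f q).hom z) (by rw [comm_apply a, hz, map_zero])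
  exact ha.inj p q r hp hr z hz ⟨y, hy⟩

/-- An additive linear functor commutes with the iterated cones. -/
theorem nonempty_map_kos (G : ModuleCat.{u} R ⥤ ModuleCat.{u} R) [G.Additive] [G.Linear R]
    (K : CochainComplex (ModuleCat.{u} R) ℤ) : ∀ gs : List R,
    Nonempty ((G.mapHomologicalComplex (ComplexShape.up ℤ)).obj (kos gs K) ≅
      kos gs ((G.mapHomologicalComplex (ComplexShape.up ℤ)).obj K))
  | [] => ⟨Iso.refl _⟩
  | g :: gs => by
    obtain ⟨e⟩ := nonempty_map_kos G K gs
    have h : (G.mapHomologicalComplex (ComplexShape.up ℤ)).map (g • 𝟙 (kos gs K)) ≫ e.hom =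
        e.hom ≫ (g • 𝟙 (kos gs ((G.mapHomologicalComplex (ComplexShape.up ℤ)).obj K))) := by
      ext1 i
      simp [Functor.map_smul]
    exact ⟨mappingCone.mapHomologicalComplexIso _ G ≪≫
      { hom := mappingCone.map _ _ e.hom e.hom h
        inv := mappingCone.map _ _ e.inv e.inv (by
          rw [← cancel_epi e.hom, ← Category.assoc, ← h]; simp)
        hom_inv_id := by rw [← mappingCone.map_comp]; simp [mappingCone.map_id]
        inv_hom_id := by rw [← mappingCone.map_comp]; simp [mappingCone.map_id]; rfl }⟩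

theorem ex_of_iso {K L : CochainComplex (ModuleCat.{u} R) ℤ} (e : K ≅ L) {q : ℤ} (h : Ex L q) : Ex K q :=
  ex_of_qi (qi_of_quasiIso e.hom) h

/-- Koszul regular sequences give exact Koszul complexes on flat modules. -/
theorem ex_kos_single (fs : List R) (hfs : LCI.IsKoszulRegularSeq R fs) (M : ModuleCat.{u} R)
    [Module.Flat R M] {q : ℤ} (hq : q ≠ 0) :
    Ex (kos fs ((HomologicalComplex.single (ModuleCat.{u} R) (ComplexShape.up ℤ) 0).obj M)) q := by
  let G := tensorRight M
  obtain ⟨e⟩ := nonempty_map_kos G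
    ((HomologicalComplex.single (ModuleCat.{u} R) (ComplexShape.up ℤ) 0).obj (ModuleCat.of R R)) fs
  have h0 : Ex ((G.mapHomologicalComplex (ComplexShape.up ℤ)).obj (Koszul.koszul R fs)) q := by
    intro p r hp hr z hz
    obtain rfl : p = q - 1 := by omega
    obtain rfl : r = q + 1 := by omega
    have hex : Function.Exact ((Koszul.koszul R fs).d (q - 1) q).hom ((Koszul.koszul R fs).d q (q + 1)).hom :=
      (ShortComplex.ShortExact.moduleCat_exact_iff_function_exact _).1
        ((HomologicalComplex.exactAt_iff' _ (q - 1) q (q + 1) (by simp) (by simp)).1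
          ((HomologicalComplex.exactAt_iff_isZero_homology _ _).2 (hfs q hq)))
    exact (Module.Flat.rTensor_exact M hex z).1 hz
  rw [kos_koszul] at h0
  let i : (G.mapHomologicalComplex (ComplexShape.up ℤ)).obj
      ((HomologicalComplex.single (ModuleCat.{u} R) (ComplexShape.up ℤ) 0).obj (ModuleCat.of R R)) ≅
      (HomologicalComplex.single (ModuleCat.{u} R) (ComplexShape.up ℤ) 0).obj M :=
    (HomologicalComplex.singleMapHomologicalComplex G (ComplexShape.up ℤ) 0).app _ ≪≫
      (HomologicalComplex.single (ModuleCat.{u} R) (ComplexShape.up ℤ) 0).mapIso (λ_ M)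
  exact ex_of_qi (qi_kosMap' (qi_of_quasiIso i.inv) fs) (ex_of_iso e.symm h0)

/-- A complex whose cohomology is torsion for every member of a sequence, and whose Koszul complex is exact
in negative degrees, is exact below the length of the sequence. -/
theorem ex_of_tors (fs : List R) {K : CochainComplex (ModuleCat.{u} R) ℤ}
    (h0 : ∀ q : ℤ, q < 0 → Ex K q) (hT : ∀ g ∈ fs, Tors g K) (hK : ∀ q : ℤ, q < 0 → Ex (kos fs K) q) :
    ∀ (k : ℕ) (q : ℤ), q < k → q < fs.length → Ex K q
  | 0, q, hq, _ => h0 q (by omega)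
  | k + 1, q, hq, hql => by
    intro p r hp hr z hz
    obtain rfl : p = q - 1 := by omega
    obtain rfl : r = q + 1 := by omega
    by_contra hcon
    simp only [not_exists] at hcon
    obtain ⟨x, hx, hk⟩ := exists_killed _ q z ⟨hz, hcon⟩ fs hT
    obtain ⟨-, w, hw, -⟩ := kos_nonBd q (fun i hi => ex_of_tors fs h0 hT hK k i (by omega) (by omega)) x hx fs
      hk (q - fs.length) (by omega)
    obtain ⟨y, hy⟩ := hK _ (by omega) (q - fs.length - 1) (q - fs.length + 1) (by omega) rfl w hw.1
    exact hw.2 y hy

end Groth.Agent.RelPerfH3.KoszulFlat
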