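import Groth.Agent.CechExt.Koszul
import Groth.Agent.Coherent.CechModule
import Groth.Agent.Coherent.QcohSections
import Groth.Agent.Coherent.AffineVanishing
import Groth.Agent.RelPerfH3.KoszulFlat

/-!
# The augmented Čech complex of sections over the ring of an ambient affine open
-/

set_option autoImplicit false
set_option backward.isDefEq.respectTransparency false
set_option backward.isDefEq.respectTransparency.types false
set_option linter.style.haveILetI false

universe u

open CategoryTheory CategoryTheory.Limits AlgebraicGeometry Opposite TopologicalSpace CochainComplex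
open Groth.Agent.Coherent Groth.Agent.CAlgH3.ExtCech Groth.Agent.CAlgH3.CechQis Groth.Agent.CechExt

namespace Groth.Agent.RelPerfH3.CechSections

variable {X : Scheme.{u}} (F : X.Modules) {V : X.Opens}

/-- Sections on `U ≤ V` as a module over the functions on `V`. -/
noncomputable def sec {U : X.Opens} (h : U ≤ V) : ModuleCat.{u} Γ(X, V) :=
  letI := Module.compHom Γ(F, U) (X.presheaf.map (homOfLE h).op).hom
  ModuleCat.of Γ(X, V) Γ(F, U)

theorem smul_sec {U : X.Opens} (h : U ≤ V) (r : Γ(X, V)) (x : sec F h) :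
    (show Γ(F, U) from r • x) = X.presheaf.map (homOfLE h).op r • (show Γ(F, U) from x) := rfl

/-- Restriction, linearly over the ambient ring. -/
noncomputable def secRes {U U' : X.Opens} (h : U ≤ V) (h' : U' ≤ V) (e : U' ≤ U) : sec F h →ₗ[Γ(X, V)] sec F h' where
  toFun x := resM F e x
  map_add' x y := map_add (resM F e) x y
  map_smul' r x := by
    refine (resM_smul F e (X.presheaf.map (homOfLE h).op r) (show Γ(F, U) from x)).trans ?_
    exact congrArg (fun z : Γ(X, U') => z • resM F e (show Γ(F, U) from x))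
      (ConcreteCategory.congr_hom (X.presheaf.map_comp (homOfLE h).op (homOfLE e).op) r).symm

theorem secRes_secRes {U U' U'' : X.Opens} (h : U ≤ V) (h' : U' ≤ V) (h'' : U'' ≤ V) (e : U' ≤ U) (e' : U'' ≤ U')
    (x : sec F h) : secRes F h' h'' e' (secRes F h h' e x) = secRes F h h'' (e'.trans e) x :=
  resM_resM F e e' _

theorem secRes_self {U : X.Opens} (h : U ≤ V) (e : U ≤ U) (x : sec F h) : secRes F h h e x = x :=
  resM_refl F _

theorem secRes_bijective {U U' : X.Opens} (h : U ≤ V) (h' : U' ≤ V) (e : U' ≤ U) (e' : U ≤ U') :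
    Function.Bijective (secRes F h h' e) :=
  resM_bijective_of_eq F e (le_antisymm e' e)

variable {W : X.Opens} (hWV : W ≤ V) {m : ℕ} (s : Fin m → Γ(X, V))

/-- The members of the complex: `W` cut by the basic opens of a tuple. -/
noncomputable abbrev inter (W : X.Opens) (s : Fin m → Γ(X, V)) {n : ℕ} (a : Fin n → Fin m) : X.Opens :=
  W ⊓ ⨅ k, X.basicOpen (s (a k))

variable (W) in
theorem inter_comp_le {n n' : ℕ} (a : Fin n → Fin m) (e : Fin n' → Fin n) :
    inter W s a ≤ inter W s (a ∘ e) :=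
  inf_le_inf_left _ (le_iInf fun k => iInf_le (fun k => X.basicOpen (s (a k))) (e k))

include hWV in
theorem inter_le {n : ℕ} (a : Fin n → Fin m) : inter W s a ≤ V := inf_le_left.trans hWV

/-- Cochains. -/
abbrev Cn (n : ℕ) : Type u := ∀ a : Fin n → Fin m, sec F (inter_le hWV s a)

/-- The differential. -/
noncomputable def dn (n : ℕ) : Cn F hWV s n →ₗ[Γ(X, V)] Cn F hWV s (n + 1) :=
  LinearMap.pi fun a => ∑ j : Fin (n + 1), (-1 : Γ(X, V)) ^ (j : ℕ) •
    (secRes F (inter_le hWV s _) (inter_le hWV s a) (inter_comp_le W s a j.succAbove)).comp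
      (LinearMap.proj (a ∘ j.succAbove))

theorem dn_apply (n : ℕ) (x : Cn F hWV s n) (a : Fin (n + 1) → Fin m) :
    dn F hWV s n x a = ∑ j : Fin (n + 1), (-1 : Γ(X, V)) ^ (j : ℕ) •
      secRes F (inter_le hWV s _) (inter_le hWV s a) (inter_comp_le W s a j.succAbove) (x (a ∘ j.succAbove)) := by
  simp [dn]

variable (W) in
/-- The covering family whose tuples give the members of positive degree. -/
noncomputable abbrev fam (i : ULift.{u} (Fin m)) : X.Opens := W ⊓ X.basicOpen (s i.down)

variable (W) in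
theorem cinter_fam {n : ℕ} (a : Fin (n + 1) → ULift.{u} (Fin m)) :
    (SiteCoh.Cech.inter (fam W s) a : X.Opens) = inter W s (fun k => (a k).down) := by
  rw [SiteCoh.inter_eq_iInf (X := X.toTopCat) (fam W s) a]
  exact inf_iInf.symm

/-- Comparison with the Čech complex of abelian groups. -/
noncomputable def toCech (n : ℕ) :
    Cn F hWV s (n + 1) →+ (SiteCoh.Cech.cx (E := X.Opens) F.presheaf (fam W s)).X n :=
  AddMonoidHom.mk'
    (fun x => SiteCoh.Cech.mk (E := X.Opens) F.presheaf (fam W s) fun a =>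
      resM F (cinter_fam W s a).le (x fun k => (a k).down))
    fun x y => SiteCoh.Cech.mk_add (fam W s) F.presheaf _ _ _ fun a =>
      map_add (resM F (cinter_fam W s a).le) (x _) (y _)

theorem ev_toCech (n : ℕ) (x : Cn F hWV s (n + 1)) (a : Fin (n + 1) → ULift.{u} (Fin m)) :
    SiteCoh.Cech.ev (E := X.Opens) F.presheaf (fam W s) a (toCech F hWV s n x) =
      resM F (cinter_fam W s a).le (x fun k => (a k).down) :=
  SiteCoh.Cech.ev_mk ..

theorem bijective_toCech (n : ℕ) : Function.Bijective (toCech F hWV s n) := by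
  refine ⟨fun x y h => funext fun a => ?_, fun z => ?_⟩
  · have := congrArg (SiteCoh.Cech.ev (E := X.Opens) F.presheaf (fam W s) fun k => ⟨a k⟩) h
    rw [ev_toCech, ev_toCech] at this
    exact (resM_bijective_of_eq F _ (cinter_fam W s fun k => (⟨a k⟩ : ULift.{u} (Fin m))).symm).1 this
  · choose x hx using fun a : Fin (n + 1) → Fin m =>
      (resM_bijective_of_eq F _ (cinter_fam W s fun k => (⟨a k⟩ : ULift.{u} (Fin m))).symm).2
        (SiteCoh.Cech.ev (E := X.Opens) F.presheaf (fam W s) (fun k => ⟨a k⟩) z)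
    refine ⟨x, SiteCoh.Cech.ext _ (fam W s) fun a => ?_⟩
    obtain ⟨b, rfl⟩ : ∃ b : Fin (n + 1) → Fin m, (fun k => (⟨b k⟩ : ULift.{u} (Fin m))) = a :=
      ⟨fun k => (a k).down, funext fun k => ULift.ext _ _ rfl⟩
    exact (ev_toCech F hWV s n x _).trans (hx b)

theorem toCech_d (n : ℕ) (x : Cn F hWV s (n + 1)) :
    toCech F hWV s (n + 1) (dn F hWV s (n + 1) x) =
      (SiteCoh.Cech.cx (E := X.Opens) F.presheaf (fam W s)).d n (n + 1) (toCech F hWV s n x) := by
  refine SiteCoh.Cech.ext _ (fam W s) fun a => ?_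
  rw [ev_toCech, SiteCoh.Cech.ev_d, dn_apply]
  rw [show resM F (cinter_fam W s a).le (∑ j : Fin (n + 2), (-1 : Γ(X, V)) ^ (j : ℕ) •
      secRes F (inter_le hWV s _) (inter_le hWV s _) (inter_comp_le W s _ j.succAbove)
        (x ((fun k => (a k).down) ∘ j.succAbove))) = _ from map_sum (resM F (cinter_fam W s a).le) _ _]
  refine Finset.sum_congr rfl fun j _ => ?_
  rw [ev_toCech]
  have : ∀ (k : ℕ) {U : X.Opens} (h : U ≤ V) (z : sec F h), ((-1 : Γ(X, V)) ^ k • z : sec F h) = ((-1 : ℤ) ^ k • z) := by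
    intro k U h z
    rw [← Int.cast_smul_eq_zsmul Γ(X, V) ((-1 : ℤ) ^ k) z]
    simp
  rw [this]
  refine (map_zsmul (resM F (cinter_fam W s a).le) _ _).trans (congrArg ((-1 : ℤ) ^ (j : ℕ) • ·) ?_)
  exact (resM_resM F _ _ _).trans (resM_resM F _ _ _).symm

theorem dn_zero_apply (x : Cn F hWV s 0) (a : Fin 1 → Fin m) :
    dn F hWV s 0 x a = secRes F (inter_le hWV s _) (inter_le hWV s a)
      (inf_le_inf_left _ (le_iInf fun k => k.elim0)) (x Fin.elim0) := by
  rw [dn_apply, Fin.sum_univ_one, Fin.val_zero, pow_zero, one_smul]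
  have key : ∀ (b : Fin 0 → Fin m) (hb : inter W s a ≤ inter W s b), b = Fin.elim0 →
      secRes F (inter_le hWV s b) (inter_le hWV s a) hb (x b) =
        secRes F (inter_le hWV s _) (inter_le hWV s a) (inf_le_inf_left _ (le_iInf fun k => k.elim0)) (x Fin.elim0) := by
    rintro b hb rfl
    rfl
  exact key _ _ (Subsingleton.elim _ _)

theorem dn_dn_zero (x : Cn F hWV s 0) : dn F hWV s 1 (dn F hWV s 0 x) = 0 := funext fun a => by
  rw [dn_apply, Fin.sum_univ_two, dn_zero_apply, dn_zero_apply, secRes_secRes, secRes_secRes, Fin.val_zero,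
    Fin.val_one, pow_zero, pow_one, one_smul, neg_smul, one_smul]
  exact add_neg_cancel _

theorem dn_dn : ∀ (n : ℕ) (x : Cn F hWV s n), dn F hWV s (n + 1) (dn F hWV s n x) = 0
  | 0, x => dn_dn_zero F hWV s x
  | n + 1, x => by
    refine (bijective_toCech F hWV s (n + 1 + 1)).1 ?_
    rw [map_zero, toCech_d, toCech_d]
    exact ConcreteCategory.congr_hom
      ((SiteCoh.Cech.cx (E := X.Opens) F.presheaf (fam W s)).d_comp_d n (n + 1) (n + 2)) (toCech F hWV s n x)

/-- The terms. -/
noncomputable def CX : ℤ → ModuleCat.{u} Γ(X, V)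
  | Int.ofNat n => ModuleCat.of Γ(X, V) (Cn F hWV s n)
  | Int.negSucc _ => ModuleCat.of Γ(X, V) PUnit.{u + 1}

/-- The differentials. -/
noncomputable def Cd : ∀ q : ℤ, CX F hWV s q ⟶ CX F hWV s (q + 1)
  | Int.ofNat n => ModuleCat.ofHom (dn F hWV s n)
  | Int.negSucc _ => 0

/-- The augmented Čech complex, `F(W)` in degree zero. -/
noncomputable def C : CochainComplex (ModuleCat.{u} Γ(X, V)) ℤ :=
  CochainComplex.of (CX F hWV s) (Cd F hWV s) fun q =>
    match q with
    | Int.ofNat n => ModuleCat.hom_ext (LinearMap.ext fun x => dn_dn F hWV s n x)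
    | Int.negSucc _ => Limits.zero_comp

theorem C_d_eq (q : ℤ) : (C F hWV s).d q (q + 1) = Cd F hWV s q :=
  CochainComplex.of_d (X := CX F hWV s) (Cd F hWV s) q

theorem C_d (n : ℕ) (x : Cn F hWV s n) :
    ((C F hWV s).d (n : ℤ) ((n : ℤ) + 1)).hom x = (dn F hWV s n x : Cn F hWV s (n + 1)) :=
  congrArg (fun k : (C F hWV s).X (n : ℤ) ⟶ (C F hWV s).X ((n : ℤ) + 1) => k.hom x) (C_d_eq F hWV s n)

theorem subsingleton_neg (q : ℤ) (hq : q < 0) : Subsingleton ((C F hWV s).X q) := by
  cases q with
  | ofNat n => exact absurd hq (by simp)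
  | negSucc n => exact inferInstanceAs (Subsingleton PUnit.{u + 1})

theorem castSucc_inter_le {n : ℕ} (s : Fin (m + 1) → Γ(X, V)) (b : Fin n → Fin m) :
    inter W (s ∘ Fin.castSucc) b ≤ inter W s (Fin.castSucc ∘ b) := le_rfl

/-- Forgetting the last index. -/
noncomputable def projn (s : Fin (m + 1) → Γ(X, V)) (n : ℕ) :
    Cn F hWV s n →ₗ[Γ(X, V)] Cn F hWV (s ∘ Fin.castSucc) n :=
  LinearMap.pi fun b => (secRes F (inter_le hWV s _) (inter_le hWV (s ∘ Fin.castSucc) b)
    (castSucc_inter_le s b)).comp (LinearMap.proj (Fin.castSucc ∘ b))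

theorem projn_apply (s : Fin (m + 1) → Γ(X, V)) (n : ℕ) (x : Cn F hWV s n) (b : Fin n → Fin m) :
    projn F hWV s n x b = secRes F (inter_le hWV s _) (inter_le hWV (s ∘ Fin.castSucc) b)
      (castSucc_inter_le s b) (x (Fin.castSucc ∘ b)) := rfl

theorem projn_dn (s : Fin (m + 1) → Γ(X, V)) (n : ℕ) (x : Cn F hWV s n) :
    dn F hWV (s ∘ Fin.castSucc) n (projn F hWV s n x) = projn F hWV s (n + 1) (dn F hWV s n x) := by
  refine funext fun b => ?_
  simp only [dn_apply, projn_apply, map_sum, map_smul, secRes_secRes]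
  rfl

/-- The projections in all degrees. -/
noncomputable def projX (s : Fin (m + 1) → Γ(X, V)) :
    ∀ q : ℤ, CX F hWV s q ⟶ CX F hWV (s ∘ Fin.castSucc) q
  | Int.ofNat n => ModuleCat.ofHom (projn F hWV s n)
  | Int.negSucc _ => 0

/-- The projection of complexes. -/
noncomputable def proj (s : Fin (m + 1) → Γ(X, V)) : C F hWV s ⟶ C F hWV (s ∘ Fin.castSucc) where
  f := projX F hWV s
  comm' q r hr := by
    obtain rfl : q + 1 = r := hr
    rw [C_d_eq, C_d_eq]
    cases q with
    | ofNat n => exact ModuleCat.hom_ext (LinearMap.ext fun x => projn_dn F hWV s n x)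
    | negSucc n => exact (Limits.zero_comp).trans (Limits.zero_comp).symm

theorem bijective_smul_last {U : X.Opens} (h : U ≤ V) (f : Γ(X, V)) (hf : U ≤ X.basicOpen f) :
    Function.Bijective fun x : sec F h => f • x := by
  have hu : IsUnit (X.presheaf.map (homOfLE h).op f) := by simpa using isUnit_res_pow f h hf 1
  obtain ⟨c, hc⟩ := hu.exists_left_inv
  refine Function.bijective_iff_has_inverse.2 ⟨fun x => c • (show Γ(F, U) from x), fun x => ?_, fun x => ?_⟩
  · show c • (X.presheaf.map (homOfLE h).op f • (show Γ(F, U) from x)) = (show Γ(F, U) from x)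
    rw [smul_smul, hc, one_smul]
  · show X.presheaf.map (homOfLE h).op f • (c • (show Γ(F, U) from x)) = (show Γ(F, U) from x)
    rw [smul_smul, mul_comm, hc, one_smul]

theorem good_proj (s : Fin (m + 1) → Γ(X, V)) : Good (s (Fin.last m)) (proj F hWV s) := by
  have hlast : ∀ {n : ℕ} (a : Fin n → Fin (m + 1)), (¬ ∀ k, a k ≠ Fin.last m) →
      inter W s a ≤ X.basicOpen (s (Fin.last m)) := by
    intro n a ha
    push Not at ha
    obtain ⟨k, hk⟩ := ha
    exact inf_le_right.trans ((iInf_le (fun k => X.basicOpen (s (a k))) k).trans (by rw [hk]))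
  refine ⟨fun q => ?_, fun q => ?_, fun q => ?_⟩
  · cases q with
    | negSucc n => exact fun _ => ⟨0, Subsingleton.elim (α := PUnit.{u + 1}) _ _⟩
    | ofNat n =>
      intro (y : Cn F hWV (s ∘ Fin.castSucc) n)
      refine ⟨(fun a => if h : ∀ k, a k ≠ Fin.last m then
        secRes F (inter_le hWV (s ∘ Fin.castSucc) (fun k => (a k).castPred (h k))) (inter_le hWV s a)
          (inf_le_inf_left _ (le_iInf fun k => (iInf_le (fun k => X.basicOpen (s (a k))) k).trans
            (by simp))) (y _) else 0 : Cn F hWV s n), ?_⟩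
      refine funext fun b => ?_
      show projn F hWV s n _ b = y b
      have hb : ∀ k, (Fin.castSucc ∘ b) k ≠ Fin.last m := fun k => (Fin.castSucc_lt_last (b k)).ne
      rw [projn_apply, dif_pos hb, secRes_secRes]
      exact secRes_self F _ _ _
  · cases q with
    | negSucc n => exact fun x _ _ => Subsingleton.elim (α := PUnit.{u + 1}) _ _
    | ofNat n =>
      intro (x : Cn F hWV s n) (hx : projn F hWV s n x = 0) (hgx : s (Fin.last m) • x = 0)
      refine funext fun a => ?_
      by_cases h : ∀ k, a k ≠ Fin.last m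
      · obtain ⟨b, rfl⟩ : ∃ b, Fin.castSucc ∘ b = a := ⟨fun k => (a k).castPred (h k), funext fun k => by simp⟩
        refine (secRes_bijective F (inter_le hWV s _) (inter_le hWV (s ∘ Fin.castSucc) _) (castSucc_inter_le s b) le_rfl).1 ?_
        rw [← projn_apply, hx, Pi.zero_apply, Pi.zero_apply, map_zero]
      · exact (bijective_smul_last F _ _ (hlast a h)).1 ((congrFun hgx a).trans (smul_zero _).symm)
  · cases q with
    | negSucc n => exact fun x _ => ⟨0, map_zero _, Subsingleton.elim (α := PUnit.{u + 1}) _ _⟩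
    | ofNat n =>
      intro (x : Cn F hWV s n) (hx : projn F hWV s n x = 0)
      choose y hy using fun (a : {a : Fin n → Fin (m + 1) // ¬ ∀ k, a k ≠ Fin.last m}) =>
        (bijective_smul_last F (inter_le hWV s a.1) _ (hlast a.1 a.2)).2 (x a.1)
      refine ⟨(fun a => if h : ¬ ∀ k, a k ≠ Fin.last m then y ⟨a, h⟩ else 0 : Cn F hWV s n), ?_, ?_⟩
      · refine funext fun b => ?_
        show projn F hWV s n _ b = 0
        have hb : ¬¬ ∀ k, (Fin.castSucc ∘ b) k ≠ Fin.last m := not_not.2 fun k => (Fin.castSucc_lt_last (b k)).ne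
        rw [projn_apply, dif_neg hb, map_zero]
      · refine funext fun a => ?_
        by_cases h : ∀ k, a k ≠ Fin.last m
        · show s (Fin.last m) • (dite _ _ _) = x a
          rw [dif_neg (not_not.2 h), smul_zero]
          obtain ⟨b, rfl⟩ : ∃ b, Fin.castSucc ∘ b = a := ⟨fun k => (a k).castPred (h k), funext fun k => by simp⟩
          refine (secRes_bijective F (inter_le hWV s _) (inter_le hWV (s ∘ Fin.castSucc) _) (castSucc_inter_le s b) le_rfl).1 ?_
          rw [← projn_apply, hx, Pi.zero_apply, map_zero]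
        · show s (Fin.last m) • (dite _ _ _) = x a
          rw [dif_pos h]
          exact hy ⟨a, h⟩

/-- The bottom of the tower is `F(W)` in degree zero. -/
theorem exists_qi_base (s : Fin 0 → Γ(X, V)) :
    ∃ P : C F hWV s ⟶ (HomologicalComplex.single (ModuleCat.{u} Γ(X, V)) (ComplexShape.up ℤ) 0).obj (sec F hWV),
      Qi P := by
  have hsub : ∀ q : ℤ, q ≠ 0 → Subsingleton ((C F hWV s).X q) := by
    intro q hq
    cases q with
    | negSucc n => exact inferInstanceAs (Subsingleton PUnit.{u + 1})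
    | ofNat n =>
      obtain ⟨n, rfl⟩ := Nat.exists_eq_succ_of_ne_zero (n := n) (fun h => hq (by subst h; rfl))
      exact inferInstanceAs (Subsingleton (∀ a : Fin (n + 1) → Fin 0, sec F (inter_le hWV s a)))
  have hle : W ≤ inter W s (Fin.elim0 : Fin 0 → Fin 0) := le_inf le_rfl (le_iInf fun k => k.elim0)
  let p : (C F hWV s).X 0 ⟶ sec F hWV :=
    ConcreteCategory.ofHom (C := ModuleCat.{u} Γ(X, V)) (X := (C F hWV s).X 0) (Y := sec F hWV)
      ((secRes F (inter_le hWV s _) hWV hle).comp
        (LinearMap.proj (R := Γ(X, V)) (φ := fun a : Fin 0 → Fin 0 => sec F (inter_le hWV s a)) Fin.elim0))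
  have hp : Function.Bijective p.hom := by
    refine (secRes_bijective F (inter_le hWV s Fin.elim0) hWV hle inf_le_left).comp
      ⟨fun (x y : Cn F hWV s 0) h => funext fun a => ?_,
        fun y => ⟨(fun a => Subsingleton.elim Fin.elim0 a ▸ y : Cn F hWV s 0), rfl⟩⟩
    obtain rfl : a = Fin.elim0 := Subsingleton.elim _ _
    exact h
  let P := HomologicalComplex.mkHomToSingle (K := C F hWV s) p fun i hi => by
    obtain rfl : i = -1 := by simp at hi; omega
    haveI := subsingleton_neg F hWV s (-1) (by omega)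
    refine ModuleCat.hom_ext (LinearMap.ext fun x => ?_)
    rw [Subsingleton.elim x 0, map_zero, map_zero]
  have hP : Function.Bijective (P.f 0).hom := by
    haveI : IsIso p := (ConcreteCategory.isIso_iff_bijective p).2 hp
    rw [HomologicalComplex.mkHomToSingle_f]
    exact (ConcreteCategory.isIso_iff_bijective _).1 inferInstance
  refine ⟨P, qi_of_surjective P (fun q => ?_) fun a b c _ _ x hx _ => ⟨0, map_zero _, ?_⟩⟩
  · by_cases hq : q = 0
    · subst hq
      exact hP.2
    · intro y
      haveI := ModuleCat.subsingleton_of_isZero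
        (HomologicalComplex.isZero_single_obj_X (ComplexShape.up ℤ) 0 (sec F hWV) q hq)
      exact ⟨0, Subsingleton.elim _ _⟩
  · rw [map_zero]
    by_cases hb : b = 0
    · subst hb
      exact (hP.1 (hx.trans (map_zero _).symm)).symm
    · haveI := hsub b hb
      exact Subsingleton.elim _ _

theorem exists_qi_kos (gs : List Γ(X, V)) : ∀ {m : ℕ} (s : Fin m → Γ(X, V)), (∀ i, s i ∈ gs) →
    ∃ P : kos gs (C F hWV s) ⟶
      kos gs ((HomologicalComplex.single (ModuleCat.{u} Γ(X, V)) (ComplexShape.up ℤ) 0).obj (sec F hWV)), Qi P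
  | 0, s, _ => by
    obtain ⟨P, hP⟩ := exists_qi_base F hWV s
    exact ⟨kosMap P gs, KoszulFlat.qi_kosMap' hP gs⟩
  | m + 1, s, hs => by
    obtain ⟨P, hP⟩ := exists_qi_kos gs (s ∘ Fin.castSucc) fun i => hs _
    exact ⟨kosMap (proj F hWV s) gs ≫ P, (qi_kosMap (good_proj F hWV s) gs (hs _)).comp hP⟩

end Groth.Agent.RelPerfH3.CechSections
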