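import Groth.Agent.RelPerfH3.CechSections
import Groth.Agent.S0464
import Groth.Agent.Coherent.Vanishing

/-!
# Čech cohomology of a flat quasi-coherent module along a Koszul regular sequence
-/

set_option autoImplicit false
set_option backward.isDefEq.respectTransparency false
set_option backward.isDefEq.respectTransparency.types false
set_option linter.style.haveILetI false

universe u

open CategoryTheory CategoryTheory.Limits AlgebraicGeometry Opposite TopologicalSpace CochainComplex
open Groth.Agent.Coherent Groth.Agent.CAlgH3.ExtCech Groth.Agent.CAlgH3.CechQis Groth.Agent.CechExt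

namespace Groth.Agent.RelPerfH3.CechSections

variable {X : Scheme.{u}} (F : X.Modules) {V W : X.Opens} (hWV : W ≤ V) {m : ℕ} (s : Fin m → Γ(X, V))

include hWV in
theorem inter_cons {n : ℕ} (j : Fin m) (a : Fin n → Fin m) :
    X.basicOpen (X.presheaf.map (homOfLE (inter_le hWV s a)).op (s j)) = inter W s (Fin.cons j a) := by
  rw [Scheme.basicOpen_res]
  refine le_antisymm (le_inf (inf_le_left.trans inf_le_left) (le_iInf fun k => ?_)) (le_inf ?_ ?_)
  · refine Fin.cases ?_ (fun k => ?_) k
    · simp only [Fin.cons_zero]; exact inf_le_right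
    · simp only [Fin.cons_succ]; exact inf_le_left.trans (inf_le_right.trans (iInf_le (fun k => X.basicOpen (s (a k))) k))
  · refine le_inf inf_le_left (le_iInf fun k => ?_)
    exact inf_le_right.trans ((iInf_le (fun k => X.basicOpen (s ((Fin.cons j a : Fin (n + 1) → Fin m) k))) k.succ).trans (by simp))
  · exact inf_le_right.trans ((iInf_le (fun k => X.basicOpen (s ((Fin.cons j a : Fin (n + 1) → Fin m) k))) 0).trans (by simp))

include hWV in
theorem isAffineOpen_inter (hW : IsAffineOpen W) : ∀ {n : ℕ} (a : Fin n → Fin m), IsAffineOpen (inter W s a)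
  | 0, a => by rwa [show inter W s a = W from inf_eq_left.2 (le_iInf fun k => k.elim0)]
  | n + 1, a => by
    rw [show a = Fin.cons (a 0) (Fin.tail a) from (Fin.cons_self_tail a).symm, ← inter_cons hWV s]
    exact (isAffineOpen_inter hW (Fin.tail a)).basicOpen _

variable [Coh.IsQCoh F] (hW : IsAffineOpen W)
include hW

theorem exists_extend (j : Fin m) {n : ℕ} (a : Fin n → Fin m) (h : inter W s (Fin.cons j a) ≤ inter W s a)
    (t : sec F (inter_le hWV s (Fin.cons j a))) : ∃ (k : ℕ) (y : sec F (inter_le hWV s a)),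
      secRes F (inter_le hWV s a) (inter_le hWV s _) h y = s j ^ k • t := by
  have e := inter_cons hWV s j a
  obtain ⟨k, y, hy⟩ := qcoh_exists_pow_smul (isAffineOpen_inter hWV s hW a) F
    (X.presheaf.map (homOfLE (inter_le hWV s a)).op (s j)) (resM F e.le (show Γ(F, _) from t))
  refine ⟨k, y, ?_⟩
  have h2 := congrArg (resM F e.ge) hy
  rw [resM_resM, resM_smul, resM_resM, resM_refl] at h2
  refine h2.trans ?_
  show _ • _ = X.presheaf.map (homOfLE (inter_le hWV s (Fin.cons j a))).op (s j ^ k) • (show Γ(F, _) from t)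
  refine congrArg (fun z : Γ(X, inter W s (Fin.cons j a)) => z • (show Γ(F, _) from t)) ?_
  rw [← map_pow, ← ConcreteCategory.comp_apply, ← ConcreteCategory.comp_apply, ← Functor.map_comp, ← Functor.map_comp]
  rfl

theorem exists_kill (j : Fin m) {n : ℕ} (a : Fin n → Fin m) (h : inter W s (Fin.cons j a) ≤ inter W s a)
    (z : sec F (inter_le hWV s a))
    (hz : secRes F (inter_le hWV s a) (inter_le hWV s (Fin.cons j a)) h z = 0) : ∃ k : ℕ, s j ^ k • z = 0 := by
  have e := inter_cons hWV s j a
  obtain ⟨k, hk⟩ := qcoh_exists_pow_smul_eq_zero (isAffineOpen_inter hWV s hW a) F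
    (X.presheaf.map (homOfLE (inter_le hWV s a)).op (s j)) (show Γ(F, _) from z)
    ((resM_resM F h e.le _).symm.trans ((congrArg (resM F e.le) hz).trans (map_zero _)))
  refine ⟨k, ?_⟩
  show X.presheaf.map (homOfLE (inter_le hWV s a)).op (s j ^ k) • (show Γ(F, _) from z) = 0
  rw [map_pow]
  exact hk

theorem exists_uniform_kill (j : Fin m) {n : ℕ} (z : Cn F hWV s n)
    (hz : ∀ (a : Fin n → Fin m) (h : inter W s (Fin.cons j a) ≤ inter W s a),
      secRes F (inter_le hWV s a) (inter_le hWV s (Fin.cons j a)) h (z a) = 0) : ∃ k : ℕ, s j ^ k • z = 0 := by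
  have hle : ∀ a : Fin n → Fin m, inter W s (Fin.cons j a) ≤ inter W s a := fun a => by
    rw [← inter_cons hWV s]; exact X.basicOpen_le _
  choose k hk using fun a => exists_kill F hWV s hW j a (hle a) (z a) (hz a _)
  refine ⟨Finset.univ.sup k, funext fun a => ?_⟩
  show s j ^ Finset.univ.sup k • z a = 0
  rw [← Nat.sub_add_cancel (Finset.le_sup (f := k) (Finset.mem_univ a)), pow_add, mul_smul, hk, smul_zero]

theorem exists_uniform_extend (j : Fin m) {n : ℕ} (x : Cn F hWV s (n + 1)) : ∃ (k : ℕ) (y : Cn F hWV s n),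
    ∀ (a : Fin n → Fin m) (h : inter W s (Fin.cons j a) ≤ inter W s a),
      secRes F (inter_le hWV s a) (inter_le hWV s (Fin.cons j a)) h (y a) = s j ^ k • x (Fin.cons j a) := by
  have hle : ∀ a : Fin n → Fin m, inter W s (Fin.cons j a) ≤ inter W s a := fun a => by
    rw [← inter_cons hWV s]; exact X.basicOpen_le _
  choose k y hy using fun a => exists_extend F hWV s hW j a (hle a) (x (Fin.cons j a))
  refine ⟨Finset.univ.sup k, fun a => s j ^ (Finset.univ.sup k - k a) • y a, fun a h => ?_⟩
  rw [map_smul, hy, smul_smul, ← pow_add, Nat.sub_add_cancel (Finset.le_sup (f := k) (Finset.mem_univ a))]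

theorem tors_dn (j : Fin m) {n : ℕ} (x : Cn F hWV s (n + 1)) (hx : dn F hWV s (n + 1) x = 0) :
    ∃ (k : ℕ) (y : Cn F hWV s n), dn F hWV s n y = s j ^ k • x := by
  obtain ⟨N, y, hy⟩ := exists_uniform_extend F hWV s hW j x
  obtain ⟨M, hM⟩ := exists_uniform_kill F hWV s hW j (dn F hWV s n y - s j ^ N • x) fun a h => by
    have hc := congrFun hx (Fin.cons j a)
    rw [dn_apply, Fin.sum_univ_succ] at hc
    simp only [Fin.val_zero, pow_zero, one_smul, Fin.val_succ, pow_succ, mul_neg, mul_one, neg_smul,
      Pi.zero_apply] at hc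
    have h0 : ∀ (b : Fin (n + 1) → Fin m) (hb : inter W s (Fin.cons j a) ≤ inter W s b), b = a →
        secRes F (inter_le hWV s b) (inter_le hWV s (Fin.cons j a)) hb (x b) =
          secRes F (inter_le hWV s a) (inter_le hWV s (Fin.cons j a)) h (x a) := by
      rintro b hb rfl; rfl
    rw [h0 _ _ (funext fun k => by simp), Finset.sum_neg_distrib, ← sub_eq_add_neg, sub_eq_zero] at hc
    show secRes F _ _ h (dn F hWV s n y a - s j ^ N • x a) = 0
    rw [map_sub, map_smul, sub_eq_zero, hc, Finset.smul_sum, dn_apply, map_sum]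
    refine Finset.sum_congr rfl fun i _ => ?_
    rw [map_smul, secRes_secRes, smul_comm (s j ^ N)]
    refine congrArg ((-1 : Γ(X, V)) ^ (i : ℕ) • ·) ?_
    have h1 : ∀ (b : Fin (n + 1) → Fin m) (hb : inter W s (Fin.cons j a) ≤ inter W s b),
        b = Fin.cons j (a ∘ i.succAbove) →
        secRes F (inter_le hWV s b) (inter_le hWV s (Fin.cons j a)) hb (x b) =
          secRes F (inter_le hWV s (Fin.cons j (a ∘ i.succAbove))) (inter_le hWV s (Fin.cons j a))
            ((le_inf inf_le_left (le_iInf fun k => by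
              refine inf_le_right.trans (Fin.cases ?_ (fun k => ?_) k)
              · simpa using iInf_le (fun l => X.basicOpen (s ((Fin.cons j a : Fin (n + 2) → Fin m) l))) 0
              · simpa using iInf_le (fun l => X.basicOpen (s ((Fin.cons j a : Fin (n + 2) → Fin m) l))) (i.succAbove k).succ)))
            (x (Fin.cons j (a ∘ i.succAbove))) := by
      rintro b hb rfl; rfl
    rw [h1 _ _ (funext fun k => by refine Fin.cases ?_ (fun k => ?_) k <;> simp [Fin.succ_succAbove_zero, Fin.succ_succAbove_succ]),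
      ← map_smul, ← hy (a ∘ i.succAbove) (by rw [← inter_cons hWV s]; exact X.basicOpen_le _), secRes_secRes]
  refine ⟨M + N, s j ^ M • y, ?_⟩
  rw [map_smul, pow_add, mul_smul, ← sub_eq_zero, ← smul_sub, hM]

theorem tors_C (j : Fin m) : Tors (s j) (C F hWV s) := by
  intro p q r hp hr z hz
  cases q with
  | negSucc n =>
    haveI := subsingleton_neg F hWV s (Int.negSucc n) (Int.negSucc_lt_zero n)
    exact ⟨0, 0, Subsingleton.elim _ _⟩
  | ofNat n =>
    obtain rfl : r = (n : ℤ) + 1 := hr.symm
    have hz' : dn F hWV s n z = 0 := (C_d F hWV s n z).symm.trans hz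
    cases n with
    | zero =>
      obtain ⟨k, hk⟩ := exists_uniform_kill F hWV s hW j (show Cn F hWV s 0 from z) fun a h => by
        have hc := congrFun hz' (Fin.cons j a)
        rw [dn_zero_apply, Pi.zero_apply] at hc
        obtain rfl : a = Fin.elim0 := Subsingleton.elim _ _
        exact hc
      refine ⟨k, 0, ?_⟩
      rw [map_zero]
      exact hk.symm
    | succ n =>
      obtain rfl : p = (n : ℤ) := by have : p + 1 = ((n + 1 : ℕ) : ℤ) := hp; omega
      obtain ⟨k, y, hy⟩ := tors_dn F hWV s hW j z hz'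
      exact ⟨k, y, (C_d F hWV s n y).trans hy⟩

/-- Exactness of the augmented complex below the length of a Koszul regular sequence. -/
theorem ex_C (fs : List Γ(X, V)) (hfs : LCI.IsKoszulRegularSeq Γ(X, V) fs) [Module.Flat Γ(X, V) (sec F hWV)]
    (q : ℤ) (hq : q < fs.length) : Ex (C F hWV fs.get) q := by
  refine KoszulFlat.ex_of_tors fs (fun i hi p r _ _ z _ => ?_) (fun g hg => ?_) (fun i hi => ?_) (q + 1).toNat q
    (by omega) hq
  · haveI := subsingleton_neg F hWV fs.get i hi
    exact ⟨0, Subsingleton.elim _ _⟩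
  · obtain ⟨j, rfl⟩ := List.mem_iff_get.1 hg
    exact tors_C F hWV fs.get hW j
  · obtain ⟨P, hP⟩ := exists_qi_kos F hWV fs fs.get fun j => List.get_mem fs j
    exact KoszulFlat.ex_of_qi hP (KoszulFlat.ex_kos_single fs hfs _ (by omega))

end Groth.Agent.RelPerfH3.CechSections
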