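import Groth.Agent.KPr28.Counit
import Groth.Agent.CAlgSmall.FPFiltered

/-!
# Regular quasi-coherent modules on projective bundles are generated by their direct image
-/

set_option autoImplicit false
set_option backward.isDefEq.respectTransparency false
set_option linter.style.haveILetI false

universe u

open CategoryTheory CategoryTheory.Limits AlgebraicGeometry TopologicalSpace
open Groth.Agent.Coherent

noncomputable section

namespace Groth.Agent.RelPerfH3.CounitQCoh

open KPr28

variable {n : ℕ} {Y : Scheme.{u}}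

/-- The twisted direct image spans the twisted image of the counit. -/
theorem comp_cokernel_eq_zero {F G : (KRR.PY n Y).Modules} (hreg : KRR.IsRegSheaf n Y F) (v : G ⟶ F)
    (hup : (Coherent.tensE (Twist.twistOver n Y 1)).map v ≫ cokernel.π
      ((Scheme.Modules.pullbackPushforwardAdjunction (KRR.pr n Y)).counit.app (KRR.twF n Y 1 F)) = 0) :
    v ≫ cokernel.π ((Scheme.Modules.pullbackPushforwardAdjunction (KRR.pr n Y)).counit.app F) = 0 := by
  obtain ⟨A, B, φ, ⟨eB⟩, ι, π, hid, hk⟩ := exists_lastStep (n := n) (Y := Y)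
  obtain ⟨hφ, hvan, -⟩ := hk F hreg
  let p := Scheme.Modules.pushforward (KRR.pr n Y)
  let q := Scheme.Modules.pullback (KRR.pr n Y)
  let P := p ⋙ q
  let ε := (Scheme.Modules.pullbackPushforwardAdjunction (KRR.pr n Y)).counit
  haveI : Epi (p.map ((tensR F).map φ)) := @epi_push_of_van n Y _ _ _ hφ hvan
  haveI : Epi (P.map ((tensR F).map φ)) := q.map_epi _
  let TB := (DCoh.tensorBi (X := KRR.PY n Y)).obj B
  let TA := (DCoh.tensorBi (X := KRR.PY n Y)).obj A
  let c := cokernel.π (ε.app F)
  haveI : PreservesLimitsOfSize.{0, 0} p :=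
    (Scheme.Modules.pullbackPushforwardAdjunction (KRR.pr n Y)).rightAdjoint_preservesLimits
  haveI : p.Additive := Functor.additive_of_preserves_binary_products p
  haveI : q.Additive := (Scheme.Modules.pullbackPushforwardAdjunction (KRR.pr n Y)).left_adjoint_additive
  haveI : P.Additive := inferInstanceAs (p ⋙ q).Additive
  let O := Coh.structureModule (KRR.PY n Y)
  let TO := (DCoh.tensorBi (X := KRR.PY n Y)).obj O
  have h0 : ε.app (TO.obj F) ≫ TO.map c = 0 := by
    rw [← cancel_mono (AmpleLib.unitTensorIso (cokernel (ε.app F))).hom, zero_comp, Category.assoc,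
      show TO.map c ≫ _ = _ from unitTensorIso_natural c, ← Category.assoc]
    have h := ε.naturality (AmpleLib.unitTensorIso F).hom
    exact (congrArg (· ≫ c) h.symm).trans ((Category.assoc _ _ _).trans
      ((congrArg (P.map (AmpleLib.unitTensorIso F).hom ≫ ·) (cokernel.condition _)).trans comp_zero))
  have hA : ε.app (TA.obj F) ≫ TA.map c = 0 := by
    have hdec : 𝟙 (TA.obj F) = ∑ b, (tensR F).map (π b) ≫ (tensR F).map (ι b) := by
      rw [show (∑ b, (tensR F).map (π b) ≫ (tensR F).map (ι b)) = (tensR F).map (∑ b, π b ≫ ι b) by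
        rw [Functor.map_sum]; exact Finset.sum_congr rfl fun b _ => ((tensR F).map_comp _ _).symm]
      rw [hid, CategoryTheory.Functor.map_id]
      rfl
    calc ε.app (TA.obj F) ≫ TA.map c
        = P.map (∑ b, (tensR F).map (π b) ≫ (tensR F).map (ι b)) ≫ ε.app (TA.obj F) ≫ TA.map c := by
          rw [← hdec]; exact ((congrArg (· ≫ _) (P.map_id _)).trans (Category.id_comp _)).symm
      _ = 0 := by
          rw [Functor.map_sum, Preadditive.sum_comp]
          refine Finset.sum_eq_zero fun b _ => ?_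
          have h := ε.naturality ((tensR F).map (ι b))
          have h' : (tensR F).map (ι b) ≫ TA.map c = TO.map c ≫ (tensR (cokernel (ε.app F))).map (ι b) :=
            (((DCoh.tensorBi (X := KRR.PY n Y)).map (ι b)).naturality c).symm
          rw [P.map_comp, Category.assoc, ← Category.assoc (P.map ((tensR F).map (ι b))),
            show P.map ((tensR F).map (ι b)) ≫ ε.app (TA.obj F) = ε.app (TO.obj F) ≫ (tensR F).map (ι b) from h,
            Category.assoc, h', ← Category.assoc (ε.app (TO.obj F)), h0, zero_comp, comp_zero]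
  have hB : ε.app (TB.obj F) ≫ TB.map c = 0 := by
    rw [← cancel_epi (P.map ((tensR F).map φ)), comp_zero,
      ← Category.assoc, show P.map ((tensR F).map φ) ≫ ε.app (TB.obj F) = ε.app (TA.obj F) ≫ (tensR F).map φ from
        ε.naturality ((tensR F).map φ), Category.assoc,
      show (tensR F).map φ ≫ TB.map c = TA.map c ≫ (tensR (cokernel (ε.app F))).map φ from
        (((DCoh.tensorBi (X := KRR.PY n Y)).map φ).naturality c).symm, ← Category.assoc, hA, zero_comp]
  let T1 := Coherent.tensE (Twist.twistOver n Y 1)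
  haveI : PreservesFiniteColimits T1 := Coherent.preservesFiniteColimits_tensE (isFinLocFree_twistOver _)
  haveI : T1.Additive := Functor.additive_of_preserves_binary_products T1
  let e := ((DCoh.tensorBi (X := KRR.PY n Y)).map eB.hom).app F
  have hnat := ((DCoh.tensorBi (X := KRR.PY n Y)).map eB.hom).naturality c
  have h0' : ε.app (T1.obj F) ≫ T1.map c = 0 := by
    haveI : IsIso e := inferInstance
    haveI : IsIso (P.map e) := inferInstance
    rw [← cancel_epi (P.map e), comp_zero, ← Category.assoc,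
      show P.map e ≫ ε.app (T1.obj F) = ε.app (TB.obj F) ≫ e from ε.naturality e, Category.assoc,
      show e ≫ T1.map c = TB.map c ≫ _ from hnat.symm, ← Category.assoc, hB, zero_comp]
  have h1 : T1.map (v ≫ c) = 0 := by
    obtain ⟨g, hg⟩ : ∃ g, cokernel.π (ε.app (T1.obj F)) ≫ g = T1.map c :=
      ⟨cokernel.desc _ _ h0', cokernel.π_desc _ _ _⟩
    rw [T1.map_comp, ← hg, ← Category.assoc, show T1.map v ≫ cokernel.π (ε.app (T1.obj F)) = 0 from hup, zero_comp]
  let J := Coherent.tensE (Twist.twistOver n Y (-1))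
  obtain ⟨H, hH⟩ : ∃ H, H = v ≫ c := ⟨_, rfl⟩
  show v ≫ c = 0
  rw [← hH] at h1 ⊢
  haveI : PreservesFiniteLimits T1 := Coherent.preservesFiniteLimits_tensE (isFinLocFree_twistOver _)
  have hz : IsZero (T1.obj (Abelian.image H)) := by
    haveI := T1.map_epi (Abelian.factorThruImage H)
    refine IsZero.of_epi_eq_zero (T1.map (Abelian.factorThruImage H)) ?_
    haveI := T1.map_mono (Abelian.image.ι H)
    rw [← cancel_mono (T1.map (Abelian.image.ι H)), ← T1.map_comp, Abelian.image.fac, h1, zero_comp]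
  obtain ⟨e2⟩ := CM28.nonempty_twF_twF (Abelian.image H) (show (-1 : ℤ) + 1 = 0 by norm_num)
  obtain ⟨e3⟩ := CM28.nonempty_twF_zero (Abelian.image H)
  have hz' : IsZero (Abelian.image H) :=
    (((DCoh.tensorBi (X := KRR.PY n Y)).obj _).map_isZero hz).of_iso (e2 ≪≫ e3).symm
  rw [← Abelian.image.fac H, hz'.eq_of_src (Abelian.image.ι H) 0, comp_zero]

/-- Coherent modules map into the image of the counit. -/
theorem comp_cokernel_eq_zero' (j : ℕ) : ∀ (F G : (KRR.PY n Y).Modules), KRR.IsRegSheaf n Y F →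
    (∀ t : ℕ, j ≤ t → Curv2.IsGloballyGenerated (KRR.twF n Y (t : ℤ) G)) → ∀ v : G ⟶ F,
      v ≫ cokernel.π ((Scheme.Modules.pullbackPushforwardAdjunction (KRR.pr n Y)).counit.app F) = 0 := by
  induction j with
  | zero =>
    intro F G hreg hG v
    let ε := (Scheme.Modules.pullbackPushforwardAdjunction (KRR.pr n Y)).counit
    obtain ⟨e0⟩ := CM28.nonempty_twF_zero G
    haveI : Epi (ε.app G) := by
      refine AmpleLib.epi_counit_of_globallyGenerated _ _ fun x => ⟨⊤, trivial, ?_⟩
      exact AmpleLib.globallyGenerated_of_iso ((Scheme.Modules.restrictFunctorIsoPullback _).app _).symm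
        (Desc19b.isGloballyGenerated_pullback (π := (KRR.pr n Y ⁻¹ᵁ ⊤).ι)
          (AmpleLib.globallyGenerated_of_iso e0 (hG 0 le_rfl)))
    rw [← cancel_epi (ε.app G), comp_zero, ← Category.assoc, show ε.app G ≫ v = _ from (ε.naturality v).symm,
      Category.assoc, cokernel.condition, comp_zero]
  | succ j ih =>
    intro F G hreg hG v
    refine comp_cokernel_eq_zero hreg v (ih _ _ (isRegSheaf_twF hreg (show (0 : ℤ) ≤ ((1 : ℕ) : ℤ) by omega))
      (fun t ht => ?_) _)
    obtain ⟨e⟩ := CM28.nonempty_twF_twF G (show (t : ℤ) + 1 = ((t + 1 : ℕ) : ℤ) by push_cast; ring)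
    exact AmpleLib.globallyGenerated_of_iso e.symm (hG (t + 1) (by omega))

/-- A regular quasi-coherent module over an affine base is generated by its direct image. -/
theorem epi_counit_affine [IsAffine Y] (F : (KRR.PY n Y).Modules) [Coh.IsQCoh F] (hreg : KRR.IsRegSheaf n Y F) :
    Epi ((Scheme.Modules.pullbackPushforwardAdjunction (KRR.pr n Y)).counit.app F) := by
  haveI : IsProper (KRR.pr n Y) := RelVALib.isProper_toBase n Y
  haveI : CompactSpace (KRR.PY n Y) := QuasiCompact.compactSpace_of_compactSpace (KRR.pr n Y)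
  haveI : QuasiSeparatedSpace (KRR.PY n Y) := quasiSeparatedSpace_of_quasiSeparated (KRR.pr n Y)
  obtain ⟨I, _, _, D, c, hc, hFP, rfl⟩ := CAlgSmall.FPFiltered.exists_filtered (X := KRR.PY n Y) F
  refine Abelian.epi_of_cokernel_π_eq_zero _ (hc.hom_ext fun i => ?_)
  rw [comp_zero]
  have hcoh : Coh.IsCoh (D.obj i) := ⟨CAlgSmall.FPExtend.isQCoh_of_isFP _ (hFP i), CAlgSmall.FPExtend.isFT_of_isFP _ (hFP i)⟩
  obtain ⟨N, hN⟩ := AmpleLib.eventually_globallyGenerated (Gen.isAmple_twist (n := n) (Y := Y)) _ hcoh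
  refine comp_cokernel_eq_zero' N _ _ hreg (fun t ht => ?_) _
  obtain ⟨e⟩ := nonempty_tensorPow_twist n Y t
  exact AmpleLib.globallyGenerated_of_iso (AmpleLib.tensorComm _ _ ≪≫ AmpleLib.tensorIso e (Iso.refl _)) (hN t ht)

/-- A regular quasi-coherent module is generated by its direct image. -/
theorem epi_counit (F : (KRR.PY n Y).Modules) [Coh.IsQCoh F] (hreg : KRR.IsRegSheaf n Y F) :
    Epi ((Scheme.Modules.pullbackPushforwardAdjunction (KRR.pr n Y)).counit.app F) := by
  haveI : IsProper (KRR.pr n Y) := RelVALib.isProper_toBase n Y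
  refine epi_counit_of_cover F fun y => ?_
  obtain ⟨V, hV, hy, -⟩ :=
    Opens.isBasis_iff_nbhd.mp Y.isBasis_affineOpens (show y ∈ (⊤ : Y.Opens) from trivial)
  let j : Scheme.Opens.toScheme V ⟶ Y := Scheme.Opens.ι V
  have hsq := isPullback_projSpaceMap n j (Gen.projSpaceMap_pr _)
  refine ⟨_, _, KRR.projSpaceMap n j, KRR.pr n (Scheme.Opens.toScheme V), j, inferInstance, hsq, ⟨⟨y, hy⟩, rfl⟩, ?_⟩
  haveI : IsAffine (Scheme.Opens.toScheme V) := hV
  haveI : Coh.IsQCoh ((Scheme.Modules.pullback (KRR.projSpaceMap n j)).obj F) := EGA43.InjFibre.isQCoh_pullback _ _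
  refine epi_counit_affine _ fun i hi => ?_
  haveI := Gen.isQCoh_twF (F := F) (-(i : ℤ))
  obtain ⟨e⟩ := nonempty_pullback_twF n j (-(i : ℤ)) F
  exact van_of_iso e (isZero_rpushAb_of_sq hsq _ i (hreg i hi))

end Groth.Agent.RelPerfH3.CounitQCoh
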