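import Groth.Agent.Dual22Lib.Chart
import Groth.Agent.Dual22Lib.SchStalk
import Groth.Agent.DualLib.LocGlobal
import Groth.Agent.DualLib.LocDualizing
import Groth.Agent.DualLib.FlatGlobal
import Groth.Agent.FlatCx12.AmpFibre
import Groth.Agent.Coherent.InjRestrict
import Groth.Agent.CAlgH3.ZariskiPairBundles
import Groth.Agent.AmpleLib.CounitEpi
import Groth.Agent.Coherent.RpushSupport
import Groth.Agent.DCat.SuppOpen
import Groth.Agent.S6965

/-!
# Bounded injective complexes with dualizing stalks are dualizing on affine charts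
-/

set_option autoImplicit false
set_option backward.isDefEq.respectTransparency false
set_option backward.defeqAttrib.useBackward true
set_option backward.isDefEq.respectTransparency.types false
set_option linter.style.haveILetI false

universe v u

open CategoryTheory CategoryTheory.Limits DerivedCategory AlgebraicGeometry

attribute [local instance] HasDerivedCategory.standard
attribute [-instance] Int.instConditionallyCompleteLinearOrder

namespace Groth.Agent.RelPerfH3.DualStalks

theorem subsingleton_hom_single {C : Type*} [Category C] [Abelian C] [HasDerivedCategory C]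
    (J : CochainComplex C ℤ) (hJ : ∀ i, Injective (J.X i)) {a b : ℤ}
    (hb : ∀ i, (i < a ∨ b < i) → IsZero (J.X i)) (M : C) (i : ℤ) (hi : i < a ∨ b < i) :
    Subsingleton ((DerivedCategory.singleFunctor C 0).obj M ⟶ (Q.obj J)⟦i⟧) := by
  let L : CochainComplex C ℤ := J⟦i⟧
  haveI : L.IsStrictlyGE (a - i) := (CochainComplex.isStrictlyGE_iff _ _).2 fun n hn =>
    (hb (n + i) (Or.inl (by omega))).of_iso (J.shiftFunctorObjXIso i n (n + i) rfl)
  haveI : ∀ n, Injective (L.X n) := fun n => Injective.of_iso (J.shiftFunctorObjXIso i n (n + i) rfl).symm (hJ _)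
  haveI : L.IsKInjective := CochainComplex.isKInjective_of_injective L (a - i)
  have hz : IsZero (L.X 0) :=
    (hb (0 + i) (by rw [zero_add]; exact hi)).of_iso (J.shiftFunctorObjXIso i 0 (0 + i) rfl)
  let e : (Q.obj J)⟦i⟧ ≅ Q.obj L := ((Q (C := C)).commShiftIso i).symm.app J
  let e' : (DerivedCategory.singleFunctor C 0).obj M ≅ Q.obj ((CochainComplex.singleFunctor C 0).obj M) :=
    Iso.refl _
  have h0 := (DCat.Amplitude.from_single_iff L M 0).2 fun f _ => ⟨0, (hz.eq_of_tgt _ _).trans zero_comp.symm⟩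
  haveI : Subsingleton (Q.obj ((CochainComplex.singleFunctor C 0).obj M) ⟶ Q.obj L) :=
    ⟨fun φ ψ => (h0 φ).trans (h0 ψ).symm⟩
  exact (Iso.homCongr e' e).injective.subsingleton

variable {X : Scheme.{u}} [IsNoetherian X]
  [∀ (U : Scheme.{u}) (j : U ⟶ X) [IsOpenImmersion j], PreservesFiniteLimits (Scheme.Modules.restrictFunctor j)]
  [∀ (R : CommRingCat.{u}), PreservesFiniteLimits (tilde.functor R)]

/-- Dualizing stalks and finite injective dimension give a dualizing complex on a chart. -/
theorem exists_dualizing_chart (I : CochainComplex X.Modules ℤ) (hI : ∀ i : ℤ, Injective (I.X i)) {a b : ℤ}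
    (hb : ∀ i : ℤ, (i < a ∨ b < i) → IsZero (I.X i))
    (hcoh : ∀ i : ℤ, Coh.IsCoh (DCoh.HD (DCoh.toD X I) i))
    (hst : ∀ x : X, Dual.IsDualizing (X.presheaf.stalk ((𝟙 X : X ⟶ X).base x))
      (DRing.toD ((DerSch.stalkCxOver (𝟙 X) x).obj I)))
    {A : Type u} [CommRing A] (j : Spec (CommRingCat.of A) ⟶ X) [IsOpenImmersion j] :
    ∃ ω : Dual.D A, Dual.IsDualizing A ω ∧
      Nonempty ((DCoh.restrictD j).obj (DCoh.toD X I) ≅ (DCoh.tildeD (CommRingCat.of A)).obj ω) := by
  haveI : IsNoetherianRing A := Dual22Lib.isNoetherianRing_chart j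
  haveI : IsNoetherianRing (CommRingCat.of A) := ‹IsNoetherianRing A›
  let R : CommRingCat.{u} := CommRingCat.of A
  haveI : (tilde.functor R).Additive := (fun (B : CommRingCat.{u}) => (inferInstance : (tilde.functor B).Additive)) R
  haveI : PreservesFiniteColimits (tilde.functor R) :=
    (fun (B : CommRingCat.{u}) => (inferInstance : PreservesFiniteColimits (tilde.functor B))) R
  haveI : PreservesFiniteLimits (tilde.functor R) := inferInstance
  let r := Scheme.Modules.restrictFunctor j
  let J := (r.mapHomologicalComplex (ComplexShape.up ℤ)).obj I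
  let e₀ : (DCoh.restrictD j).obj (DCoh.toD X I) ≅ DCoh.toD _ J := r.mapDerivedCategoryFactors.app I
  have hcohJ : ∀ i, Coh.IsCoh (DCoh.HD (DCoh.toD _ J) i) := fun i =>
    Coherent.isCoh_of_iso ((DCat.SuppOpen.hdMapIso r (DCoh.toD X I) i).symm ≪≫
      (DerivedCategory.homologyFunctor _ i).mapIso e₀) (AmpleLib.isCoh_restrict j _ (hcoh i))
  obtain ⟨hfull, hfaith, hess⟩ := DQCoh.tildeD_main R
  obtain ⟨ω, ⟨e⟩⟩ := (hess (DCoh.toD _ J)).1 fun i => (hcohJ i).1
  refine ⟨ω, ?_, ⟨e₀ ≪≫ e.symm⟩⟩
  have hfin : ∀ i, Module.Finite A (Dual.HD A ω i) := fun i => by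
    obtain ⟨η⟩ := DQCoh.nonempty_homology_natIso (tilde.functor R) i
    have h1 : Coh.IsCoh (tilde ((DerivedCategory.homologyFunctor (ModuleCat.{u} R) i).obj ω)) :=
      Coherent.isCoh_of_iso ((DerivedCategory.homologyFunctor _ i).mapIso e.symm ≪≫ η.app ω) (hcohJ i)
    exact (Props12.isFT_tilde_iff _).1 h1.2
  haveI hJinj : ∀ i, Injective (J.X i) := fun i => Coherent.injective_restrict j (I.X i) (hI := hI i)
  have hvan : ∀ (M : Type u) [AddCommGroup M] [Module A M] (i : ℤ), (i < a ∨ b < i) →
      Subsingleton (DRing.ExtD A (Dual.inD A M) ω i) := by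
    intro M _ _ i hi
    let T := DCoh.tildeD R
    let N : ModuleCat.{u} A := ModuleCat.of A M
    let s : T.obj (Dual.inD A M) ≅ (DerivedCategory.singleFunctor _ 0).obj ((tilde.functor R).obj N) :=
      ((tilde.functor R).mapDerivedCategorySingleFunctor 0).app N
    haveI := subsingleton_hom_single J hJinj
      (fun k hk => r.map_isZero (hb k hk)) ((tilde.functor R).obj N) i hi
    haveI := hfaith
    refine ⟨fun φ ψ => T.map_injective ?_⟩
    refine (Iso.homCongr s ((T.commShiftIso i).app ω ≪≫ (shiftFunctor _ i).mapIso e)).injective ?_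
    exact Subsingleton.elim _ _
  have hinj : DRing.HasInjAmplitudeIn A a b ω :=
    ((S6965.result A ω a b).out 0 1).2 fun M iM iA i hi => @hvan M iM iA i hi
  refine DualLib.isDualizing_of_local hfin (DualLib.isSmall_of_injAmp hinj hfin) hinj fun m hm => ?_
  let x : Spec R := ⟨m, hm.isPrime⟩
  let O := (Spec R).presheaf.stalk x
  let κ : A →+* O := DCat.stalkφ x
  let σ : X.presheaf.stalk ((𝟙 X : X ⟶ X).base (j x)) →+* O := ((j ≫ 𝟙 X).stalkMap x).hom
  have hσ : Function.Bijective σ := ConcreteCategory.bijective_of_isIso ((j ≫ 𝟙 X).stalkMap x)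
  let E := DerivedCategory.Q.objPreimage ω
  let eE : DRing.toD E ≅ ω := DerivedCategory.Q.objObjPreimageIso ω
  let G := ((tilde.functor R).mapHomologicalComplex (ComplexShape.up ℤ)).obj E
  let eG : DCoh.toD _ G ≅ DCoh.toD _ J :=
    ((tilde.functor R).mapDerivedCategoryFactors.app E).symm ≪≫ (DCoh.tildeD R).mapIso eE ≪≫ e
  obtain ⟨s₁⟩ := FlatCx12.AmpFibre.nonempty_stalk_restrict (𝟙 X) j I x
  obtain ⟨s₂⟩ := FlatCx12.AmpThick.nonempty_stalk_iso (j ≫ 𝟙 X) x eG
  letI : Algebra A O := κ.toAlgebra
  haveI : IsLocalization m.primeCompl O := StructureSheaf.IsLocalization.to_stalk R x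
  let α := algebraMap A (Localization.AtPrime m)
  let ε : O ≃ₐ[A] Localization.AtPrime m := IsLocalization.algEquiv m.primeCompl O (Localization.AtPrime m)
  let τ : X.presheaf.stalk ((𝟙 X : X ⟶ X).base (j x)) →+* Localization.AtPrime m :=
    ε.toRingEquiv.toRingHom.comp σ
  let Ex := ((ModuleCat.extendScalars.{u, u, u} κ).mapHomologicalComplex (ComplexShape.up ℤ)).obj E
  haveI : PreservesFiniteLimits (ModuleCat.extendScalars.{u, u, u} κ) ∧
      PreservesFiniteColimits (ModuleCat.extendScalars.{u, u, u} κ) :=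
    Dual22Lib.preserves_extendScalars (B := O) m.primeCompl
  obtain ⟨_, _⟩ := this
  obtain ⟨_, _⟩ := Dual22Lib.preserves_extendScalars (A := A) (B := Localization.AtPrime m) m.primeCompl
  let S := X.presheaf.stalk ((𝟙 X : X ⟶ X).base (j x))
  haveI : IsNoetherianRing S := (hst (j x)).isNoetherianRing
  letI : Algebra S O := σ.toAlgebra
  haveI : IsLocalization (⊥ : Submonoid S) S := IsLocalization.self bot_le
  haveI : IsLocalization (⊥ : Submonoid S) O :=
    IsLocalization.isLocalization_of_algEquiv (⊥ : Submonoid S)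
      (AlgEquiv.ofRingEquiv (f := RingEquiv.ofBijective σ hσ) fun _ => rfl)
  obtain ⟨_, _⟩ := Dual22Lib.preserves_extendScalars (A := S) (B := O) (⊥ : Submonoid S)
  have h1 : Dual.IsDualizing S (DRing.toD (((ModuleCat.restrictScalars.{u} σ).mapHomologicalComplex
      (ComplexShape.up ℤ)).obj Ex)) :=
    DualLib.isDualizing_of_iso (s₁ ≪≫ s₂.symm ≪≫ DerivedCategory.Q.mapIso
      (((ModuleCat.restrictScalars.{u} σ).mapHomologicalComplex (ComplexShape.up ℤ)).mapIso
        ((NatIso.mapHomologicalComplex (DCat.tildeStalkIso x) (ComplexShape.up ℤ)).app E)).symm) (hst (j x))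
  let adj := ModuleCat.extendRestrictScalarsAdj.{u, u, u} σ
  haveI : (ModuleCat.restrictScalars.{u} σ).IsEquivalence :=
    (ModuleCat.restrictScalarsEquivalenceOfRingEquiv (RingEquiv.ofBijective σ hσ)).isEquivalence_functor
  let ci : ((ModuleCat.extendScalars.{u, u, u} σ).mapHomologicalComplex (ComplexShape.up ℤ)).obj
      (((ModuleCat.restrictScalars.{u} σ).mapHomologicalComplex (ComplexShape.up ℤ)).obj Ex) ≅ Ex :=
    (NatIso.mapHomologicalComplex (asIso adj.counit) (ComplexShape.up ℤ)).app Ex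
  have h2 : Dual.IsDualizing O ((DualLib.extD κ).obj ω) :=
    DualLib.isDualizing_of_iso (((ModuleCat.extendScalars.{u, u, u} σ).mapDerivedCategoryFactors.app _) ≪≫
      DerivedCategory.Q.mapIso ci ≪≫ ((ModuleCat.extendScalars.{u, u, u} κ).mapDerivedCategoryFactors.app E).symm ≪≫
      (DualLib.extD κ).mapIso eE) (DualLib.isDualizing_extD (⊥ : Submonoid S) h1)
  haveI : IsNoetherianRing O := h2.isNoetherianRing
  let M := Localization.AtPrime m
  letI : Algebra O M := ε.toRingEquiv.toRingHom.toAlgebra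
  haveI : IsLocalization (⊥ : Submonoid O) O := IsLocalization.self bot_le
  haveI : IsLocalization (⊥ : Submonoid O) M :=
    IsLocalization.isLocalization_of_algEquiv (⊥ : Submonoid O)
      (AlgEquiv.ofRingEquiv (f := ε.toRingEquiv) fun _ => rfl)
  obtain ⟨_, _⟩ := Dual22Lib.preserves_extendScalars (A := O) (B := M) (⊥ : Submonoid O)
  obtain ⟨c⟩ := DualLib.nonempty_extD_comp κ (algebraMap O M) α (RingHom.ext fun r => ε.commutes r) ω
  exact DualLib.isDualizing_of_iso c (DualLib.isDualizing_extD (⊥ : Submonoid O) h2)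

end Groth.Agent.RelPerfH3.DualStalks
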