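import Groth.Agent.ExtSS.Open

/-!
# Excision for Ext with supports on a ringed site
-/

set_option autoImplicit false
set_option backward.isDefEq.respectTransparency false
set_option linter.style.haveILetI false

universe w w' u

open CategoryTheory CategoryTheory.Limits CategoryTheory.Abelian Opposite
open Groth.Agent.DerCompLib Groth.Agent.ExtSS

namespace Groth.Agent.RelPerfH3.Excision

variable {C : Type u} [SmallCategory C] {J : GrothendieckTopology C} {O : Sheaf J CommRingCat.{u}}
  (U V : C)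

/-- The component of a map of restricted modules at an object with a map to `V`. -/
noncomputable def overApp {Q G : ModSite.Mod O} (ψ : (ModSite.restr O V).obj Q ⟶ (ModSite.restr O V).obj G)
    {Y : C} (h : Y ⟶ V) : Sec Q Y →+ Sec G Y :=
  AddMonoidHom.mk' (fun x => (ψ.val.app (op (Over.mk h))).hom x) fun a b => map_add _ a b

theorem overApp_smul {Q G : ModSite.Mod O} (ψ : (ModSite.restr O V).obj Q ⟶ (ModSite.restr O V).obj G)
    {Y : C} (h : Y ⟶ V) (r : O.obj.obj (op Y)) (x : Sec Q Y) :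
    overApp V ψ h (r • x) = r • overApp V ψ h x :=
  (ψ.val.app (op (Over.mk h))).hom.map_smul r x

theorem overApp_res (hV : ∀ X : C, Subsingleton (X ⟶ V)) {Q G : ModSite.Mod O}
    (ψ : (ModSite.restr O V).obj Q ⟶ (ModSite.restr O V).obj G)
    {Y Z : C} (h : Y ⟶ V) (h' : Z ⟶ V) (g : Z ⟶ Y) (x : Sec Q Y) :
    secRes G g (overApp V ψ h x) = overApp V ψ h' (secRes Q g x) := by
  obtain rfl : g ≫ h = h' := (hV Z).elim _ _
  exact (PresheafOfModules.naturality_apply ψ.val
    (Over.homMk (U := Over.mk (g ≫ h)) (V := Over.mk h) g).op x).symm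

theorem secRes_comp (M : ModSite.Mod O) {X Y Z : C} (g : Y ⟶ X) (f : Z ⟶ Y) (x : Sec M X) :
    secRes M (f ≫ g) x = secRes M f (secRes M g x) :=
  PresheafOfModules.map_comp_apply M.val g.op f.op x

theorem hom_ext_sec {M N : ModSite.Mod O} (a b : M ⟶ N) (h : ∀ (X : C) (x : Sec M X), secMap a X x = secMap b X x) :
    a = b :=
  (SheafOfModules.forget _).map_injective
    (PresheafOfModules.hom_ext fun X => ModuleCat.hom_ext (LinearMap.ext fun x => h X.unop x))

theorem secMap_injective_of_mono {A B : ModSite.Mod O} (φ : A ⟶ B) [Mono φ] (X : C) :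
    Function.Injective (secMap φ X) := by
  haveI : Mono φ.val := (SheafOfModules.forget _).map_mono φ
  exact (ModuleCat.mono_iff_injective (φ.val.app (op X))).1
    ((PresheafOfModules.evaluation (ModSite.ringSh O).obj (op X)).map_mono φ.val)

section Glue

variable {U V} (hV : ∀ X : C, Subsingleton (X ⟶ V)) (hUV : J.CoversTop (fun b : Bool => cond b U V))
  {Q G : ModSite.Mod O} (hQ : ModSite.IsNullOn O U Q)
  (ψ : (ModSite.restr O V).obj Q ⟶ (ModSite.restr O V).obj G)

/-- The sieve of arrows from objects mapping to `U` or to `V`. -/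
abbrev cov (X : C) : Sieve X := Sieve.ofObjects (fun b : Bool => cond b U V) X

include hV hUV hQ in
theorem exists_glue (X : C) (x : Sec Q X) : ∃ y : Sec G X,
    (∀ ⦃Y : C⦄ (g : Y ⟶ X) (h : Y ⟶ V), secRes G g y = overApp V ψ h (secRes Q g x)) ∧
    (∀ ⦃Y : C⦄ (g : Y ⟶ X), Nonempty (Y ⟶ U) → IsEmpty (Y ⟶ V) → secRes G g y = 0) := by
  classical
  have hF := (isSheaf_iff_isSheaf_of_type J (((SheafOfModules.toSheaf (ModSite.ringSh O)).obj G).obj ⋙
    CategoryTheory.forget AddCommGrpCat.{u})).1 ((Presheaf.isSheaf_iff_isSheaf_forget J _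
      (CategoryTheory.forget AddCommGrpCat.{u})).1 ((SheafOfModules.toSheaf (ModSite.ringSh O)).obj G).property)
  let fam : ∀ ⦃Y : C⦄ (g : Y ⟶ X), (cov (U := U) (V := V) X) g → Sec G Y := fun Y g _ =>
    if h : Nonempty (Y ⟶ V) then overApp V ψ h.some (secRes Q g x) else 0
  have hc : ∀ ⦃Y Z : C⦄ (f : Z ⟶ Y) (g : Y ⟶ X) (hg : (cov (U := U) (V := V) X) g),
      fam (f ≫ g) ((cov X).downward_closed hg f) = secRes G f (fam g hg) := by
    intro Y Z f g hg
    dsimp only [fam]
    by_cases hY : Nonempty (Y ⟶ V)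
    · have hZ : Nonempty (Z ⟶ V) := ⟨f ≫ hY.some⟩
      rw [dif_pos hY, dif_pos hZ, overApp_res V hV ψ hY.some hZ.some f, secRes_comp]
    · obtain ⟨i, ⟨b⟩⟩ := hg
      have bU : Y ⟶ U := by
        cases i
        · exact absurd ⟨b⟩ hY
        · exact b
      rw [dif_neg hY, map_zero]
      by_cases hZ : Nonempty (Z ⟶ V)
      · rw [dif_pos hZ, secRes_comp, isNullOn_sec U hQ bU (secRes Q g x), map_zero, map_zero]
      · rw [dif_neg hZ]
  let fam' : Presieve.FamilyOfElements
      (((SheafOfModules.toSheaf (ModSite.ringSh O)).obj G).obj ⋙ CategoryTheory.forget AddCommGrpCat.{u})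
      (cov (U := U) (V := V) X).arrows := fun Y g hg => fam g hg
  have hcomp : fam'.Compatible :=
    (Presieve.compatible_iff_sieveCompatible fam').2 fun Y Z g f hg => hc f g hg
  obtain ⟨y, hy, -⟩ := hF (cov X) (hUV X) fam' hcomp
  refine ⟨y, fun Y g h => ?_, fun Y g hU hV' => ?_⟩
  · refine (hy g ⟨false, ⟨h⟩⟩).trans ?_
    have hh : Nonempty (Y ⟶ V) := ⟨h⟩
    dsimp only [fam', fam]
    rw [dif_pos hh, (hV Y).elim hh.some h]
  · refine (hy g ⟨true, hU⟩).trans ?_
    dsimp only [fam', fam]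
    rw [dif_neg (not_nonempty_iff.2 hV')]

include hUV in
theorem sec_ext_cov {F : ModSite.Mod O} {X : C} (y y' : Sec F X)
    (h1 : ∀ ⦃Y : C⦄ (g : Y ⟶ X) (_ : Y ⟶ V), secRes F g y = secRes F g y')
    (h2 : ∀ ⦃Y : C⦄ (g : Y ⟶ X), Nonempty (Y ⟶ U) → IsEmpty (Y ⟶ V) → secRes F g y = secRes F g y') : y = y' := by
  refine sec_ext y y' _ (hUV X) fun Y g hg => ?_
  by_cases hY : Nonempty (Y ⟶ V)
  · exact h1 g hY.some
  · obtain ⟨i, ⟨b⟩⟩ := hg
    cases i
    · exact absurd ⟨b⟩ hY
    · exact h2 g ⟨b⟩ (not_nonempty_iff.1 hY)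

include hV hUV hQ in
theorem exists_extension : ∃ φ : Q ⟶ G, (ModSite.restr O V).map φ = ψ := by
  choose y hy1 hy2 using exists_glue hV hUV hQ ψ
  have hadd : ∀ (X : C) (a b : Sec Q X), y X (a + b) = y X a + y X b := fun X a b =>
    sec_ext_cov hUV _ _ (fun Y g h => by simp only [map_add, hy1 X _ g h])
      (fun Y g hU hV' => by simp only [map_add, hy2 X _ g hU hV', add_zero])
  have hsmul : ∀ (X : C) (r : O.obj.obj (op X)) (a : Sec Q X), y X (r • a) = r • y X a := fun X r a =>
    sec_ext_cov hUV _ _ (fun Y g h => by rw [secRes_smul, hy1 X _ g h, hy1 X _ g h, secRes_smul, overApp_smul])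
      (fun Y g hU hV' => by rw [secRes_smul, hy2 X _ g hU hV', hy2 X _ g hU hV', smul_zero])
  have hres : ∀ (X X' : C) (f : X' ⟶ X) (a : Sec Q X), y X' (secRes Q f a) = secRes G f (y X a) := fun X X' f a =>
    sec_ext_cov hUV _ _ (fun Y g h => by rw [hy1 X' _ g h, ← secRes_comp, ← secRes_comp, hy1 X _ (g ≫ f) h])
      (fun Y g hU hV' => by rw [hy2 X' _ g hU hV', ← secRes_comp, hy2 X _ (g ≫ f) hU hV'])
  let φv : Q.val ⟶ G.val :=
    { app := fun X => ModuleCat.ofHom
        { toFun := fun a => (y X.unop a : G.val.obj X)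
          map_add' := hadd X.unop
          map_smul' := hsmul X.unop }
      naturality := fun {X X'} f => ModuleCat.hom_ext (LinearMap.ext fun a => hres X.unop X'.unop f.unop a) }
  refine ⟨⟨φv⟩, hom_ext_sec _ _ fun A a => ?_⟩
  refine Eq.trans ?_ (show secRes G (𝟙 A.left) (overApp V ψ A.hom a) = (ψ.val.app (op A)).hom a from ?_)
  · show y A.left a = _
    rw [overApp_res V hV ψ A.hom A.hom (𝟙 A.left), ← hy1 A.left a (𝟙 A.left) A.hom]
    exact (LinearMap.congr_fun (congrArg ModuleCat.Hom.hom (G.val.map_id (op A.left))) (y A.left a)).symm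
  · exact LinearMap.congr_fun (congrArg ModuleCat.Hom.hom (G.val.map_id (op A.left))) _

include hUV hQ in
theorem restr_map_injective {φ φ' : Q ⟶ G} (h : (ModSite.restr O V).map φ = (ModSite.restr O V).map φ') :
    φ = φ' := by
  refine hom_ext_sec _ _ fun X x => sec_ext_cov hUV _ _ (fun Y g hY => ?_) (fun Y g hU _ => ?_)
  · rw [← secMap_secRes, ← secMap_secRes]
    exact congrArg (fun k : (ModSite.restr O V).obj Q ⟶ (ModSite.restr O V).obj G =>
      (k.val.app (op (Over.mk hY))).hom (secRes Q g x)) h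
  · rw [← secMap_secRes, ← secMap_secRes, isNullOn_sec U hQ hU.some (secRes Q g x), map_zero, map_zero]

include hV hUV hQ in
theorem isIso_counit : IsIso ((ModSite.extZeroAdj O V).counit.app Q) := by
  let adj := ModSite.extZeroAdj O V
  have key : ∀ {H : ModSite.Mod O} (a : Q ⟶ H),
      (ModSite.restr O V).map a = adj.homEquiv _ _ (adj.counit.app Q ≫ a) := fun a => by
    rw [adj.homEquiv_unit, Functor.map_comp, ← Category.assoc, adj.right_triangle_components, Category.id_comp]
  haveI : Epi (adj.counit.app Q) := ⟨fun a b hab => restr_map_injective hUV hQ (by rw [key, key, hab])⟩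
  obtain ⟨s, hs⟩ := exists_extension hV hUV hQ (adj.unit.app ((ModSite.restr O V).obj Q))
  have hc : adj.counit.app Q ≫ s = 𝟙 _ := by
    apply (adj.homEquiv _ _).injective
    exact ((key s).symm.trans hs).trans (adj.homEquiv_id _).symm
  exact ⟨⟨s, hc, (cancel_epi (adj.counit.app Q)).1 (((reassoc_of% hc) _).trans (Category.comp_id _).symm)⟩⟩

end Glue

section Quot

variable [HasBinaryProducts C]

variable {U V} in
theorem nonempty_quot_iso (M : ModSite.Mod O) :
    Nonempty ((ModSite.restr O V).obj ((ModSite.quotOn O U).obj M) ≅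
      (ModSite.quotOn (O.over V) (Over.mk (prod.snd : U ⨯ V ⟶ V))).obj ((ModSite.restr O V).obj M)) := by
  haveI : ModSite.HasPushOver O V := DerCompLib.hasPushOver O V
  haveI : PreservesColimitsOfSize.{0, 0} (ModSite.restr O V) :=
    (ModSite.restrPushOverAdj O V).leftAdjoint_preservesColimits
  let W : Over V := Over.mk (prod.snd : U ⨯ V ⟶ V)
  haveI : ModSite.HasPushOver (O.over V) W := DerCompLib.hasPushOver _ W
  let π : M ⟶ (ModSite.quotOn O U).obj M := (ModSite.quotOnπ O U).app M
  haveI : Epi π := inferInstanceAs (Epi (cokernel.π _))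
  let π' : (ModSite.restr O V).obj M ⟶
      (ModSite.quotOn (O.over V) W).obj ((ModSite.restr O V).obj M) := (ModSite.quotOnπ (O.over V) W).app _
  haveI : Epi π' := inferInstanceAs (Epi (cokernel.π _))
  let p := (ModSite.restr O V).map π
  haveI : Epi p := inferInstance
  have hQ' : ModSite.IsNullOn (O.over V) W ((ModSite.restr O V).obj ((ModSite.quotOn O U).obj M)) :=
    (ExtSupp.isNullOn_iff _ _ _).2 fun A g x =>
      isNullOn_sec U (ExtSupp.isNullOn_quotOn O U M) (g.left ≫ prod.fst) x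
  let a := cokernel.desc ((ModSite.extZeroAdj (O.over V) W).counit.app ((ModSite.restr O V).obj M)) p
    (counit_comp_eq_zero W hQ' p)
  have ha : π' ≫ a = p := cokernel.π_desc _ _ _
  have hk : kernel.ι p ≫ π' = 0 := hom_ext_sec _ _ fun A k => by
    let m : Sec ((ModSite.restr O V).obj M) A := secMap (kernel.ι p) A k
    let m₀ : Sec M A.left := m
    have hm : secMap π A.left m₀ = 0 :=
      (secMap_comp (kernel.ι p) p A k).symm.trans (by rw [kernel.condition]; rfl)
    obtain ⟨S, hS, hloc⟩ := exists_sieve_of_quotOnπ_eq_zero U M m₀ hm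
    refine sec_ext _ _ ((Sieve.overEquiv A).symm S) (J.overEquiv_symm_mem_over A S hS) fun T g hg => ?_
    have hg' : S g.left := (Sieve.overEquiv_symm_iff _ _).1 hg
    show secRes _ g (secMap π' A m) = secRes _ g (secMap (0 : kernel p ⟶ _) A k)
    rw [← secMap_secRes, secMap_zero, map_zero]
    rcases hloc g.left hg' with h0 | ⟨⟨u⟩⟩
    · exact (congrArg (secMap π' T) (show secRes ((ModSite.restr O V).obj M) g m = 0 from h0)).trans (map_zero _)
    · exact isNullOn_sec W (ExtSupp.isNullOn_quotOn (O.over V) W _)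
        (Over.homMk (prod.lift u T.hom) (prod.lift_snd _ _)) _
  let hS : (ShortComplex.mk (kernel.ι p) p (kernel.condition p)).Exact :=
    ShortComplex.exact_of_f_is_kernel _ (kernelIsKernel p)
  haveI : Epi (ShortComplex.mk (kernel.ι p) p (kernel.condition p)).g := ‹Epi p›
  let b := hS.desc π' hk
  have hb : p ≫ b = π' := hS.g_desc π' hk
  exact ⟨{ hom := b
           inv := a
           hom_inv_id := (cancel_epi p).1 (((reassoc_of% hb) a).trans (ha.trans (Category.comp_id p).symm))
           inv_hom_id := (cancel_epi π').1 (((reassoc_of% ha) b).trans (hb.trans (Category.comp_id π').symm)) }⟩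

end Quot

/-- Precomposition with an isomorphism on Ext. -/
noncomputable def extIsoLeft {A : Type*} [Category A] [Abelian A] [HasExt.{w} A] {X X' : A} (e : X ≅ X') (N : A)
    (i : ℕ) : Ext.{w} X' N i ≃+ Ext.{w} X N i :=
  (((extFunctor.{w} i).mapIso e.op).app N).addCommGroupIsoToAddEquiv

theorem nonempty_excision [HasBinaryProducts C] [HasExt.{w} (ModSite.Mod O)]
    [HasExt.{w'} (ModSite.Mod (O.over V))] (hV : ∀ X : C, Subsingleton (X ⟶ V))
    (hUV : J.CoversTop (fun b : Bool => cond b U V)) (M N : ModSite.Mod O) (i : ℕ) :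
    Nonempty (ExtSupp.ExtZ U M N i ≃+ ExtSupp.ExtZover V (Over.mk (prod.snd : U ⨯ V ⟶ V)) M N i) := by
  haveI : ModSite.HasPushOver O U := DerCompLib.hasPushOver O U
  haveI := isIso_counit hV hUV (ExtSupp.isNullOn_quotOn O U M)
  obtain ⟨e⟩ := ExtSS.nonempty_ext_extZero V ((ModSite.restr O V).obj ((ModSite.quotOn O U).obj M)) N i
  obtain ⟨q⟩ := nonempty_quot_iso (U := U) (V := V) M
  exact ⟨(extIsoLeft (asIso ((ModSite.extZeroAdj O V).counit.app ((ModSite.quotOn O U).obj M))) N i).trans
    (e.trans (extIsoLeft q.symm ((ModSite.restr O V).obj N) i))⟩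

end Groth.Agent.RelPerfH3.Excision
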