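import Groth.Agent.RelPerfH3.KoszulSupp
import Groth.Agent.DCat.CohDimShift
import Groth.Agent.Coherent.ModExt
import Groth.Agent.SDiv28.KoszulH1
import Groth.Agent.Props12.FinLocFree
import Groth.Agent.CAlgH3.LocFreeFactor
import Groth.Prelude.Def_RegImm
import Mathlib.Algebra.Homology.DerivedCategory.Ext.EnoughInjectives
import Mathlib.CategoryTheory.Abelian.RightDerived

/-!
# Extensions out of modules supported on a closed set with vanishing local cohomology
-/

set_option autoImplicit false
set_option backward.isDefEq.respectTransparency false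
set_option backward.isDefEq.respectTransparency.types false
set_option linter.style.haveILetI false

universe u

open CategoryTheory CategoryTheory.Limits AlgebraicGeometry Opposite TopologicalSpace
open Scheme.Modules

namespace Groth.Agent.RelPerfH3.ExtSupp

variable {X : Scheme.{u}} (U : X.Opens)

theorem grothendieckAbelian (Y : Scheme.{u}) : IsGrothendieckAbelian.{u} Y.Modules :=
  DCat.schemeModules_isGrothendieckAbelian Y

theorem mono_unit_of_isZero [HasInjectiveResolutions X.Modules] (G : X.Modules)
    (h : IsZero (((DCoh.gammaZ U.ι).rightDerived 0).obj G)) :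
    Mono ((restrictAdjunction U.ι).unit.app G) := by
  let I := injectiveResolution G
  let Γ := DCoh.gammaZ U.ι
  let K := (Γ.mapHomologicalComplex (ComplexShape.up ℕ)).obj I.cocomplex
  have hK : IsZero (K.homology 0) := h.of_iso (I.isoRightDerivedObj Γ 0).symm
  have hex := (HomologicalComplex.exactAt_iff' K 0 0 1 (by simp) (by simp)).1
    ((HomologicalComplex.exactAt_iff_isZero_homology _ _).2 hK)
  haveI : Mono (K.d 0 1) := hex.mono_g (K.shape 0 0 (by simp))
  have h0 : Γ.map (I.ι.f 0) = 0 := by
    rw [← cancel_mono (K.d 0 1), zero_comp]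
    refine (Γ.map_comp _ _).symm.trans ?_
    have e : I.ι.f 0 ≫ I.cocomplex.d 0 1 = 0 := by
      rw [I.ι.comm 0 1]; simp
    exact (congrArg Γ.map e).trans (Γ.map_zero _ _)
  have h1 : kernel.ι ((restrictAdjunction U.ι).unit.app G) ≫ I.ι.f 0 = 0 := by
    refine ((Category.id_comp _).symm.trans ?_)
    rw [Category.id_comp, ← kernel.lift_ι ((restrictAdjunction U.ι).unit.app (I.cocomplex.X 0))
      (kernel.ι ((restrictAdjunction U.ι).unit.app G) ≫ I.ι.f 0) (by
        refine (Category.assoc _ _ _).trans ?_
        erw [(restrictAdjunction U.ι).unit.naturality (I.ι.f 0)]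
        exact (Category.assoc _ _ _).symm.trans ((congrArg (· ≫ _) (kernel.condition _)).trans zero_comp))]
    exact (congrArg (· ≫ kernel.ι _) h0).trans zero_comp
  exact Preadditive.mono_of_isZero_kernel _ (IsZero.of_mono_eq_zero (kernel.ι _) (by
    rw [← cancel_mono (I.ι.f 0), zero_comp]; exact h1))

/-- No extensions out of a module vanishing on `U` into a module whose local cohomology along the complement
vanishes below that degree. -/
theorem subsingleton_ext [HasExt.{u} X.Modules] (M : X.Modules)
    (hM : IsZero ((restrictFunctor U.ι).obj M)) [HasInjectiveResolutions X.Modules] :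
    ∀ (q : ℕ) (G : X.Modules), (∀ i, i ≤ q → IsZero (((DCoh.gammaZ U.ι).rightDerived i).obj G)) →
      Subsingleton (Abelian.Ext M G q) := by
  haveI := grothendieckAbelian X
  haveI := grothendieckAbelian (U : Scheme.{u})
  haveI : EnoughInjectives X.Modules := inferInstance
  haveI : EnoughInjectives (U : Scheme.{u}).Modules := inferInstance
  intro q
  induction q with
  | zero =>
    intro G hG
    haveI := mono_unit_of_isZero U G (hG 0 le_rfl)
    refine subsingleton_of_forall_eq 0 fun x => ?_
    apply Abelian.Ext.addEquiv₀.injective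
    rw [map_zero, ← cancel_mono ((restrictAdjunction U.ι).unit.app G), zero_comp]
    exact ((restrictAdjunction U.ι).homEquiv _ _).symm.injective (hM.eq_of_src _ _)
  | succ q ih =>
    intro G hG
    haveI := mono_unit_of_isZero U G (hG 0 (by omega))
    let adj := restrictAdjunction U.ι
    let J := Injective.under ((restrictFunctor U.ι).obj G)
    haveI hI : Injective ((pushforward U.ι).obj J) := adj.map_injective J inferInstance
    let ι : G ⟶ (pushforward U.ι).obj J := adj.unit.app G ≫ (pushforward U.ι).map (Injective.ι _)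
    haveI : Mono ι := by
      haveI : (pushforward U.ι).IsRightAdjoint := adj.isRightAdjoint
      haveI : Mono ((pushforward U.ι).map (Injective.ι ((restrictFunctor U.ι).obj G))) := Functor.map_mono _ _
      exact mono_comp _ _
    let S := ShortComplex.mk ι (cokernel.π ι) (cokernel.condition ι)
    have hS : S.ShortExact := { exact := ShortComplex.exact_cokernel ι }
    have hI0 : ∀ i, IsZero (((DCoh.gammaZ U.ι).rightDerived i).obj ((pushforward U.ι).obj J)) := by
      rintro (_ | i)
      · let I := InjectiveResolution.self ((pushforward U.ι).obj J)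
        refine IsZero.of_iso ?_ (I.isoRightDerivedObj (DCoh.gammaZ U.ι) 0)
        refine ShortComplex.isZero_homology_of_isZero_X₂ _ ?_
        show IsZero (kernel (adj.unit.app ((pushforward U.ι).obj J)))
        haveI : IsSplitMono (adj.unit.app ((pushforward U.ι).obj J)) :=
          ⟨⟨{ retraction := (pushforward U.ι).map (adj.counit.app J), id := adj.right_triangle_components J }⟩⟩
        exact isZero_kernel_of_mono _
      · exact Functor.isZero_rightDerived_obj_injective_succ _ i _
    have hQ : ∀ i, i ≤ q → IsZero (((DCoh.gammaZ U.ι).rightDerived i).obj (cokernel ι)) := fun i hi => by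
      let _ := HasDerivedCategory.standard X.Modules
      obtain ⟨δ, hT⟩ := SpecSeq.exists_plus_singleTriangle hS
      obtain ⟨e₂⟩ := SpecSeq.nonempty_rdSingle_iso (DCoh.gammaZ U.ι) S.X₂ i
      obtain ⟨e₁⟩ := SpecSeq.nonempty_rdSingle_iso (DCoh.gammaZ U.ι) S.X₁ (i + 1)
      obtain ⟨e₃⟩ := SpecSeq.nonempty_rdSingle_iso (DCoh.gammaZ U.ι) S.X₃ i
      exact (((SpecSeq.rdH (DCoh.gammaZ U.ι)).homologySequence_exact₃ _ hT (i : ℤ) ((i + 1 : ℕ) : ℤ)
        (by push_cast; ring)).isZero_X₂
          (((hI0 i).of_iso e₂).eq_of_src _ _) (((hG (i + 1) (by omega)).of_iso e₁).eq_of_tgt _ _)).of_iso e₃.symm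
    refine subsingleton_of_forall_eq 0 fun x => ?_
    obtain ⟨y, rfl⟩ := Abelian.Ext.covariant_sequence_exact₁ M hS x
      (Abelian.Ext.eq_zero_of_injective _) (rfl : q + 1 = q + 1)
    haveI := ih (cokernel ι) hQ
    rw [show y = 0 from Subsingleton.elim _ _, Abelian.Ext.zero_comp]

theorem isZero_restrict_push {Z : Scheme.{u}} (i : Z ⟶ X) (F : Z.Modules)
    (hd : Disjoint (U : Set X) (Set.range i.base)) :
    IsZero ((restrictFunctor U.ι).obj ((pushforward i).obj F)) := by
  have hsub : ∀ W : (U : Scheme.{u}).Opens, Subsingleton Γ((restrictFunctor U.ι).obj ((pushforward i).obj F), W) := by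
    intro W
    show Subsingleton ((Coh.toAb F).obj.obj (op (i ⁻¹ᵁ (U.ι ''ᵁ W))))
    have e : i ⁻¹ᵁ (U.ι ''ᵁ W) = ⊥ := by
      rw [← le_bot_iff]
      intro z hz
      refine Set.disjoint_left.1 hd ?_ ⟨z, rfl⟩
      obtain ⟨w, -, hw⟩ := hz
      exact hw ▸ w.2
    rw [e]
    exact AddCommGrpCat.subsingleton_of_isZero (TopCat.Sheaf.isTerminalOfEmpty (Coh.toAb F)).isZero
  rw [IsZero.iff_id_eq_zero]
  ext W x
  exact (hsub W).elim _ _

/-- No extensions below the codimension out of modules on a regularly immersed closed subscheme. -/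
theorem subsingleton_ext_regular [HasExt.{u} X.Modules] {Z : Scheme.{u}} (i : Z ⟶ X) [IsClosedImmersion i] (c : ℕ)
    (hi : RegImm.IsRegularImmersionOfCodim RegImm.Kind.regular c i) (E : X.Modules)
    (hE : FlatMod.IsFinLocFree E) (F : Z.Modules) (q : ℕ) (hq : q < c) :
    Subsingleton (Abelian.Ext ((pushforward i).obj F) E q) := by
  haveI := grothendieckAbelian X
  haveI : Coh.IsQCoh E := CAlgH3.LocFreeFactor.isQCoh_of_finLocFree hE
  let U : X.Opens := ⟨(Set.range i.base)ᶜ, i.isClosedEmbedding.isClosed_range.isOpen_compl⟩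
  haveI : HasInjectiveResolutions X.Modules := inferInstance
  refine subsingleton_ext U _ (isZero_restrict_push U i F disjoint_compl_left) q E fun j hj => ?_
  refine KoszulSupp.isZero_HZshM_of_koszulRegular U c (fun x => ?_) E
    (Props12.isFlat_of_isFinLocFree E hE) j (by omega)
  by_cases hx : x ∈ Set.range i.base
  · obtain ⟨z, rfl⟩ := hx
    obtain ⟨V, hzV, -, rs, hlen, hreg, hker⟩ := hi.2 z
    refine ⟨V.1, rs, hzV, V.2, hlen, SDiv28.RegSeq.seq_koszul_of_regular hreg.toIsWeaklyRegular, ?_⟩
    have h1 : X.zeroLocus (U := V.1) {a | a ∈ rs} = X.zeroLocus (U := V.1) (i.ker.ideal V : Set Γ(X, V.1)) := by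
      rw [Scheme.Hom.ker_apply, hker, Ideal.ofList, Scheme.zeroLocus_span]
    rw [h1, ← Scheme.IdealSheafData.coe_support_inter, Scheme.Hom.support_ker,
      i.isClosedEmbedding.isClosed_range.closure_eq]
    exact congrArg (· ∩ (V.1 : Set X)) (compl_compl _).symm
  · obtain ⟨V, hV, hxV, hVU⟩ := exists_isAffineOpen_mem_and_subset (x := x) (U := U) hx
    refine ⟨V, List.replicate c 1, hxV, hV, List.length_replicate, SDiv28.RegSeq.seq_koszul_of_regular ?_, ?_⟩
    · rw [RingTheory.Sequence.isWeaklyRegular_iff]
      intro k hk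
      rw [List.getElem_replicate]
      exact IsSMulRegular.one _
    · refine Set.ext fun y => ⟨fun h => ?_, fun h => absurd (hVU h.2) h.1⟩
      have h0 := (Scheme.mem_zeroLocus_iff _ _ _).1 h.1 1 (List.mem_replicate.2 ⟨by omega, rfl⟩)
      rw [Scheme.basicOpen_of_isUnit _ isUnit_one] at h0
      exact absurd h.2 h0

end Groth.Agent.RelPerfH3.ExtSupp
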