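import Groth.Agent.DQCoh.RelTorAffine
import Groth.Agent.DQCoh.RelTorLocal
import Groth.Agent.DQCoh.RelTorBC
import Groth.Agent.DualLib.RelPerfFibres
import Groth.Agent.DualLib.TorAmpOps

/-!
# Finite relative tor dimension from boundedness below on the fibres
-/

set_option autoImplicit false
set_option backward.isDefEq.respectTransparency false
set_option backward.defeqAttrib.useBackward true
set_option linter.style.haveILetI false
set_option synthInstance.maxHeartbeats 100000
set_option backward.isDefEq.respectTransparency.types false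

universe u

open CategoryTheory CategoryTheory.Limits CategoryTheory.Pretriangulated DerivedCategory Opposite TopologicalSpace AlgebraicGeometry
open Groth.Agent.DCat Groth.Agent.Coherent Groth.Agent.DQCoh
open scoped TensorProduct

attribute [local instance] HasDerivedCategory.standard
attribute [-instance] Int.instConditionallyCompleteLinearOrder

namespace Groth.Agent.RelPerfH3

local instance preservesFiniteLimits_tildeFC (R : CommRingCat.{u}) : PreservesFiniteLimits (tilde.functor R) :=
  AffSchLib.preservesFiniteLimits_tilde R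

variable {X S : Scheme.{u}}

/-- A locally bounded below object is bounded below on a quasi-compact open. -/
theorem exists_bound_of_local {Y : Scheme.{u}} [CompactSpace Y] (k : Y ⟶ X) [IsOpenImmersion k] (L : DCoh.D X)
    (h : ∀ x : X, ∃ (W : X.Opens) (a : ℤ), x ∈ W ∧ ((PerfLocal.rd W.ι).obj L).IsGE a) :
    ∃ a : ℤ, ∀ i < a, IsZero (DCoh.HD ((PerfLocal.rd k).obj L) i) := by
  classical
  choose W a hxW ha using h
  obtain ⟨t, ht⟩ := isCompact_univ.elim_finite_subcover (fun y : Y => ((k ⁻¹ᵁ W (k y)) : Set Y))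
    (fun y => (k ⁻¹ᵁ W (k y)).2) (fun y _ => Set.mem_iUnion.2 ⟨y, hxW (k y)⟩)
  obtain ⟨a₀, ha₀⟩ := (t.image fun y => a (k y)).finite_toSet.bddBelow
  refine ⟨a₀, fun i hi => IsZero.of_iso (ModStalk.isZero_of_stalks fun y => ?_)
    (SuppOpen.hdMapIso (Scheme.Modules.restrictFunctor k) L i)⟩
  obtain ⟨y₁, hy₁, hy⟩ := Set.mem_iUnion₂.1 (ht (Set.mem_univ y))
  haveI := ha (k y₁)
  have hz : IsZero (DCoh.HD ((PerfLocal.rd (W (k y₁)).ι).obj L) i) := DerivedCategory.isZero_of_isGE _ (a (k y₁)) i
    (lt_of_lt_of_le hi (ha₀ (Finset.mem_image_of_mem (fun y => a (k y)) hy₁)))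
  have hz' : IsZero ((Scheme.Modules.restrictFunctor (W (k y₁)).ι).obj (DCoh.HD L i)) :=
    hz.of_iso (SuppOpen.hdMapIso (Scheme.Modules.restrictFunctor (W (k y₁)).ι) L i).symm
  haveI := SuppOpen.subsingleton_stalk_of_restrict (W (k y₁)).ι (DCoh.HD L i) ⟨k y, hy⟩
    (SuppOpen.subsingleton_of_isZero_stalkFunctor _ _ ((DerSch.stalkFunctor _ _).map_isZero hz'))
  haveI := SuppOpen.subsingleton_stalk_restrict k (DCoh.HD L i) y this
  exact SuppOpen.isZero_stalkFunctor _ _

/-- Vanishing of the sheaves of cohomology of a complex of modules on an affine scheme. -/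
theorem exactAt_of_isZero_HD {B : CommRingCat.{u}} (Q : DRing.Cx B) {L : DCoh.D (Spec B)}
    (e : (DCoh.tildeD B).obj (DRing.toD Q) ≅ L) (i : ℤ) (h : IsZero (DCoh.HD L i)) : Q.ExactAt i := by
  haveI := preservesFiniteColimits_tilde B
  rw [HomologicalComplex.exactAt_iff_isZero_homology]
  obtain ⟨η⟩ := nonempty_homology_natIso (tilde.functor B) i
  exact (isZero_of_isZero_tilde ((h.of_iso ((homologyFunctor _ i).mapIso e)).of_iso (η.app _).symm)).of_iso
    ((homologyFunctorFactors (ModuleCat.{u} B) i).app Q).symm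

section Field

variable {A B L : CommRingCat.{u}} (φ : A ⟶ B) (ψ : A ⟶ L)

/-- Exactness on a fibre does not depend on the field. -/
theorem fibre_exact_of_push (hL : IsField L) (p : Ideal A) [p.IsPrime] (hp : RingHom.ker ψ.hom = p)
    (P : DRing.Cx B) (i : ℤ)
    (h : (((ModuleCat.extendScalars (pushInl φ ψ).hom).mapHomologicalComplex (ComplexShape.up ℤ)).obj P).ExactAt i) :
    (DRing.tensorCx ((DRing.restrictCx φ.hom).obj P) (ModuleCat.of A p.ResidueField)).ExactAt i := by
  let G := ModuleCat.restrictScalars.{u} (pushInl φ ψ).hom ⋙ ModuleCat.restrictScalars.{u} φ.hom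
  replace h : ((((ModuleCat.extendScalars ψ.hom) ⋙ ModuleCat.restrictScalars ψ.hom).mapHomologicalComplex (ComplexShape.up ℤ)).obj
      ((DRing.restrictCx φ.hom).obj P)).ExactAt i :=
    HomologicalComplex.ExactAt.of_iso
      (show ((G.mapHomologicalComplex (ComplexShape.up ℤ)).obj
        (((ModuleCat.extendScalars (pushInl φ ψ).hom).mapHomologicalComplex (ComplexShape.up ℤ)).obj P)).ExactAt i from
        (HomologicalComplex.exactAt_iff _ _).2 (((HomologicalComplex.exactAt_iff _ _).1 h).map G))
      ((NatIso.mapHomologicalComplex (DQCoh.pushExtIso φ ψ) (ComplexShape.up ℤ)).app P).symm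
  rw [HomologicalComplex.exactAt_iff] at h
  replace h : (((ModuleCat.extendScalars ψ.hom).mapHomologicalComplex (ComplexShape.up ℤ)).obj
      ((DRing.restrictCx φ.hom).obj P)).ExactAt i := by
    rw [HomologicalComplex.exactAt_iff]
    exact (ShortComplex.exact_map_iff_of_faithful _ (ModuleCat.restrictScalars ψ.hom)).1 h
  rw [FlatCx12.AmpCoverRing.exactAt_iff_exact]
  rw [HomologicalComplex.exactAt_iff' (i := i - 1) (j := i) (k := i + 1) _ (by simp) (by simp),
    ShortComplex.ShortExact.moduleCat_exact_iff_function_exact] at h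
  letI := φ.hom.toAlgebra
  letI := ψ.hom.toAlgebra
  letI hmod : ∀ j, Module A (P.X j) := fun j => Module.compHom _ φ.hom
  haveI htow : ∀ j, IsScalarTower A B (P.X j) := fun j => IsScalarTower.of_algebraMap_smul fun _ _ => rfl
  letI : Field L := hL.toField
  let lam : p.ResidueField →ₐ[A] L := Ideal.ResidueField.liftₐ p (Algebra.ofId A L)
    (by rw [← hp]; exact le_rfl)
    (fun a ha => isUnit_iff_ne_zero.2 fun h0 => ha (by rw [← hp]; exact h0))
  letI : Algebra p.ResidueField L := lam.toRingHom.toAlgebra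
  haveI : IsScalarTower A p.ResidueField L := .of_algebraMap_eq fun a => (lam.commutes a).symm
  let e' (j : ℤ) : L ⊗[p.ResidueField] (p.ResidueField ⊗[A] (P.X j)) ≃ₗ[p.ResidueField] L ⊗[A] (P.X j) :=
    TensorProduct.AlgebraTensorModule.cancelBaseChange A p.ResidueField p.ResidueField L (P.X j)
  let d (j k : ℤ) : P.X j →ₗ[B] P.X k := (P.d j k).hom
  have he' : ∀ j k, ∀ z, e' k ((((d j k).restrictScalars A).baseChange p.ResidueField).lTensor L z) =
      ((d j k).restrictScalars A).baseChange L (e' j z) := fun j k z => by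
    induction z using TensorProduct.induction_on with
    | zero => simp only [map_zero]
    | add a b ha hb => simp only [map_add, ha, hb]
    | tmul s w =>
      induction w using TensorProduct.induction_on with
      | zero => simp only [TensorProduct.tmul_zero, map_zero]
      | add a b ha hb => simp only [TensorProduct.tmul_add, map_add, ha, hb]
      | tmul c m => rfl
  have h1 : Function.Exact (((d (i - 1) i).restrictScalars A).baseChange L) (((d i (i + 1)).restrictScalars A).baseChange L) := h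
  have h2 : Function.Exact ((((d (i - 1) i).restrictScalars A).baseChange p.ResidueField).lTensor L)
      ((((d i (i + 1)).restrictScalars A).baseChange p.ResidueField).lTensor L) :=
    Function.Exact.of_ladder_addEquiv_of_exact (e₁ := (e' (i - 1)).symm.toAddEquiv) (e₂ := (e' i).symm.toAddEquiv)
      (e₃ := (e' (i + 1)).symm.toAddEquiv) (f₁₂ := (((d (i - 1) i).restrictScalars A).baseChange L).toAddMonoidHom)
      (f₂₃ := (((d i (i + 1)).restrictScalars A).baseChange L).toAddMonoidHom)
      (g₁₂ := ((((d (i - 1) i).restrictScalars A).baseChange p.ResidueField).lTensor L).toAddMonoidHom)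
      (g₂₃ := ((((d i (i + 1)).restrictScalars A).baseChange p.ResidueField).lTensor L).toAddMonoidHom)
      (AddMonoidHom.ext fun z => (e' i).injective (by
        show e' i ((((d (i - 1) i).restrictScalars A).baseChange p.ResidueField).lTensor L ((e' (i - 1)).symm z)) =
          e' i ((e' i).symm (((d (i - 1) i).restrictScalars A).baseChange L z))
        rw [he', LinearEquiv.apply_symm_apply, LinearEquiv.apply_symm_apply]))
      (AddMonoidHom.ext fun z => (e' (i + 1)).injective (by
        show e' (i + 1) ((((d i (i + 1)).restrictScalars A).baseChange p.ResidueField).lTensor L ((e' i).symm z)) =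
          e' (i + 1) ((e' (i + 1)).symm (((d i (i + 1)).restrictScalars A).baseChange L z))
        rw [he', LinearEquiv.apply_symm_apply, LinearEquiv.apply_symm_apply])) h1
  haveI : Module.FaithfullyFlat p.ResidueField L := inferInstance
  exact Module.FaithfullyFlat.lTensor_reflects_exact p.ResidueField L _ _ h2

end Field

/-- Finite relative tor dimension, locally bounded below, bounded below on the fibres. -/
theorem isGE_of_locRel (f : X ⟶ S) (E : DCoh.D X) (h : DCoh.LocHasFiniteRelTorDim f E) (x : X) :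
    ∃ (V : X.Opens) (a : ℤ), x ∈ V ∧ ((PerfLocal.rd V.ι).obj E).IsGE a := by
  obtain ⟨V, a, b, hx, hV⟩ := h x
  let eF := DerivedCategory.Q.objObjPreimageIso E
  obtain ⟨G, hG, -, ⟨eG⟩⟩ := hV _ ⟨eF⟩
  haveI : G.IsStrictlyGE a := (CochainComplex.isStrictlyGE_iff _ _).2 fun i hi => hG i (Or.inl hi)
  haveI : (DerivedCategory.Q.obj G).IsGE a := (DerivedCategory.isGE_Q_obj_iff _ _).2 inferInstance
  exact ⟨V, a, hx, DerivedCategory.TStructure.t.isGE_of_iso
    (eG ≪≫ ((Scheme.Modules.restrictFunctor V.ι).mapDerivedCategoryFactors.app _).symm ≪≫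
      (PerfLocal.rd V.ι).mapIso eF) a⟩

variable (f : X ⟶ S) [Flat f] [LocallyOfFinitePresentation f] [∀ s : S, DCoh.HasLpull (f.fiberι s)]

/-- The criterion on fibres. -/
theorem locRel_of_fibres (E : DCoh.D X) (hp : ∀ m : ℤ, DCoh.IsPseudoCoherentD m E)
    (h₁ : ∀ x : X, ∃ (V : X.Opens) (a : ℤ), x ∈ V ∧ ((PerfLocal.rd V.ι).obj E).IsGE a)
    (h₂ : ∀ (s : S) (y : ↥(f.fiber s)), ∃ (W : (f.fiber s).Opens) (a : ℤ), y ∈ W ∧
      ((PerfLocal.rd W.ι).obj ((DCoh.Lpull (f.fiberι s)).obj E)).IsGE a) :
    DCoh.LocHasFiniteRelTorDim f E := by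
  refine locRel_of_local f E fun x => ?_
  obtain ⟨U, hU, hsU, -⟩ := exists_isAffineOpen_mem_and_subset (x := f x) (U := (⊤ : S.Opens)) trivial
  obtain ⟨V, hV, hxV, hle⟩ := exists_isAffineOpen_mem_and_subset (x := x) (U := f ⁻¹ᵁ U) hsU
  let A : CommRingCat.{u} := Γ(S, U)
  let B : CommRingCat.{u} := Γ(X, V)
  let k : Spec B ⟶ X := hV.fromSpec
  let j : Spec A ⟶ S := hU.fromSpec
  let φ : A ⟶ B := f.appLE U V hle
  have hφ : Spec.map φ ≫ j = k ≫ f := IsAffineOpen.SpecMap_appLE_fromSpec f hU hV _
  have hflat : φ.hom.Flat := HasRingHomProperty.appLE (P := @Flat) f inferInstance ⟨U, hU⟩ ⟨V, hV⟩ hle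
  letI : Algebra A B := φ.hom.toAlgebra
  haveI : Module.Flat A B := hflat
  haveI : Algebra.FinitePresentation A B :=
    HasRingHomProperty.appLE (P := @LocallyOfFinitePresentation) f inferInstance ⟨U, hU⟩ ⟨V, hV⟩ hle
  obtain ⟨M, ⟨e⟩⟩ := ((tildeD_main B).2.2 _).1 (isQCohD_rd k (isQCohD_of_psc hp))
  obtain ⟨P, c, hc, hP, ⟨eP⟩⟩ := DRingLib.pc'_of_forall fun m =>
    pc_of_psc_tildeD (PCTriangle.psc_iso e.symm (psc_rd k (hp m)))
  let e₀ : (DCoh.tildeD B).obj (DRing.toD P) ≅ (PerfLocal.rd k).obj E := (DCoh.tildeD B).mapIso eP ≪≫ e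
  obtain ⟨a₀, ha₀⟩ := exists_bound_of_local k E h₁
  have hPflat : ∀ i, Module.Flat B (P.X i) := fun i => haveI := (hP i).2; inferInstance
  have hamp : DRing.HasFiniteTorDimCx A (DRing.toD ((DRing.restrictCx (algebraMap A B)).obj P)) := by
    refine DualLib.RelPerfFibres.amp_of_pointwise P hP hc (a₀ := a₀)
      (fun i hi => exactAt_of_isZero_HD P e₀ i (ha₀ i hi)) fun q => ?_
    let s : S := f (k q)
    let L : CommRingCat.{u} := S.residueField s
    let g : Spec L ⟶ S := S.fromSpecResidueField s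
    have hs : j (Spec.map φ q) = s := by
      show (Spec.map φ ≫ j) q = f (k q)
      rw [hφ]; rfl
    have hr : Set.range g ⊆ Set.range j := by
      rw [show Set.range g = {s} from Scheme.range_fromSpecResidueField s, Set.singleton_subset_iff]
      exact ⟨_, hs⟩
    let ψ : A ⟶ L := Spec.preimage (IsOpenImmersion.lift j g hr)
    have hψ : Spec.map ψ ≫ j = g := by rw [Spec.map_preimage, IsOpenImmersion.lift_fac]
    have hLf : IsField L := Field.toIsField (S.residueField s)
    let z : Spec L := (⟨⊥, Ideal.isPrime_bot⟩ : PrimeSpectrum (S.residueField s))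
    have hz : Spec.map ψ z = Spec.map φ q := by
      refine j.isOpenEmbedding.injective ?_
      rw [hs]
      show (Spec.map ψ ≫ j) z = s
      rw [hψ]
      exact Scheme.fromSpecResidueField_apply s z
    have hker : RingHom.ker ψ.hom = q.asIdeal.comap (algebraMap A B) := by
      have := congrArg PrimeSpectrum.asIdeal hz
      exact this
    let inl := pushInl φ ψ
    let inr := pushInr φ ψ
    have hsq : IsPullback (Spec.map inl) (Spec.map inr) (k ≫ f) g := by
      rw [← hφ, ← hψ]
      refine isPullback_comp_mono ?_ j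
      letI := ψ.hom.toAlgebra
      exact isPullback_SpecMap_of_isPushout _ _ _ _ (CommRingCat.isPushout_tensorProduct A B L)
    let mm : pullback (k ≫ f) g ⟶ pullback f g :=
      pullback.map (k ≫ f) g f g k (𝟙 _) (𝟙 S) (by simp) (by simp)
    let k' : Spec (pushRing φ ψ) ⟶ pullback f g := hsq.isoPullback.hom ≫ mm
    have hk1 : k' ≫ pullback.fst f g = Spec.map inl ≫ k := by
      simp only [k', mm, Category.assoc, pullback.map, pullback.lift_fst]
      rw [← Category.assoc, hsq.isoPullback_hom_fst]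
    haveI : IsOpenImmersion k' := inferInstance
    haveI : DCoh.HasLpull (pullback.fst f g) := inferInstanceAs (DCoh.HasLpull (f.fiberι s))
    obtain ⟨a, ha⟩ := exists_bound_of_local k' ((DCoh.Lpull (pullback.fst f g)).obj E) (h₂ s)
    refine ⟨a, fun i hi => fibre_exact_of_push φ ψ hLf _ hker P i ?_⟩
    let B' := pushRing φ ψ
    haveI := hasLpull k'
    haveI := hasLpull k
    haveI := hasLpull (Spec.map inl)
    haveI := hasLpull (k' ≫ pullback.fst f g)
    haveI := hasLpull (Spec.map inl ≫ k)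
    haveI : DRing.HasLBaseChange inl.hom := hasLBaseChange inl.hom
    haveI := AffSchLib.preservesFiniteLimits_tilde (R := B')
    obtain ⟨r'⟩ := nonempty_Lpull_restrict k' ((DCoh.Lpull (pullback.fst f g)).obj E)
    obtain ⟨c'⟩ := nonempty_LpullComp k' (pullback.fst f g)
    obtain ⟨c₂⟩ := nonempty_LpullComp (Spec.map inl) k
    obtain ⟨r⟩ := nonempty_Lpull_restrict k E
    obtain ⟨bc⟩ := nonempty_LBaseChange_tildeD inl
    have hcq : ∀ (q : Spec B' ⟶ X) [DCoh.HasLpull q], q = Spec.map inl ≫ k →
        Nonempty ((DCoh.Lpull q).obj E ≅ (DCoh.Lpull (Spec.map inl ≫ k)).obj E) := fun q _ h => by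
      subst h
      exact ⟨Iso.refl _⟩
    obtain ⟨qe⟩ := hcq _ hk1
    exact exactAt_of_isZero_HD _
      ((DCoh.tildeD B').mapIso (lbaseChangeIso inl.hom (isKFlatFor_of_flat P c hc hPflat)).symm ≪≫
        bc.app (DRing.toD P) ≪≫ (DCoh.Lpull (Spec.map inl)).mapIso (e₀ ≪≫ r.symm) ≪≫ c₂.app E ≪≫ qe.symm ≪≫
        (c'.app E).symm ≪≫ r') i (ha i hi)
  obtain ⟨a, b, hab⟩ := hamp
  refine ⟨Spec B, k, inferInstance, by show x ∈ hV.fromSpec.opensRange; rw [hV.opensRange_fromSpec]; exact hxV, ?_⟩
  rw [← hφ, locRel_comp_iff]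
  refine locRel_iso e₀ ((relPerfect_affine_iff φ hflat (DRing.toD P)).2 ⟨⟨P, c, hc, hP, ⟨Iso.refl _⟩⟩, a, b, ?_⟩).2
  exact DualLib.TorAmpOps.amp_of_iso
    ((ModuleCat.restrictScalars.{u} φ.hom).mapDerivedCategoryFactors.app P).symm hab

end Groth.Agent.RelPerfH3
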