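import Groth.Agent.DRingLib.FibreExact
import Groth.Agent.DRingLib.AmpTerms
import Mathlib.RingTheory.IsTensorProduct
import Mathlib.RingTheory.LocalRing.ResidueField.Ideal
import Mathlib.RingTheory.Flat.Stability

/-!
# Tor amplitude from fibre rings of finite global dimension

A pseudo-coherent complex over a flat algebra whose fibres are bounded has amplitude shifted by the global
dimension of the fibre rings.
-/

set_option autoImplicit false
set_option backward.isDefEq.respectTransparency false
set_option backward.defeqAttrib.useBackward true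
set_option backward.isDefEq.respectTransparency.types false
set_option linter.style.haveILetI false

universe u

open CategoryTheory CategoryTheory.Limits TensorProduct

attribute [local instance] HasDerivedCategory.standard

namespace Groth.Agent.RelPerfH3.FibreGlobalDim

/-- Over a ring of global dimension `≤ d`, cohomology in `[a, b]` gives tor amplitude in `[a - d, b]`. -/
theorem exactAt_tensor_of_pd {R : Type u} [CommRing R] (d : ℕ)
    (hgl : ∀ M : ModuleCat.{u} R, HasProjectiveDimensionLT M (d + 1))
    (F : DRing.Cx R) (b₀ : ℤ) (hb₀ : DRing.VanishesAbove F b₀) (hf : DRing.TermwiseFlat F) {a b : ℤ}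
    (hex : ∀ i : ℤ, (i < a ∨ b < i) → F.ExactAt i) (M : ModuleCat.{u} R) {i : ℤ} (hi : i < a - d ∨ b < i) :
    (DRing.tensorCx F M).ExactAt i := by
  haveI : ∀ N : ModuleCat.{u} R, DRing.HasLTensor R N := fun N => DCat.hasLTensor N
  have hsub : ∀ j : ℤ, (j < a ∨ b < j) → Subsingleton (Dual.HD R (DRing.toD F) j) := fun j hj =>
    (DCat.subsingleton_HD_iff _ j).2 ((DCat.isZero_homology_toD_iff F j).2 (hex j hj))
  have hamp : DRing.HasTorAmplitudeIn R (a - d) b (DRing.toD F) := by
    refine DRingLib.amp_of_homology (DRingLib.isGE_of_subsingleton fun j hj => hsub j (Or.inl hj))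
      (DRingLib.isLE_of_subsingleton fun j hj => hsub j (Or.inr hj)) fun j => ?_
    by_cases hj : a ≤ j ∧ j ≤ b
    · exact DRingLib.amp_mono (DRingLib.amp_of_pdim d _ (hgl _)) (by omega) (by omega)
    · haveI := hsub j (by omega)
      exact DRingLib.amp_of_isZero ((DerivedCategory.singleFunctor (ModuleCat.{u} R) 0).map_isZero
        (ModuleCat.isZero_of_subsingleton _))
  rw [← DCat.isZero_ltensor_iff M (DCat.isKFlatFor_of_vanishesAbove F b₀ hb₀ hf) (Iso.refl _) i]
  exact DCat.vanish_of_flatAmp hamp M hi

/-- Exactness of a base change is exactness of the tensor product with the new ring. -/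
theorem exactAt_ext_iff {R S : Type u} [CommRing R] [CommRing S] (φ : R →+* S) (F : DRing.Cx R) (i : ℤ) :
    (((ModuleCat.extendScalars φ).mapHomologicalComplex (ComplexShape.up ℤ)).obj F).ExactAt i ↔
      (DRing.tensorCx F ((ModuleCat.restrictScalars φ).obj (ModuleCat.of S S))).ExactAt i := by
  rw [HomologicalComplex.exactAt_iff, HomologicalComplex.exactAt_iff]
  refine (ShortComplex.exact_map_iff_of_faithful _ (ModuleCat.restrictScalars φ)).symm.trans ?_
  let ε : MonoidalCategory.tensorRight ((ModuleCat.restrictScalars φ).obj (ModuleCat.of S S)) ≅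
      ModuleCat.extendScalars φ ⋙ ModuleCat.restrictScalars φ :=
    (BraidedCategory.tensorLeftIsoTensorRight _).symm ≪≫ DCat.restrictExtIso φ
  exact ShortComplex.exact_iff_of_iso ((HomologicalComplex.shortComplexFunctor _ _ i).mapIso
    ((NatIso.mapHomologicalComplex ε.symm (ComplexShape.up ℤ)).app F))

variable {A B k : Type u} [CommRing A] [CommRing B] [CommRing k] [Algebra A B] [Algebra A k]

attribute [local instance] Algebra.TensorProduct.rightAlgebra

/-- Fibre exactness over the base gives exactness of the base change to the fibre ring. -/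
theorem exactAt_fibreRing (P : DRing.Cx B) (i : ℤ)
    (h : (((ModuleCat.extendScalars (algebraMap A k)).mapHomologicalComplex (ComplexShape.up ℤ)).obj
      (((ModuleCat.restrictScalars (algebraMap A B)).mapHomologicalComplex (ComplexShape.up ℤ)).obj P)).ExactAt i) :
    (((ModuleCat.extendScalars (algebraMap B (k ⊗[A] B))).mapHomologicalComplex (ComplexShape.up ℤ)).obj P).ExactAt i := by
  letI : ∀ j, Module A (P.X j) := fun j => Module.compHom (P.X j) (algebraMap A B)
  haveI : ∀ j, IsScalarTower A B (P.X j) := fun j => IsScalarTower.of_algebraMap_smul fun _ _ => rfl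
  rw [exactAt_ext_iff] at h
  let N : ModuleCat.{u} A := (ModuleCat.restrictScalars (algebraMap A k)).obj (ModuleCat.of k k)
  let ek : N ≅ ModuleCat.of A k := LinearEquiv.toModuleIso (X₁ := N) (X₂ := ModuleCat.of A k)
    { AddEquiv.refl k with map_smul' := fun r x => (Algebra.smul_def r (show k from x)).symm }
  let P₀ := ((ModuleCat.restrictScalars (algebraMap A B)).mapHomologicalComplex (ComplexShape.up ℤ)).obj P
  have h2 : (DRing.tensorCx P₀ (ModuleCat.of A k)).ExactAt i := by
    rw [HomologicalComplex.exactAt_iff] at h ⊢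
    exact (ShortComplex.exact_iff_of_iso ((HomologicalComplex.shortComplexFunctor _ _ i).mapIso
      ((NatIso.mapHomologicalComplex ((MonoidalCategory.tensoringRight (ModuleCat.{u} A)).mapIso ek)
        (ComplexShape.up ℤ)).app P₀))).1 h
  rw [HomologicalComplex.exactAt_iff' (i := i - 1) (j := i) (k := i + 1) _ (by simp) (by simp),
    ShortComplex.ShortExact.moduleCat_exact_iff_function_exact] at h2 ⊢
  let f := (P.d (i - 1) i).hom
  let g := (P.d i (i + 1)).hom
  have h3 : Function.Exact ((f.restrictScalars A).rTensor k) ((g.restrictScalars A).rTensor k) := h2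
  have h' : Function.Exact ((f.restrictScalars A).baseChange k) ((g.restrictScalars A).baseChange k) := by
    refine Function.Exact.of_ladder_linearEquiv_of_exact (g₁₂ := (f.restrictScalars A).lTensor k)
      (g₂₃ := (g.restrictScalars A).lTensor k) (e₁ := TensorProduct.comm A _ k)
      (e₂ := TensorProduct.comm A _ k) (e₃ := TensorProduct.comm A _ k) ?_ ?_ h3
    all_goals exact TensorProduct.ext' fun _ _ => rfl
  show Function.Exact (f.baseChange (k ⊗[A] B)) (g.baseChange (k ⊗[A] B))
  let e := fun j => (Algebra.IsPushout.cancelBaseChange A k B (k ⊗[A] B) (P.X j))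
  have key : ∀ (j l : ℤ) (φ : P.X j →ₗ[B] P.X l) (x : (k ⊗[A] B) ⊗[B] P.X j),
      e l (φ.baseChange (k ⊗[A] B) x) = (φ.restrictScalars A).baseChange k (e j x) := by
    intro j l φ x
    obtain ⟨y, rfl⟩ := (e j).symm.surjective x
    rw [LinearEquiv.apply_symm_apply]
    induction y with
    | zero => simp
    | add y z hy hz => simp only [map_add, hy, hz]
    | tmul s m =>
      rw [LinearMap.baseChange_tmul]
      apply (e l).symm.injective
      rw [LinearEquiv.symm_apply_apply]
      show φ.baseChange _ ((e j).symm (s ⊗ₜ m)) = (e l).symm (s ⊗ₜ φ m)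
      rw [Algebra.IsPushout.cancelBaseChange_symm_tmul, Algebra.IsPushout.cancelBaseChange_symm_tmul,
        LinearMap.baseChange_tmul]
  intro x
  refine ⟨fun hx => ?_, fun ⟨y, hy⟩ => ?_⟩
  · have h1 : (g.restrictScalars A).baseChange k (e i x) = 0 := by rw [← key, hx, map_zero]
    obtain ⟨y, hy⟩ := (h' _).1 h1
    refine ⟨(e (i - 1)).symm y, (e i).injective ?_⟩
    rw [key, LinearEquiv.apply_symm_apply]
    exact hy
  · apply (e (i + 1)).injective
    rw [key, map_zero]
    refine (h' _).2 ⟨e (i - 1) y, ?_⟩
    rw [← key, hy]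

/-- Exactness on a closed fibre of `B` from exactness on the fibre over the base. -/
theorem exactAt_closedFibre (d : ℕ) (hgl : ∀ M : ModuleCat.{u} (k ⊗[A] B), HasProjectiveDimensionLT M (d + 1))
    (P : DRing.Cx B) (b₀ : ℤ) (hb₀ : DRing.VanishesAbove P b₀) (hP : DRing.TermwiseFiniteFree P) {a b : ℤ}
    (hfib : ∀ i : ℤ, (i < a ∨ b < i) → (((ModuleCat.extendScalars (algebraMap A k)).mapHomologicalComplex (ComplexShape.up ℤ)).obj
      (((ModuleCat.restrictScalars (algebraMap A B)).mapHomologicalComplex (ComplexShape.up ℤ)).obj P)).ExactAt i)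
    {T : Type u} [CommRing T] (φ : B →+* T) (σ : k →+* T) (hσ : σ.comp (algebraMap A k) = φ.comp (algebraMap A B))
    {i : ℤ} (hi : i < a - d ∨ b < i) :
    (((ModuleCat.extendScalars φ).mapHomologicalComplex (ComplexShape.up ℤ)).obj P).ExactAt i := by
  letI : Algebra A T := (φ.comp (algebraMap A B)).toAlgebra
  let σ' : k →ₐ[A] T := { σ with commutes' := fun r => RingHom.congr_fun hσ r }
  let φ' : B →ₐ[A] T := { φ with commutes' := fun _ => rfl }
  let χ : k ⊗[A] B →+* T :=
    (Algebra.TensorProduct.lift σ' φ' fun x y => Commute.all (σ' x) (φ' y)).toRingHom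
  let ψ : B →+* k ⊗[A] B := algebraMap B (k ⊗[A] B)
  have hcomp : χ.comp ψ = φ := by
    ext x
    show (Algebra.TensorProduct.lift σ' φ' fun x y => Commute.all (σ' x) (φ' y)) ((1 : k) ⊗ₜ[A] x) = φ x
    rw [Algebra.TensorProduct.lift_tmul, map_one, one_mul]
    rfl
  rw [← hcomp]
  let F := ((ModuleCat.extendScalars ψ).mapHomologicalComplex (ComplexShape.up ℤ)).obj P
  have hF : DRing.VanishesAbove F b₀ := DRingLib.vanishesAbove_ext _ hb₀
  have hFf : DRing.TermwiseFlat F := fun j => by
    haveI := (hP j).2
    show Module.Flat (k ⊗[A] B) ((k ⊗[A] B) ⊗[B] P.X j)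
    infer_instance
  have hex := exactAt_tensor_of_pd d hgl F b₀ hF hFf (fun j hj => exactAt_fibreRing P j (hfib j hj))
    ((ModuleCat.restrictScalars χ).obj (ModuleCat.of T T)) hi
  rw [← exactAt_ext_iff] at hex
  rw [HomologicalComplex.exactAt_iff] at hex ⊢
  exact (ShortComplex.exact_iff_of_iso ((HomologicalComplex.shortComplexFunctor _ _ i).mapIso
    ((NatIso.mapHomologicalComplex (ModuleCat.extendScalarsComp ψ χ) (ComplexShape.up ℤ)).app P))).2 hex

end Groth.Agent.RelPerfH3.FibreGlobalDim
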