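import Groth.Agent.RelPerfH3.FibreCriterion
import Groth.Agent.DQCoh.PerfectTor
import Groth.Agent.DRingLib.PCPerf

/-!
# Perfectness of pseudo-coherent objects is tested on the points
-/

set_option autoImplicit false
set_option backward.isDefEq.respectTransparency false
set_option backward.defeqAttrib.useBackward true
set_option linter.style.haveILetI false
set_option synthInstance.maxHeartbeats 100000
set_option backward.isDefEq.respectTransparency.types false

universe u

open CategoryTheory CategoryTheory.Limits CategoryTheory.Pretriangulated DerivedCategory Opposite TopologicalSpace AlgebraicGeometry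
open Groth.Agent.DCat Groth.Agent.Coherent Groth.Agent.DQCoh
open scoped TensorProduct

attribute [local instance] HasDerivedCategory.standard
attribute [-instance] Int.instConditionallyCompleteLinearOrder

namespace Groth.Agent.RelPerfH3

local instance preservesFiniteLimits_tildeFP (R : CommRingCat.{u}) : PreservesFiniteLimits (tilde.functor R) :=
  AffSchLib.preservesFiniteLimits_tilde R

variable {X S : Scheme.{u}}

/-- Exactness at a point does not depend on the field. -/
theorem fibre_exact_of_field {B L : CommRingCat.{u}} (ψ : B ⟶ L) (hL : IsField L) (p : Ideal B) [p.IsPrime]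
    (hp : RingHom.ker ψ.hom = p) (P : DRing.Cx B) (i : ℤ)
    (h : (((ModuleCat.extendScalars ψ.hom).mapHomologicalComplex (ComplexShape.up ℤ)).obj P).ExactAt i) :
    (DRing.tensorCx P (ModuleCat.of B p.ResidueField)).ExactAt i := by
  rw [FlatCx12.AmpCoverRing.exactAt_iff_exact]
  rw [HomologicalComplex.exactAt_iff' (i := i - 1) (j := i) (k := i + 1) _ (by simp) (by simp),
    ShortComplex.ShortExact.moduleCat_exact_iff_function_exact] at h
  letI := ψ.hom.toAlgebra
  letI : Field L := hL.toField
  let lam : p.ResidueField →ₐ[B] L := Ideal.ResidueField.liftₐ p (Algebra.ofId B L)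
    (by rw [← hp]; exact le_rfl)
    (fun a ha => isUnit_iff_ne_zero.2 fun h0 => ha (by rw [← hp]; exact h0))
  letI : Algebra p.ResidueField L := lam.toRingHom.toAlgebra
  haveI : IsScalarTower B p.ResidueField L := .of_algebraMap_eq fun a => (lam.commutes a).symm
  let e' (j : ℤ) : L ⊗[p.ResidueField] (p.ResidueField ⊗[B] (P.X j)) ≃ₗ[p.ResidueField] L ⊗[B] (P.X j) :=
    TensorProduct.AlgebraTensorModule.cancelBaseChange B p.ResidueField p.ResidueField L (P.X j)
  let d (j k : ℤ) : P.X j →ₗ[B] P.X k := (P.d j k).hom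
  have he' : ∀ j k, ∀ z, e' k (((d j k).baseChange p.ResidueField).lTensor L z) =
      (d j k).baseChange L (e' j z) := fun j k z => by
    induction z using TensorProduct.induction_on with
    | zero => simp only [map_zero]
    | add a b ha hb => simp only [map_add, ha, hb]
    | tmul s w =>
      induction w using TensorProduct.induction_on with
      | zero => simp only [TensorProduct.tmul_zero, map_zero]
      | add a b ha hb => simp only [TensorProduct.tmul_add, map_add, ha, hb]
      | tmul c m => rfl
  have h1 : Function.Exact ((d (i - 1) i).baseChange L) ((d i (i + 1)).baseChange L) := h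
  have h2 : Function.Exact (((d (i - 1) i).baseChange p.ResidueField).lTensor L)
      (((d i (i + 1)).baseChange p.ResidueField).lTensor L) :=
    Function.Exact.of_ladder_addEquiv_of_exact (e₁ := (e' (i - 1)).symm.toAddEquiv) (e₂ := (e' i).symm.toAddEquiv)
      (e₃ := (e' (i + 1)).symm.toAddEquiv) (f₁₂ := ((d (i - 1) i).baseChange L).toAddMonoidHom)
      (f₂₃ := ((d i (i + 1)).baseChange L).toAddMonoidHom)
      (g₁₂ := (((d (i - 1) i).baseChange p.ResidueField).lTensor L).toAddMonoidHom)
      (g₂₃ := (((d i (i + 1)).baseChange p.ResidueField).lTensor L).toAddMonoidHom)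
      (AddMonoidHom.ext fun z => (e' i).injective (by
        show e' i (((d (i - 1) i).baseChange p.ResidueField).lTensor L ((e' (i - 1)).symm z)) =
          e' i ((e' i).symm ((d (i - 1) i).baseChange L z))
        rw [he', LinearEquiv.apply_symm_apply, LinearEquiv.apply_symm_apply]))
      (AddMonoidHom.ext fun z => (e' (i + 1)).injective (by
        show e' (i + 1) (((d i (i + 1)).baseChange p.ResidueField).lTensor L ((e' i).symm z)) =
          e' (i + 1) ((e' (i + 1)).symm ((d i (i + 1)).baseChange L z))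
        rw [he', LinearEquiv.apply_symm_apply, LinearEquiv.apply_symm_apply])) h1
  haveI : Module.FaithfullyFlat p.ResidueField L := inferInstance
  exact Module.FaithfullyFlat.lTensor_reflects_exact p.ResidueField L _ _ h2

/-- A pseudo-coherent object, locally bounded below, with perfect restrictions to the fibres of a morphism is perfect. -/
theorem isPerfect_of_fibres (f : X ⟶ S) [∀ s : S, DCoh.HasLpull (f.fiberι s)] (E : DCoh.D X)
    (hp : ∀ m : ℤ, DCoh.IsPseudoCoherentD m E)
    (h₁ : ∀ x : X, ∃ (V : X.Opens) (a : ℤ), x ∈ V ∧ ((PerfLocal.rd V.ι).obj E).IsGE a)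
    (h₂ : ∀ s : S, DCoh.IsPerfect ((DCoh.Lpull (f.fiberι s)).obj E)) : DCoh.IsPerfect E := by
  refine isPerfect_of_local E fun x => ?_
  obtain ⟨V, hV, hxV, -⟩ := exists_isAffineOpen_mem_and_subset (x := x) (U := (⊤ : X.Opens)) trivial
  let B : CommRingCat.{u} := Γ(X, V)
  let k : Spec B ⟶ X := hV.fromSpec
  obtain ⟨M, ⟨e⟩⟩ := ((tildeD_main B).2.2 _).1 (isQCohD_rd k (isQCohD_of_psc hp))
  obtain ⟨P, c, hc, hP, ⟨eP⟩⟩ := DRingLib.pc'_of_forall fun m =>
    pc_of_psc_tildeD (PCTriangle.psc_iso e.symm (psc_rd k (hp m)))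
  let e₀ : (DCoh.tildeD B).obj (DRing.toD P) ≅ (PerfLocal.rd k).obj E := (DCoh.tildeD B).mapIso eP ≪≫ e
  obtain ⟨a₀, ha₀⟩ := exists_bound_of_local k E h₁
  have hPflat : ∀ i, Module.Flat B (P.X i) := fun i => haveI := (hP i).2; inferInstance
  let P' : DRing.Cx B := (DRing.restrictCx (algebraMap B B)).obj P
  let eid : P' ≅ P := HomologicalComplex.Hom.isoOfComponents
    (fun i => (ModuleCat.restrictScalarsId' (algebraMap B B) rfl).app (P.X i)) fun i j _ =>
      ((ModuleCat.restrictScalarsId' (algebraMap B B) rfl).hom.naturality (P.d i j)).symm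
  have hamp : DRing.HasFiniteTorDimCx B (DRing.toD P') := by
    refine DualLib.RelPerfFibres.amp_of_pointwise P hP hc (a₀ := a₀)
      (fun i hi => exactAt_of_isZero_HD P e₀ i (ha₀ i hi)) fun q => ?_
    let s : S := f (k q)
    let y : f.fiber s := f.asFiber (k q)
    let L : CommRingCat.{u} := (f.fiber s).residueField y
    let g : Spec L ⟶ f.fiber s := (f.fiber s).fromSpecResidueField y
    let h : Spec L ⟶ X := g ≫ f.fiberι s
    have hy : ∀ z : Spec L, h z = k q := fun z => by
      show f.fiberι s (g z) = k q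
      rw [Scheme.fromSpecResidueField_apply]
      exact f.fiberι_asFiber (k q)
    have hr : Set.range h ⊆ Set.range k := by
      rintro _ ⟨z, rfl⟩
      exact ⟨q, (hy z).symm⟩
    let ψ : B ⟶ L := Spec.preimage (IsOpenImmersion.lift k h hr)
    have hψ : Spec.map ψ ≫ k = h := by rw [Spec.map_preimage, IsOpenImmersion.lift_fac]
    have hLf : IsField L := Field.toIsField ((f.fiber s).residueField y)
    let z : Spec L := (⟨⊥, Ideal.isPrime_bot⟩ : PrimeSpectrum ((f.fiber s).residueField y))
    have hz : Spec.map ψ z = q := by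
      refine k.isOpenEmbedding.injective ?_
      show (Spec.map ψ ≫ k) z = k q
      rw [hψ, hy]
    have hker : RingHom.ker ψ.hom = q.asIdeal := congrArg PrimeSpectrum.asIdeal hz
    haveI := hasLpull g
    haveI := hasLpull k
    haveI := hasLpull (Spec.map ψ)
    haveI := hasLpull h
    haveI := hasLpull (g ≫ f.fiberι s)
    haveI := hasLpull (Spec.map ψ ≫ k)
    haveI : DRing.HasLBaseChange ψ.hom := hasLBaseChange ψ.hom
    haveI := AffSchLib.preservesFiniteLimits_tilde (R := L)
    obtain ⟨c'⟩ := nonempty_LpullComp g (f.fiberι s)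
    obtain ⟨c₂⟩ := nonempty_LpullComp (Spec.map ψ) k
    obtain ⟨r⟩ := nonempty_Lpull_restrict k E
    obtain ⟨bc⟩ := nonempty_LBaseChange_tildeD ψ
    have hcq : ∀ (q : Spec L ⟶ X) [DCoh.HasLpull q], q = Spec.map ψ ≫ k →
        Nonempty ((DCoh.Lpull q).obj E ≅ (DCoh.Lpull (Spec.map ψ ≫ k)).obj E) := fun q _ h => by
      subst h
      exact ⟨Iso.refl _⟩
    obtain ⟨qe⟩ := hcq (g ≫ f.fiberι s) hψ.symm
    let FP : DRing.Cx L := ((ModuleCat.extendScalars ψ.hom).mapHomologicalComplex (ComplexShape.up ℤ)).obj P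
    have hperf : DRing.IsPerfect L (DRing.toD FP) := perfect_of_isPerfect_tildeD
      (PCTriangle.perfect_iso
        ((DCoh.tildeD L).mapIso (lbaseChangeIso ψ.hom (isKFlatFor_of_flat P c hc hPflat)).symm ≪≫
          bc.app (DRing.toD P) ≪≫ (DCoh.Lpull (Spec.map ψ)).mapIso (e₀ ≪≫ r.symm) ≪≫ c₂.app E ≪≫ qe.symm ≪≫
          (c'.app E).symm).symm
        (PullPerf.isPerfect_Lpull g _ (h₂ s)))
    obtain ⟨T, a, b, hT, -, ⟨eT⟩⟩ := hperf
    refine ⟨a, fun i hi => ?_⟩
    have hex : FP.ExactAt i := by
      rw [HomologicalComplex.exactAt_iff_isZero_homology]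
      exact ((ShortComplex.isZero_homology_of_isZero_X₂ _ (hT i (Or.inl hi))).of_iso
        ((homologyFunctorFactors (ModuleCat.{u} L) i).app T)).of_iso
        (((homologyFunctorFactors (ModuleCat.{u} L) i).app FP).symm ≪≫ (homologyFunctor _ i).mapIso eT.symm)
    exact fibre_exact_of_field ψ hLf _ hker P' i (HomologicalComplex.ExactAt.of_iso hex
      (((ModuleCat.extendScalars ψ.hom).mapHomologicalComplex (ComplexShape.up ℤ)).mapIso eid.symm))
  refine ⟨Spec B, k, inferInstance, by show x ∈ hV.fromSpec.opensRange; rw [hV.opensRange_fromSpec]; exact hxV, ?_⟩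
  obtain ⟨a, b, hab⟩ := hamp
  exact PCTriangle.perfect_iso e₀ (isPerfect_tildeD ((DRingLib.perfect_iff _).2
    ⟨⟨P, c, hc, hP, ⟨Iso.refl _⟩⟩, a, b, DualLib.TorAmpOps.amp_of_iso (DerivedCategory.Q.mapIso eid) hab⟩))

end Groth.Agent.RelPerfH3
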