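import Groth.Agent.DCat.ClosedPush
import Groth.Agent.DCat.FlatPull
import Groth.Agent.Props12.FlatOver
import Groth.Agent.Desc19b.FlatClosure
import Groth.Agent.Coherent.QcohOps
import Groth.Agent.EGA43.InjFibre.Scheme
import Groth.Agent.MeroLib.Torsion
import Mathlib.RingTheory.Valuation.ValuationRing

/-!
# Flat closure of a quotient of the generic fibre of a module (EGA IV 2.8.1)

Over an integral base whose local rings are principal a quasi-coherent module is flat iff its sections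
have no torsion, so a quotient of the generic fibre extends uniquely to a flat quotient.
-/

set_option autoImplicit false
set_option backward.isDefEq.respectTransparency false
set_option backward.defeqAttrib.useBackward true
set_option linter.style.haveILetI false

universe u

open CategoryTheory CategoryTheory.Limits AlgebraicGeometry Opposite TopologicalSpace
open Groth.Agent.ModStalk Groth.Agent.Coherent Groth.Agent.PicLib Groth.Agent.AmpleLib
open Groth.Agent.DCat.ClosedPush (extend_unit_surjective extend_unit_injective)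
open Groth.Agent.DCat
open scoped TensorProduct

namespace Groth.Agent.RelPerfH3.FlatClosureMod

section Preimmersion

variable {X Y : Scheme.{u}} (f : X ⟶ Y) [IsPreimmersion f]

theorem exists_preimage (W : X.Opens) : ∃ W' : Y.Opens, f ⁻¹ᵁ W' = W := by
  obtain ⟨U', hU', e⟩ := f.isEmbedding.isInducing.isOpen_iff.1 W.2
  exact ⟨⟨U', hU'⟩, Opens.ext e⟩

theorem bijective_stalk_counit (M : X.Modules) (x : X) :
    Function.Bijective ((DerSch.stalkFunctor X x).map
      ((Scheme.Modules.pullbackPushforwardAdjunction f).counit.app M)) := by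
  let N := (Scheme.Modules.pushforward f).obj M
  have hval : ∀ (U : Y.Opens) (hx : f.base x ∈ U) (s : Γ(N, U)),
      (DerSch.stalkFunctor X x).map ((Scheme.Modules.pullbackPushforwardAdjunction f).counit.app M)
        (germP x (DCoh.toP.obj ((Scheme.Modules.pullback f).obj N)) (f ⁻¹ᵁ U) hx (pullSec f s)) =
      germP x (DCoh.toP.obj M) (f ⁻¹ᵁ U) hx (show Γ(M, f ⁻¹ᵁ U) from s) := fun U hx s => by
    refine (PullTensor.stalkMap_germP _ x _ hx _).trans (congrArg _ ?_)
    exact ConcreteCategory.congr_hom (congrArg (fun φ => φ.app U)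
      ((Scheme.Modules.pullbackPushforwardAdjunction f).right_triangle_components M)) s
  have hgen : ∀ e : (DerSch.stalkFunctor X x).obj ((Scheme.Modules.pullback f).obj N),
      ∃ (U : Y.Opens) (hx : f.base x ∈ U) (s : Γ(N, U)),
        e = germP x (DCoh.toP.obj ((Scheme.Modules.pullback f).obj N)) (f ⁻¹ᵁ U) hx (pullSec f s) := fun e => by
    obtain ⟨a, ha⟩ := extend_unit_surjective (f.stalkMap x).hom (f.stalkMap_surjective x) _
      ((pullbackStalkIso f x).hom.app N e)
    obtain ⟨U, hU, s, rfl⟩ := exists_germP_eq (DCoh.toP.obj N) a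
    refine ⟨U, hU, s, (ConcreteCategory.bijective_of_isIso ((pullbackStalkIso f x).hom.app N)).1 ?_⟩
    exact ha.symm.trans (PullTensor.pullbackStalk_germ f x N U hU s).symm
  refine ⟨(injective_iff_map_eq_zero _).2 fun e he => ?_, fun m => ?_⟩
  · obtain ⟨U, hx, s, rfl⟩ := hgen e
    rw [hval] at he
    obtain ⟨W, hxW, i, i', hW⟩ := (germP_eq_iff (x := x) (DCoh.toP.obj M) (U := f ⁻¹ᵁ U) (V := f ⁻¹ᵁ U) hx hx _ 0)
      (he.trans (germP_zero (DCoh.toP.obj M) _ hx).symm)
    obtain ⟨W', rfl⟩ := exists_preimage f W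
    have hx' : f.base x ∈ U ⊓ W' := ⟨hx, hxW⟩
    have hzero : resM N (inf_le_left : U ⊓ W' ≤ U) s = 0 := by
      have hW0 : resM M i.le (show Γ(M, f ⁻¹ᵁ U) from s) = 0 := hW.trans (map_zero _)
      have := congrArg (resM M (show f ⁻¹ᵁ (U ⊓ W') ≤ f ⁻¹ᵁ W' from fun z hz => hz.2)) hW0
      rw [resM_resM, map_zero] at this
      exact this
    refine (germP_res (DCoh.toP.obj ((Scheme.Modules.pullback f).obj N))
      (homOfLE (show f ⁻¹ᵁ (U ⊓ W') ≤ f ⁻¹ᵁ U from fun z hz => hz.1)) hx' (pullSec f s)).symm.trans ?_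
    have hp : resM ((Scheme.Modules.pullback f).obj N)
        (show f ⁻¹ᵁ (U ⊓ W') ≤ f ⁻¹ᵁ U from fun z hz => hz.1) (pullSec f s) = 0 := by
      refine (resM_pullSec f (inf_le_left : U ⊓ W' ≤ U) s).trans ?_
      rw [hzero]
      exact map_zero _
    exact (congrArg _ hp).trans (germP_zero _ _ _)
  · obtain ⟨V, hxV, m', rfl⟩ := exists_germP_eq (DCoh.toP.obj M) m
    obtain ⟨U, rfl⟩ := exists_preimage f V
    exact ⟨_, hval U hxV m'⟩

instance isIso_counit (M : X.Modules) :
    IsIso ((Scheme.Modules.pullbackPushforwardAdjunction f).counit.app M) :=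
  isIso_of_stalks _ fun x => (ConcreteCategory.isIso_iff_bijective _).2 (bijective_stalk_counit f M x)

/-- Along a flat preimmersion a section vanishing after pullback has vanishing germs on the image. -/
theorem germ_eq_zero_of_pullSec [Flat f] (N : Y.Modules) {U : Y.Opens} (s : Γ(N, U))
    (hs : pullSec f s = 0) (x : X) (hx : f.base x ∈ U) :
    germP (f.base x) (DCoh.toP.obj N) U hx s = 0 := by
  have hinj : Function.Injective (f.stalkMap x).hom := by
    letI := (f.stalkMap x).hom.toAlgebra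
    haveI : Module.Flat (Y.presheaf.stalk (f.base x)) (X.presheaf.stalk x) := Flat.stalkMap f x
    haveI : IsLocalHom (algebraMap (Y.presheaf.stalk (f.base x)) (X.presheaf.stalk x)) :=
      inferInstanceAs (IsLocalHom (f.stalkMap x).hom)
    haveI := Module.FaithfullyFlat.of_flat_of_isLocalHom
      (A := Y.presheaf.stalk (f.base x)) (B := X.presheaf.stalk x)
    exact FaithfulSMul.algebraMap_injective (Y.presheaf.stalk (f.base x)) (X.presheaf.stalk x)
  refine extend_unit_injective (f.stalkMap x).hom (f.stalkMap_surjective x) _ (fun r hr a => ?_) ?_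
  · rw [(injective_iff_map_eq_zero _).1 hinj r hr, zero_smul]
  · rw [map_zero]
    refine (PullTensor.pullbackStalk_germ f x N U hx s).symm.trans ?_
    rw [hs]
    exact (congrArg _ (germP_zero _ _ _)).trans (map_zero _)

end Preimmersion

section Base

variable {X Y : Scheme.{u}} [IsIntegral Y] (f : X ⟶ Y)

theorem flat_fiberι : Flat (f.fiberι (genericPoint Y)) :=
  MorphismProperty.pullback_fst f (Y.fromSpecResidueField (genericPoint Y))
    Desc19b.flat_fromSpecResidueField_genericPoint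

theorem genericPoint_mem_basicOpen {V : Y.Opens} {a : Γ(Y, V)} (ha : a ≠ 0) :
    genericPoint Y ∈ Y.basicOpen a := by
  refine ((genericPoint_spec Y).mem_open_set_iff (Y.basicOpen a).isOpen).2 ?_
  rw [Set.univ_inter, Set.nonempty_iff_ne_empty]
  intro h
  exact ha ((basicOpen_eq_bot_iff a).1 (Opens.ext h))

variable (K : X.Modules) [Coh.IsQCoh K]

/-- A section vanishing on the generic fibre is torsion. -/
theorem exists_smul_eq_zero {V : Y.Opens} (hV : IsAffineOpen V) [Nonempty V] {U : X.Opens}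
    (hU : IsAffineOpen U) (e : U ≤ f ⁻¹ᵁ V) (s : Γ(K, U))
    (hs : ∀ x (hx : x ∈ U), f.base x = genericPoint Y → K.presheaf.germ U x hx s = 0) :
    ∃ a : Γ(Y, V), a ≠ 0 ∧ f.appLE V U e a • s = 0 := by
  let I : Ideal Γ(X, U) := LinearMap.ker (LinearMap.toSpanSingleton Γ(X, U) Γ(K, U) s)
  let S : Submonoid Γ(X, U) := (nonZeroDivisors Γ(Y, V)).map (f.appLE V U e).hom
  by_contra hne
  have hdisj : Disjoint (I : Set Γ(X, U)) S := by
    rw [Set.disjoint_left]
    rintro _ hb ⟨a, ha, rfl⟩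
    exact hne ⟨a, nonZeroDivisors.ne_zero ha, hb⟩
  obtain ⟨q, hq, hIq, hqS⟩ := Ideal.exists_le_prime_disjoint I S hdisj
  have hxU : hU.fromSpec ⟨q, hq⟩ ∈ U := hU.range_fromSpec.le ⟨_, rfl⟩
  set x := hU.fromSpec ⟨q, hq⟩ with hxdef
  have hqx : hU.primeIdealOf ⟨x, hxU⟩ = ⟨q, hq⟩ :=
    hU.fromSpec.isOpenEmbedding.injective (hU.fromSpec_primeIdealOf _)
  have hη : genericPoint Y ∈ V :=
    ((genericPoint_spec Y).mem_open_set_iff V.isOpen).2 (by simpa using ‹Nonempty V›)
  have hfx : f.base x = genericPoint Y := by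
    have h0 : hV.primeIdealOf ⟨f.base x, e hxU⟩ = hV.primeIdealOf ⟨genericPoint Y, hη⟩ := by
      rw [hV.primeIdealOf_genericPoint, genericPoint_eq_bot_of_affine]
      refine PrimeSpectrum.ext (eq_bot_iff.2 fun a ha => ?_)
      by_contra ha0
      have ha' : f.appLE V U e a ∈ q := by
        have h1 := IsAffineOpen.comap_primeIdealOf_appLE (f := f) V hV U hU e hxU
        rw [hqx] at h1
        exact (congrArg PrimeSpectrum.asIdeal h1).ge ha
      exact Set.disjoint_left.1 hqS ha' ⟨a, mem_nonZeroDivisors_of_ne_zero ha0, rfl⟩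
    have h2 := congrArg hV.fromSpec h0
    rwa [hV.fromSpec_primeIdealOf, hV.fromSpec_primeIdealOf] at h2
  obtain ⟨c, hc, hcs⟩ := QCohLoc.exists_smul_eq_zero_of_germ K hU hxU s (hs x hxU hfx)
  letI := X.presheaf.algebra_section_stalk ⟨x, hxU⟩
  haveI := hU.isLocalization_stalk ⟨x, hxU⟩
  have hcq : c ∈ (hU.primeIdealOf ⟨x, hxU⟩).asIdeal.primeCompl :=
    (IsLocalization.AtPrime.isUnit_to_map_iff (X.presheaf.stalk x) _ c).1
      ((Scheme.mem_basicOpen _ _ _ hxU).1 hc)
  rw [hqx] at hcq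
  exact hcq (hIq hcs)

/-- A module flat over the base has no torsion. -/
theorem eq_zero_of_smul_eq_zero (hK : FlatMod.IsFlatOver f K) {V : Y.Opens} (hV : IsAffineOpen V)
    [Nonempty V] {U : X.Opens} (hU : IsAffineOpen U) (e : U ≤ f ⁻¹ᵁ V) {a : Γ(Y, V)} (ha : a ≠ 0)
    (s : Γ(K, U)) (hs : f.appLE V U e a • s = 0) : s = 0 := by
  letI := EGA43.QcohFlat.overModule f K V U e
  haveI : Module.Flat Γ(Y, V) Γ(K, U) := (Props12.flat_sections_iff f K hV hU e).2 fun x _ => hK x
  exact Module.Flat.isSMulRegular_of_nonZeroDivisors (mem_nonZeroDivisors_of_ne_zero ha)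
    (show a • s = a • (0 : Γ(K, U)) by rw [smul_zero]; exact hs)

/-- A flat module embeds into the direct image of its generic fibre. -/
theorem mono_unit (hK : FlatMod.IsFlatOver f K) :
    Mono ((Scheme.Modules.pullbackPushforwardAdjunction (f.fiberι (genericPoint Y))).unit.app K) := by
  haveI := flat_fiberι f
  set ι := f.fiberι (genericPoint Y) with hι
  refine MeroLib.mono_of_app_injective _ fun W => (injective_iff_map_eq_zero _).2 fun s hs => ?_
  refine TopCat.Presheaf.section_ext (⟨K.presheaf, K.isSheaf⟩ : TopCat.Sheaf Ab X) W s 0 fun w hw => ?_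
  obtain ⟨V, hV, hwV, -⟩ := exists_isAffineOpen_mem_and_subset (x := f.base w) (U := ⊤) trivial
  obtain ⟨U, hU, hwU, e⟩ := exists_isAffineOpen_mem_and_subset (x := w) (U := W ⊓ f ⁻¹ᵁ V) ⟨hw, hwV⟩
  haveI : Nonempty V := ⟨⟨_, hwV⟩⟩
  have eW : U ≤ W := fun z hz => (e hz).1
  have eV : U ≤ f ⁻¹ᵁ V := fun z hz => (e hz).2
  have hs' : pullSec ι (resM K eW s) = 0 := by
    refine (resM_pullSec ι eW s).symm.trans ?_
    rw [show pullSec ι s = 0 from hs, map_zero]
  obtain ⟨a, ha, has⟩ := exists_smul_eq_zero f K hV hU eV (resM K eW s) fun x hx hxη => by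
    obtain ⟨z, rfl⟩ : x ∈ Set.range ι := by
      rw [hι, Scheme.Hom.range_fiberι]
      exact hxη
    exact germ_eq_zero_of_pullSec ι K (resM K eW s) hs' z hx
  have h0 := eq_zero_of_smul_eq_zero f K hK hV hU eV ha _ has
  refine (TopCat.Presheaf.germ_res_apply K.presheaf (homOfLE eW) w hwU s).symm.trans ?_
  show K.presheaf.germ U w hwU (resM K eW s) = _
  rw [h0, map_zero]
  exact (map_zero _).symm

theorem isUnit_appLE {V : Y.Opens} {U : X.Opens} (e : U ≤ f ⁻¹ᵁ V) {a : Γ(Y, V)} (ha : a ≠ 0) :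
    IsUnit ((f.fiberι (genericPoint Y)).app U (f.appLE V U e a)) := by
  refine RingedSpace.isUnit_of_isUnit_germ _ _ _ fun z hz => ?_
  have h1 : (f.fiberι (genericPoint Y)).base z ∈ X.basicOpen (f.appLE V U e a) := by
    rw [Scheme.basicOpen_appLE]
    refine ⟨hz, ?_⟩
    show f.base _ ∈ Y.basicOpen a
    have : f.base ((f.fiberι (genericPoint Y)).base z) = genericPoint Y :=
      (f.range_fiberι (genericPoint Y)).le ⟨z, rfl⟩
    rw [this]
    exact genericPoint_mem_basicOpen ha
  have h2 : z ∈ (f.fiber (genericPoint Y)).basicOpen ((f.fiberι (genericPoint Y)).app U (f.appLE V U e a)) := by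
    rw [← Scheme.preimage_basicOpen]
    exact h1
  exact (Scheme.mem_basicOpen _ _ _ hz).1 h2

/-- Over a base with principal local rings a quasi-coherent module without torsion is flat. -/
theorem isFlatOver_of_torsionFree (hY : ∀ y : Y, IsPrincipalIdealRing (Y.presheaf.stalk y))
    (h : ∀ (V : Y.Opens) (U : X.Opens) (e : U ≤ f ⁻¹ᵁ V), IsAffineOpen V → IsAffineOpen U →
      ∀ (a : Γ(Y, V)) (s : Γ(K, U)), a ≠ 0 → f.appLE V U e a • s = 0 → s = 0) :
    FlatMod.IsFlatOver f K := by
  intro x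
  obtain ⟨V, hV, hxV, -⟩ := exists_isAffineOpen_mem_and_subset (x := f.base x) (U := ⊤) trivial
  obtain ⟨U, hU, hxU, e⟩ := exists_isAffineOpen_mem_and_subset (x := x) (U := f ⁻¹ᵁ V) hxV
  haveI : Nonempty V := ⟨⟨_, hxV⟩⟩
  refine (Props12.flat_sections_iff f K hV hU e).1 ?_ x hxU
  letI := EGA43.QcohFlat.overModule f K V U e
  refine (Module.Flat.flat_iff_torsion_eq_bot_of_valuationRing_localization_isMaximal fun P hP => ?_).2
    (eq_bot_iff.2 ?_)
  · have hy : hV.fromSpec ⟨P, hP.isPrime⟩ ∈ V := hV.range_fromSpec.le ⟨_, rfl⟩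
    letI := Y.presheaf.algebra_section_stalk ⟨_, hy⟩
    haveI := hV.isLocalization_stalk ⟨_, hy⟩
    have hP' : hV.primeIdealOf ⟨_, hy⟩ = ⟨P, hP.isPrime⟩ :=
      hV.fromSpec.isOpenEmbedding.injective (hV.fromSpec_primeIdealOf _)
    have hloc : IsLocalization P.primeCompl (Y.presheaf.stalk (hV.fromSpec ⟨P, hP.isPrime⟩)) := by
      have := hV.isLocalization_stalk ⟨_, hy⟩
      rwa [hP'] at this
    let eqv := IsLocalization.algEquiv P.primeCompl (Y.presheaf.stalk (hV.fromSpec ⟨P, hP.isPrime⟩))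
      (Localization P.primeCompl)
    haveI := hY (hV.fromSpec ⟨P, hP.isPrime⟩)
    haveI : IsPrincipalIdealRing (Localization P.primeCompl) :=
      IsPrincipalIdealRing.of_surjective eqv.toRingEquiv.toRingHom eqv.toRingEquiv.surjective
    infer_instance
  · rintro s ⟨⟨a, ha⟩, has⟩
    exact h V U e hV hU a s (nonZeroDivisors.ne_zero ha) has

end Base

section Main

variable {X Y : Scheme.{u}} [IsIntegral Y] (f : X ⟶ Y)

/-- A quotient of the generic fibre extends to a quotient flat over the base. -/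
theorem exists_flat_quotient (hY : ∀ y : Y, IsPrincipalIdealRing (Y.presheaf.stalk y))
    (F : X.Modules) [Coh.IsQCoh F] (G' : (f.fiber (genericPoint Y)).Modules) [Coh.IsQCoh G']
    (π : (Scheme.Modules.pullback (f.fiberι (genericPoint Y))).obj F ⟶ G') [Epi π] :
    ∃ (G : X.Modules) (ρ : F ⟶ G)
      (e : (Scheme.Modules.pullback (f.fiberι (genericPoint Y))).obj G ≅ G'),
      Epi ρ ∧ Coh.IsQCoh G ∧ FlatMod.IsFlatOver f G ∧
        (Scheme.Modules.pullback (f.fiberι (genericPoint Y))).map ρ ≫ e.hom = π := by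
  haveI := flat_fiberι f
  haveI := Desc19b.quasiCompact_fiberι f
  let ι := f.fiberι (genericPoint Y)
  haveI : Flat ι := flat_fiberι f
  let adj := Scheme.Modules.pullbackPushforwardAdjunction ι
  let φ : F ⟶ (Scheme.Modules.pushforward ι).obj G' := adj.homEquiv _ _ π
  haveI hP : Coh.IsQCoh ((Scheme.Modules.pushforward ι).obj G') := isQCoh_push ι G'
  haveI hG : Coh.IsQCoh (Abelian.image φ) := isQCoh_image φ
  haveI : IsIso (adj.counit.app G') := isIso_counit ι G'
  let h := (Scheme.Modules.pullback ι).map (Abelian.image.ι φ) ≫ adj.counit.app G'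
  have hfac : (Scheme.Modules.pullback ι).map (Abelian.factorThruImage φ) ≫ h = π := by
    rw [← Category.assoc, ← Functor.map_comp, Abelian.image.fac]
    exact (adj.homEquiv_counit (g := φ)).symm.trans ((adj.homEquiv _ _).symm_apply_apply π)
  haveI : Mono h := inferInstance
  haveI : Epi h := epi_of_epi_fac hfac
  haveI : IsIso h := isIso_of_mono_of_epi h
  refine ⟨Abelian.image φ, Abelian.factorThruImage φ, asIso h, inferInstance, hG, ?_, hfac⟩
  refine isFlatOver_of_torsionFree f _ hY fun V U e hV hU a s ha has => ?_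
  have h1 := congrArg ((Abelian.image.ι φ).app U) has
  rw [Scheme.Modules.Hom.app_smul, map_zero] at h1
  refine Coherent.app_injective_of_mono (Abelian.image.ι φ) U ?_
  rw [map_zero]
  let t : Γ(G', ι ⁻¹ᵁ U) := (Abelian.image.ι φ).app U s
  have h2 : ι.app U (f.appLE V U e a) • t = 0 := h1
  have hu : IsUnit (ι.app U (f.appLE V U e a)) := isUnit_appLE f e ha
  have h3 : t = 0 := hu.smul_eq_zero.1 h2
  exact h3

/-- The flat extension is unique. -/
theorem unique_flat_quotient (F : X.Modules) (G' : (f.fiber (genericPoint Y)).Modules)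
    (π : (Scheme.Modules.pullback (f.fiberι (genericPoint Y))).obj F ⟶ G')
    (G₁ G₂ : X.Modules) (ρ₁ : F ⟶ G₁) (ρ₂ : F ⟶ G₂)
    (e₁ : (Scheme.Modules.pullback (f.fiberι (genericPoint Y))).obj G₁ ≅ G')
    (e₂ : (Scheme.Modules.pullback (f.fiberι (genericPoint Y))).obj G₂ ≅ G')
    [Epi ρ₁] [Epi ρ₂] [Coh.IsQCoh G₁] [Coh.IsQCoh G₂] (h₁ : FlatMod.IsFlatOver f G₁)
    (h₂ : FlatMod.IsFlatOver f G₂)
    (w₁ : (Scheme.Modules.pullback (f.fiberι (genericPoint Y))).map ρ₁ ≫ e₁.hom = π)
    (w₂ : (Scheme.Modules.pullback (f.fiberι (genericPoint Y))).map ρ₂ ≫ e₂.hom = π) :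
    ∃ e : G₁ ≅ G₂, ρ₁ ≫ e.hom = ρ₂ := by
  let adj := Scheme.Modules.pullbackPushforwardAdjunction (f.fiberι (genericPoint Y))
  haveI := mono_unit f G₁ h₁
  haveI := mono_unit f G₂ h₂
  let m₁ := adj.homEquiv _ _ e₁.hom
  let m₂ := adj.homEquiv _ _ e₂.hom
  haveI : Mono m₁ := by
    show Mono (adj.homEquiv _ _ e₁.hom)
    rw [adj.homEquiv_unit]; infer_instance
  haveI : Mono m₂ := by
    show Mono (adj.homEquiv _ _ e₂.hom)
    rw [adj.homEquiv_unit]; infer_instance
  have c : ρ₁ ≫ m₁ = ρ₂ ≫ m₂ :=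
    ((adj.homEquiv_naturality_left ρ₁ e₁.hom).symm.trans (congrArg _ (w₁.trans w₂.symm))).trans
      (adj.homEquiv_naturality_left ρ₂ e₂.hom)
  have k₁ : kernel.ι ρ₁ ≫ ρ₂ = 0 := by
    rw [← cancel_mono m₂, Category.assoc, ← c, kernel.condition_assoc, zero_comp, zero_comp]
  have k₂ : kernel.ι ρ₂ ≫ ρ₁ = 0 := by
    rw [← cancel_mono m₁, Category.assoc, c, kernel.condition_assoc, zero_comp, zero_comp]
  refine ⟨⟨Abelian.epiDesc ρ₁ ρ₂ k₁, Abelian.epiDesc ρ₂ ρ₁ k₂, ?_, ?_⟩, Abelian.comp_epiDesc _ _ _⟩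
  · rw [← cancel_epi ρ₁, Abelian.comp_epiDesc_assoc, Abelian.comp_epiDesc, Category.comp_id]
  · rw [← cancel_epi ρ₂, Abelian.comp_epiDesc_assoc, Abelian.comp_epiDesc, Category.comp_id]

end Main

end Groth.Agent.RelPerfH3.FlatClosureMod
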