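import Groth.Prelude.Def_LocCohZ
import Mathlib.Topology.Sheaves.MayerVietoris
import Mathlib.CategoryTheory.Abelian.Exact

/-!
# Mayer-Vietoris for cohomology with supports in closed subsets
-/

set_option autoImplicit false
set_option backward.isDefEq.respectTransparency false
set_option linter.style.haveILetI false

universe v u w

open CategoryTheory CategoryTheory.Limits CategoryTheory.Abelian Opposite TopologicalSpace

namespace Groth.Agent.RelPerfH3.HZMV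

section Nine

variable {A : Type u} [Category.{v} A] [Abelian A] {P B B' Q T : A}
  (f : P ⟶ B) (f' : P ⟶ B') (g : B ⟶ Q) (g' : B' ⟶ Q) (a : B ⟶ T) (a' : B' ⟶ T) (p : P ⟶ T) (q : Q ⟶ T)

theorem nine [Mono q]
    (hf : f ≫ a = p) (hf' : f' ≫ a' = p) (hg : g ≫ q = a) (hg' : g' ≫ q = a')
    (w : biprod.lift f (-f') ≫ biprod.desc g g' = 0)
    (hse : (ShortComplex.mk _ _ w).ShortExact)
    (α : cokernel p ⟶ cokernel a) (α' : cokernel p ⟶ cokernel a')
    (β : cokernel a ⟶ cokernel q) (β' : cokernel a' ⟶ cokernel q)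
    (hα : cokernel.π p ≫ α = cokernel.π a) (hα' : cokernel.π p ≫ α' = cokernel.π a')
    (hβ : cokernel.π a ≫ β = cokernel.π q) (hβ' : cokernel.π a' ≫ β' = cokernel.π q) :
    ∃ w' : biprod.lift α (-α') ≫ biprod.desc β β' = 0,
      (ShortComplex.mk _ _ w').ShortExact := by
  have hw' : biprod.lift α (-α') ≫ biprod.desc β β' = 0 := by
    rw [biprod.lift_desc, Preadditive.neg_comp, ← sub_eq_add_neg, sub_eq_zero]
    apply (cancel_epi (cokernel.π p)).1
    rw [reassoc_of% hα, reassoc_of% hα', hβ, hβ']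
  have hcok : ∀ {X Y : A} (k : X ⟶ Y), (ShortComplex.mk k (cokernel.π k) (cokernel.condition k)).Exact :=
    fun k => ShortComplex.exact_of_g_is_cokernel _ (cokernelIsCokernel k)
  haveI : Epi β := by
    haveI : Epi (cokernel.π a ≫ β) := by rw [hβ]; infer_instance
    exact epi_of_epi (cokernel.π a) β
  haveI : Epi (biprod.desc β β') := by
    haveI : Epi (biprod.inl ≫ biprod.desc β β') := by rw [biprod.inl_desc]; infer_instance
    exact epi_of_epi biprod.inl _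
  refine ⟨hw', ?_⟩
  haveI : Mono (biprod.lift α (-α')) := by
    refine Preadditive.mono_of_cancel_zero _ fun {Z} z hz => ?_
    have h1 : z ≫ α = 0 := by
      have := hz =≫ biprod.fst; rwa [Category.assoc, biprod.lift_fst, zero_comp] at this
    have h2 : z ≫ α' = 0 := by
      have := hz =≫ biprod.snd
      rwa [Category.assoc, biprod.lift_snd, zero_comp, Preadditive.comp_neg, neg_eq_zero] at this
    obtain ⟨Z₁, π₁, hπ₁, t, ht⟩ := surjective_up_to_refinements_of_epi (cokernel.π p) z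
    have ha : t ≫ cokernel.π a = 0 := by rw [← hα, ← reassoc_of% ht, h1, comp_zero]
    have ha' : t ≫ cokernel.π a' = 0 := by rw [← hα', ← reassoc_of% ht, h2, comp_zero]
    obtain ⟨Z₂, π₂, hπ₂, y, hy⟩ := (hcok a).exact_up_to_refinements t ha
    obtain ⟨Z₃, π₃, hπ₃, y', hy'⟩ := (hcok a').exact_up_to_refinements (π₂ ≫ t)
      (show (π₂ ≫ t) ≫ cokernel.π a' = 0 by rw [Category.assoc, ha', comp_zero])
    change π₂ ≫ t = y ≫ a at hy
    change π₃ ≫ π₂ ≫ t = y' ≫ a' at hy'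
    have hd : biprod.lift (π₃ ≫ y) (-y') ≫ biprod.desc g g' = 0 := by
      apply (cancel_mono q).1
      rw [biprod.lift_desc, zero_comp, Preadditive.add_comp, Preadditive.neg_comp, Preadditive.neg_comp,
        Category.assoc, Category.assoc, Category.assoc, hg, hg', ← hy, ← hy', add_neg_cancel]
    obtain ⟨Z₄, π₄, hπ₄, r, hr⟩ := hse.exact.exact_up_to_refinements _ hd
    change π₄ ≫ biprod.lift (π₃ ≫ y) (-y') = r ≫ biprod.lift f (-f') at hr
    have hr1 : π₄ ≫ π₃ ≫ y = r ≫ f := by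
      have := hr =≫ biprod.fst; rwa [Category.assoc, Category.assoc, biprod.lift_fst, biprod.lift_fst] at this
    apply (cancel_epi (π₄ ≫ π₃ ≫ π₂ ≫ π₁)).1
    simp only [comp_zero, Category.assoc, ht, reassoc_of% hy, reassoc_of% hr1, reassoc_of% hf, cokernel.condition]
  refine { exact := ?_, mono_f := ‹_›, epi_g := ‹_› }
  rw [ShortComplex.exact_iff_exact_up_to_refinements]
  intro Z x hx
  change Z ⟶ cokernel a ⊞ cokernel a' at x
  change x ≫ biprod.desc β β' = 0 at hx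
  obtain ⟨Z₁, π₁, hπ₁, t, ht⟩ := surjective_up_to_refinements_of_epi (cokernel.π a) (x ≫ biprod.fst)
  obtain ⟨Z₂, π₂, hπ₂, t', ht'⟩ := surjective_up_to_refinements_of_epi (cokernel.π a') (π₁ ≫ x ≫ biprod.snd)
  have hsum : (π₂ ≫ t + t') ≫ cokernel.π q = 0 := by
    have e : π₂ ≫ π₁ ≫ x ≫ biprod.desc β β' = 0 := by rw [hx, comp_zero, comp_zero]
    rw [biprod.desc_eq, Preadditive.comp_add, Preadditive.comp_add, Preadditive.comp_add] at e
    rw [Preadditive.add_comp, Category.assoc]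
    refine Eq.trans ?_ e
    congr 1
    · rw [← hβ, ← reassoc_of% ht]
    · rw [← hβ', ← reassoc_of% ht']
  obtain ⟨Z₃, π₃, hπ₃, s, hs⟩ := (hcok q).exact_up_to_refinements _ hsum
  change π₃ ≫ (π₂ ≫ t + t') = s ≫ q at hs
  haveI : Epi (biprod.desc g g') := hse.epi_g
  obtain ⟨Z₄, π₄, hπ₄, y, hy⟩ := surjective_up_to_refinements_of_epi (biprod.desc g g') s
  refine ⟨Z₄, π₄ ≫ π₃ ≫ π₂ ≫ π₁, inferInstance,
    (π₄ ≫ π₃ ≫ π₂ ≫ t - (y ≫ biprod.fst) ≫ a) ≫ cokernel.π p, ?_⟩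
  change (π₄ ≫ π₃ ≫ π₂ ≫ π₁) ≫ x =
    ((π₄ ≫ π₃ ≫ π₂ ≫ t - (y ≫ biprod.fst) ≫ a) ≫ cokernel.π p) ≫ biprod.lift α (-α')
  apply biprod.hom_ext
  · simp only [Category.assoc, biprod.lift_fst, hα, Preadditive.sub_comp, cokernel.condition, comp_zero, sub_zero, ht]
  · have hy' : π₄ ≫ π₃ ≫ π₂ ≫ t + π₄ ≫ π₃ ≫ t' = (y ≫ biprod.fst) ≫ a + (y ≫ biprod.snd) ≫ a' := by
      rw [← Preadditive.comp_add, ← Preadditive.comp_add, hs, reassoc_of% hy, biprod.desc_eq, Preadditive.add_comp,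
        Category.assoc, Category.assoc, hg, hg', Preadditive.comp_add, Category.assoc, Category.assoc]
    have hy'' : π₄ ≫ π₃ ≫ π₂ ≫ t - (y ≫ biprod.fst) ≫ a = (y ≫ biprod.snd) ≫ a' - π₄ ≫ π₃ ≫ t' := by
      rw [sub_eq_sub_iff_add_eq_add, hy', add_comm]
    rw [hy'']
    simp only [Category.assoc, biprod.lift_snd, Preadditive.comp_neg, hα', Preadditive.sub_comp, cokernel.condition,
      comp_zero, neg_zero, zero_sub, neg_neg, ht']

end Nine

section Ext

variable {A : Type u} [Category.{v} A] [Abelian A] [HasExt.{w} A] {P B B' Q : A}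
  {f : P ⟶ B} {f' : P ⟶ B'} {g : B ⟶ Q} {g' : B' ⟶ Q} {w' : biprod.lift f (-f') ≫ biprod.desc g g' = 0}
  (h : (ShortComplex.mk _ _ w').ShortExact) (F : A)

theorem neg_mk₀ {X Y : A} (k : X ⟶ Y) : Ext.mk₀ (-k) = -Ext.mk₀ k :=
  (Ext.addEquiv₀ (X := X) (Y := Y)).symm.map_neg k

theorem comp_pair {i : ℕ} (y : Ext B F i) (y' : Ext B' F i) :
    (Ext.mk₀ (biprod.lift f (-f'))).comp
        ((Ext.mk₀ biprod.fst).comp y (zero_add i) + (Ext.mk₀ biprod.snd).comp y' (zero_add i)) (zero_add i) =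
      (Ext.mk₀ f).comp y (zero_add i) - (Ext.mk₀ f').comp y' (zero_add i) := by
  simp only [Ext.comp_add, Ext.mk₀_comp_mk₀_assoc, biprod.lift_fst, biprod.lift_snd]
  rw [neg_mk₀, Ext.neg_comp, sub_eq_add_neg]

theorem eq_pair {i : ℕ} (e : Ext (B ⊞ B') F i) :
    (Ext.mk₀ biprod.fst).comp ((Ext.mk₀ (biprod.inl : B ⟶ B ⊞ B')).comp e (zero_add i)) (zero_add i) +
      (Ext.mk₀ biprod.snd).comp ((Ext.mk₀ (biprod.inr : B' ⟶ B ⊞ B')).comp e (zero_add i)) (zero_add i) = e := by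
  rw [Ext.mk₀_comp_mk₀_assoc, Ext.mk₀_comp_mk₀_assoc, ← Ext.add_comp, ← Ext.mk₀_add, biprod.total, Ext.mk₀_id_comp]

theorem desc_comp_inl {i : ℕ} (x : Ext Q F i) :
    (Ext.mk₀ (biprod.inl : B ⟶ B ⊞ B')).comp ((Ext.mk₀ (biprod.desc g g')).comp x (zero_add i)) (zero_add i) =
      (Ext.mk₀ g).comp x (zero_add i) := by
  rw [Ext.mk₀_comp_mk₀_assoc, biprod.inl_desc]

theorem desc_comp_inr {i : ℕ} (x : Ext Q F i) :
    (Ext.mk₀ (biprod.inr : B' ⟶ B ⊞ B')).comp ((Ext.mk₀ (biprod.desc g g')).comp x (zero_add i)) (zero_add i) =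
      (Ext.mk₀ g').comp x (zero_add i) := by
  rw [Ext.mk₀_comp_mk₀_assoc, biprod.inr_desc]

theorem desc_comp_eq_zero_iff {i : ℕ} (x : Ext Q F i) :
    (Ext.mk₀ (biprod.desc g g')).comp x (zero_add i) = 0 ↔
      (Ext.mk₀ g).comp x (zero_add i) = 0 ∧ (Ext.mk₀ g').comp x (zero_add i) = 0 := by
  constructor
  · intro hx
    rw [← desc_comp_inl (g := g) (g' := g') F x, ← desc_comp_inr (g := g) (g' := g') F x, hx, Ext.comp_zero,
      Ext.comp_zero]
    exact ⟨rfl, rfl⟩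
  · rintro ⟨h1, h2⟩
    rw [← eq_pair F ((Ext.mk₀ (biprod.desc g g')).comp x (zero_add i)), desc_comp_inl, desc_comp_inr, h1, h2,
      Ext.comp_zero, Ext.comp_zero, add_zero]

include h in
theorem mv_ext :
    Function.Injective (fun x : Ext Q F 0 => ((Ext.mk₀ g).comp x (zero_add 0), (Ext.mk₀ g').comp x (zero_add 0))) ∧
    ∃ δ : ∀ i : ℕ, Ext P F i →+ Ext Q F (i + 1), ∀ i : ℕ,
      (∀ y : Ext B F i × Ext B' F i,
        (Ext.mk₀ f).comp y.1 (zero_add i) - (Ext.mk₀ f').comp y.2 (zero_add i) = 0 ↔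
          ∃ x : Ext Q F i, (Ext.mk₀ g).comp x (zero_add i) = y.1 ∧ (Ext.mk₀ g').comp x (zero_add i) = y.2) ∧
      (∀ t : Ext P F i, δ i t = 0 ↔ ∃ y : Ext B F i × Ext B' F i,
          (Ext.mk₀ f).comp y.1 (zero_add i) - (Ext.mk₀ f').comp y.2 (zero_add i) = t) ∧
      (∀ x : Ext Q F (i + 1), ((Ext.mk₀ g).comp x (zero_add (i + 1)) = 0 ∧ (Ext.mk₀ g').comp x (zero_add (i + 1)) = 0) ↔
          ∃ t : Ext P F i, δ i t = x) := by
  haveI : Epi (biprod.desc g g') := h.epi_g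
  refine ⟨fun x x' hxx => ?_, fun i => h.extClass.precomp F (show 1 + i = i + 1 by omega), fun i => ⟨fun y => ?_, fun t => ?_, fun x => ?_⟩⟩
  · obtain ⟨φ, rfl⟩ := (Ext.mk₀_bijective _ _).2 x
    obtain ⟨φ', rfl⟩ := (Ext.mk₀_bijective _ _).2 x'
    congr 1
    apply (cancel_epi (biprod.desc g g')).1
    obtain ⟨e1, e2⟩ := Prod.mk.injEq .. ▸ hxx
    rw [Ext.mk₀_comp_mk₀, Ext.mk₀_comp_mk₀] at e1 e2
    apply biprod.hom_ext'
    · rw [biprod.inl_desc_assoc, biprod.inl_desc_assoc]; exact (Ext.mk₀_bijective _ _).1 e1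
    · rw [biprod.inr_desc_assoc, biprod.inr_desc_assoc]; exact (Ext.mk₀_bijective _ _).1 e2
  · constructor
    · intro hy
      rw [← comp_pair] at hy
      obtain ⟨x, hx⟩ := Ext.contravariant_sequence_exact₂ h F _ hy
      change (Ext.mk₀ (biprod.desc g g')).comp x (zero_add i) = _ at hx
      refine ⟨x, ?_, ?_⟩
      · rw [← desc_comp_inl (g := g) (g' := g') F x, hx, Ext.comp_add, Ext.mk₀_comp_mk₀_assoc,
          Ext.mk₀_comp_mk₀_assoc, biprod.inl_fst, biprod.inl_snd, Ext.mk₀_id_comp, Ext.mk₀_zero, Ext.zero_comp,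
          add_zero]
      · rw [← desc_comp_inr (g := g) (g' := g') F x, hx, Ext.comp_add, Ext.mk₀_comp_mk₀_assoc,
          Ext.mk₀_comp_mk₀_assoc, biprod.inr_fst, biprod.inr_snd, Ext.mk₀_id_comp, Ext.mk₀_zero, Ext.zero_comp,
          zero_add]
    · rintro ⟨x, h1, h2⟩
      rw [← comp_pair, ← h1, ← h2, ← desc_comp_inl (g := g) (g' := g') F x,
        ← desc_comp_inr (g := g) (g' := g') F x, eq_pair, Ext.mk₀_comp_mk₀_assoc, w', Ext.mk₀_zero, Ext.zero_comp]
  · constructor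
    · intro ht
      obtain ⟨e, he⟩ := Ext.contravariant_sequence_exact₁ h F t (show 1 + i = i + 1 by omega) ht
      change (Ext.mk₀ (biprod.lift f (-f'))).comp e (zero_add i) = t at he
      refine ⟨((Ext.mk₀ biprod.inl).comp e (zero_add i), (Ext.mk₀ biprod.inr).comp e (zero_add i)), ?_⟩
      rw [← comp_pair, eq_pair, he]
    · rintro ⟨y, rfl⟩
      rw [← comp_pair]
      exact h.extClass_comp_assoc (h := show 1 + i = i + 1 by omega) _
  · rw [← desc_comp_eq_zero_iff]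
    constructor
    · exact fun hx => Ext.contravariant_sequence_exact₃ h F x hx (show 1 + i = i + 1 by omega)
    · rintro ⟨t, rfl⟩
      exact h.comp_extClass_assoc _ (show 1 + i = i + 1 by omega)

end Ext

section Opens

variable {X : TopCat.{u}}

theorem zqMap_π {W V W' V' : Opens X} (h : W ≤ V) (h' : W' ≤ V') (hW : W' ≤ W) (hV : V' ≤ V) :
    cokernel.π _ ≫ LocCohZ.zqMap h h' hW hV =
      CohCx.freeSheafMap (Opens.grothendieckTopology X) (homOfLE hV) ≫ cokernel.π _ :=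
  cokernel.π_desc _ _ _

theorem zq_shortExact (U U' : Opens X) :
    ∃ w' : biprod.lift
        (LocCohZ.zqMap (le_top : U ≤ ⊤) (le_top : U ⊓ U' ≤ ⊤) inf_le_left le_rfl)
        (-LocCohZ.zqMap (le_top : U' ≤ ⊤) (le_top : U ⊓ U' ≤ ⊤) inf_le_right le_rfl) ≫
      biprod.desc (LocCohZ.zqMap (le_top : U ⊔ U' ≤ ⊤) (le_top : U ≤ ⊤) le_sup_left le_rfl)
        (LocCohZ.zqMap (le_top : U ⊔ U' ≤ ⊤) (le_top : U' ≤ ⊤) le_sup_right le_rfl) = 0,
      (ShortComplex.mk _ _ w').ShortExact := by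
  let J := Opens.grothendieckTopology X
  have hmv := (Opens.mayerVietorisSquare U U').shortComplex_shortExact
  haveI : Mono (CohCx.freeSheafMap J (homOfLE (le_top : U ⊔ U' ≤ ⊤))) :=
    (LocCohZ.zqSeq_shortExact (le_top : U ⊔ U' ≤ ⊤)).mono_f
  have hcomp : ∀ {W V : Opens X} (a : W ≤ V),
      CohCx.freeSheafMap J (homOfLE a) ≫ CohCx.freeSheafMap J (homOfLE (le_top : V ≤ ⊤)) =
        CohCx.freeSheafMap J (homOfLE (le_top : W ≤ ⊤)) := fun a =>
    (CohFree.freeSheafMap_comp J _ _).symm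
  have hid : ∀ {W V : Opens X} (h : W ≤ ⊤) (h' : V ≤ ⊤) (a : V ≤ W),
      cokernel.π (CohCx.freeSheafMap J (homOfLE h')) ≫ LocCohZ.zqMap h h' a le_rfl = cokernel.π _ := by
    intro W V h h' a
    rw [zqMap_π, show homOfLE (le_refl (⊤ : Opens X)) = 𝟙 _ from rfl, CohFree.freeSheafMap_id, Category.id_comp]
  exact nine (CohCx.freeSheafMap J (homOfLE (inf_le_left : U ⊓ U' ≤ U)))
    (CohCx.freeSheafMap J (homOfLE (inf_le_right : U ⊓ U' ≤ U')))
    (CohCx.freeSheafMap J (homOfLE (le_sup_left : U ≤ U ⊔ U')))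
    (CohCx.freeSheafMap J (homOfLE (le_sup_right : U' ≤ U ⊔ U')))
    (CohCx.freeSheafMap J (homOfLE le_top)) (CohCx.freeSheafMap J (homOfLE le_top))
    (CohCx.freeSheafMap J (homOfLE le_top)) (CohCx.freeSheafMap J (homOfLE le_top))
    (hcomp _) (hcomp _) (hcomp _) (hcomp _) (Opens.mayerVietorisSquare U U').shortComplex.zero hmv _ _ _ _
    (hid _ _ _) (hid _ _ _) (hid _ _ _) (hid _ _ _)

end Opens

end Groth.Agent.RelPerfH3.HZMV
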