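import Groth.Agent.ExtSS.SupportBridge
import Groth.Agent.CAlgH3.SupportVanish
import Groth.Agent.Coherent.Vanishing
import Groth.Agent.Coherent.RpushVanish

/-!
# Local cohomology sheaves vanish above the number of equations
-/

set_option autoImplicit false
set_option backward.isDefEq.respectTransparency.types false
set_option linter.style.haveILetI false

universe u

open CategoryTheory CategoryTheory.Limits AlgebraicGeometry Opposite TopologicalSpace

namespace Groth.Agent.RelPerfH3.LocCohBound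

variable {X : Scheme.{u}}

/-- A union of `t` basic opens of an affine has no quasi-coherent cohomology from degree `t` on. -/
theorem subsingleton_H'_iSup_basicOpen (M : X.Modules) [Coh.IsQCoh M] {W : X.Opens} (hW : IsAffineOpen W) :
    ∀ (t : ℕ) (g : Fin t → Γ(X, W)) (n : ℕ), t ≤ n →
      Subsingleton (Sheaf.H' (Coh.toAb M) n (⨆ i, X.basicOpen (g i)))
  | 0, g, n, _ => by
    rw [iSup_of_empty]
    exact Coherent.subsingleton_H'_bot (X := X.toTopCat) (Coh.toAb M) n
  | t + 1, g, n, hn => by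
    obtain ⟨m, rfl⟩ := Nat.exists_eq_add_of_le hn
    rw [show t + 1 + m = t + m + 1 by omega]
    have e : (⨆ i, X.basicOpen (g i)) =
        (⨆ i : Fin t, X.basicOpen (g i.castSucc)) ⊔ X.basicOpen (g (Fin.last t)) := by
      refine le_antisymm (iSup_le fun i => ?_)
        (sup_le (iSup_le fun i => le_iSup (fun i => X.basicOpen (g i)) _) (le_iSup (fun i => X.basicOpen (g i)) _))
      induction i using Fin.lastCases with
      | last => exact le_sup_right
      | cast j => exact le_sup_of_le_left (le_iSup (fun i : Fin t => X.basicOpen (g i.castSucc)) j)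
    rw [e]
    refine Coherent.subsingleton_H'_sup_sch M _
      (subsingleton_H'_iSup_basicOpen M hW t (fun i => g i.castSucc) _ (by omega))
      (Coherent.subsingleton_H'_qcoh_pos M (hW.basicOpen _) (by omega)) ?_
    rw [iSup_inf_eq]
    simp only [← Scheme.basicOpen_mul]
    exact subsingleton_H'_iSup_basicOpen M hW t (fun i => g i.castSucc * g (Fin.last t)) _ (by omega)

/-- `Z` cut out by at most `c` equations near each point: the local cohomology sheaves vanish above `c`. -/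
theorem isZero_HZshM_of_equations [HasInjectiveResolutions X.Modules] (U : X.Opens) (c : ℕ)
    (hT : ∀ x : X, ∃ (V : X.Opens) (fs : Finset Γ(X, V)), x ∈ V ∧ fs.card ≤ c ∧
      X.zeroLocus (U := V) (↑fs : Set Γ(X, V)) ∩ (V : Set ↥X) = (U : Set ↥X)ᶜ ∩ (V : Set ↥X))
    (F : X.Modules) [Coh.IsQCoh F] (i : ℕ) (hi : c < i) :
    IsZero ((LocCohZ.HZshM U.ι i).obj F) := by
  refine ExtSS.isZero_HZshM U F i ?_
  refine IsZero.of_iso ?_ ((CAlgH3.SupportSheaf.HZshIso (X := X.carrier) U i).app (Coh.toAb F))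
  let B : Set X.Opens := {W | IsAffineOpen W ∧ ∃ (g : Fin c → Γ(X, W)), W ⊓ U = ⨆ k, X.basicOpen (g k)}
  have hB : Opens.IsBasis B := by
    rw [Opens.isBasis_iff_nbhd]
    intro O x hx
    obtain ⟨V, fs, hxV, hfs, hV⟩ := hT x
    obtain ⟨W, hW, hxW, hWO⟩ := exists_isAffineOpen_mem_and_subset (x := x) (U := O ⊓ V) ⟨hx, hxV⟩
    have hWV : W ≤ V := fun z hz => (hWO hz).2
    refine ⟨W, ⟨hW, ?_⟩, hxW, fun z hz => (hWO hz).1⟩
    let e := fs.equivFin
    let g : Fin c → Γ(X, W) := fun k => if h : (k : ℕ) < fs.card then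
      X.presheaf.map (homOfLE hWV).op (e.symm ⟨k, h⟩ : Γ(X, V)) else 0
    refine ⟨g, Opens.ext (Set.ext fun z => ?_)⟩
    simp only [Opens.coe_inf, Set.mem_inter_iff, Opens.coe_iSup, Set.mem_iUnion, SetLike.mem_coe]
    constructor
    · rintro ⟨hzW, hzU⟩
      have : z ∉ X.zeroLocus (U := V) (↑fs : Set Γ(X, V)) := fun h =>
        ((hV.le ⟨h, hWV hzW⟩).1) hzU
      rw [Scheme.mem_zeroLocus_iff] at this
      push Not at this
      obtain ⟨f, hf, hzf⟩ := this
      refine ⟨⟨(e ⟨f, hf⟩ : ℕ), lt_of_lt_of_le (e ⟨f, hf⟩).2 hfs⟩, ?_⟩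
      simp only [g, dif_pos (e ⟨f, hf⟩).2, Fin.eta, Equiv.symm_apply_apply, Scheme.basicOpen_res]
      exact ⟨hzW, hzf⟩
    · rintro ⟨k, hk⟩
      have hzW : z ∈ W := X.basicOpen_le _ hk
      refine ⟨hzW, by_contra fun hzU => ?_⟩
      have h0 := (hV.ge ⟨hzU, hWV hzW⟩).1
      rw [Scheme.mem_zeroLocus_iff] at h0
      by_cases h : (k : ℕ) < fs.card
      · simp only [g, dif_pos h, Scheme.basicOpen_res] at hk
        exact h0 _ (e.symm ⟨k, h⟩).2 hk.2
      · simp only [g, dif_neg h, Scheme.basicOpen_zero] at hk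
        exact hk
  refine Coherent.isZero_sheafify_of_basis (Y := X.toTopCat) _ B hB fun W ⟨hW, g, hg⟩ => ?_
  show Subsingleton (LocCohZ.HZ (X := X.carrier) (Coh.toAb F) i (inf_le_left : W ⊓ U ≤ W))
  obtain ⟨q, rfl⟩ := Nat.exists_eq_add_of_lt hi
  have h1 : Subsingleton (CohTop.HU (X := X.carrier) (Coh.toAb F) (c + q + 1) W) :=
    Coherent.subsingleton_H'_qcoh_pos F hW (by omega)
  have h2 : Subsingleton (CohTop.HU (X := X.carrier) (Coh.toAb F) (c + q) (W ⊓ U)) := by
    rw [hg]
    exact subsingleton_H'_iSup_basicOpen F hW c g _ (by omega)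
  refine subsingleton_of_forall_eq 0 fun z => ?_
  obtain ⟨y, hy⟩ := Abelian.Ext.contravariant_sequence_exact₃
    (LocCohZ.zqSeq_shortExact (inf_le_left : W ⊓ U ≤ W)) (Coh.toAb F) z
    (@Subsingleton.elim _ h1 _ _) (show 1 + (c + q) = c + q + 1 by omega)
  rw [← hy, @Subsingleton.elim (Abelian.Ext (LocCohZ.zqSeq (inf_le_left : W ⊓ U ≤ W)).X₁ (Coh.toAb F) (c + q)) h2 y 0,
    Abelian.Ext.comp_zero]
  rfl

end Groth.Agent.RelPerfH3.LocCohBound
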