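import Groth.Agent.RelPerfH3.CechVanish
import Groth.Agent.RelPerfH3.LocCohBound
import Groth.Agent.Props12.FlatOver
import Groth.Agent.FlatCov8.Main

/-!
# Local cohomology sheaves of flat modules along Koszul regular sequences
-/

set_option autoImplicit false
set_option backward.isDefEq.respectTransparency false
set_option backward.isDefEq.respectTransparency.types false
set_option linter.style.haveILetI false

universe u

open CategoryTheory CategoryTheory.Limits AlgebraicGeometry Opposite TopologicalSpace CochainComplex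
open Groth.Agent.Coherent Groth.Agent.CAlgH3.ExtCech Groth.Agent.CechExt

namespace Groth.Agent.RelPerfH3.KoszulSupp

open CechSections

variable {X : Scheme.{u}} (F : X.Modules) {V W : X.Opens} (hWV : W ≤ V) {m : ℕ} (s : Fin m → Γ(X, V))

theorem exists_dn_eq {n : ℕ} (h : Ex (C F hWV s) ((n : ℤ) + 1)) (x : Cn F hWV s (n + 1))
    (hx : dn F hWV s (n + 1) x = 0) : ∃ y : Cn F hWV s n, dn F hWV s n y = x := by
  obtain ⟨y, hy⟩ := h (n : ℤ) ((n : ℤ) + 1 + 1) rfl rfl x ((C_d F hWV s (n + 1) x).trans hx)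
  exact ⟨y, (C_d F hWV s n y).symm.trans hy⟩

theorem isZero_cech_of_ex (q : ℕ) (h : Ex (C F hWV s) (((q + 1 : ℕ) : ℤ) + 1)) :
    IsZero ((SiteCoh.Cech.cx (E := X.Opens) F.presheaf (fam W s)).homology (q + 1)) := by
  refine HomologicalComplex.ExactAt.isZero_homology ?_
  rw [HomologicalComplex.exactAt_iff' _ q (q + 1) (q + 2) (by simp) (by simp), ShortComplex.ab_exact_iff]
  intro z hz
  obtain ⟨x, rfl⟩ := (bijective_toCech F hWV s (q + 1)).2 z
  have hx : dn F hWV s (q + 1 + 1) x = 0 := (bijective_toCech F hWV s (q + 1 + 1)).1 (by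
    rw [map_zero, toCech_d]; exact hz)
  obtain ⟨y, hy⟩ := exists_dn_eq F hWV s h x hx
  exact ⟨toCech F hWV s q y, (toCech_d F hWV s q y).symm.trans (congrArg (toCech F hWV s (q + 1)) hy)⟩

theorem subsingleton_HU [Coh.IsQCoh F] (hW : IsAffineOpen W) (q : ℕ) (h : Ex (C F hWV s) (((q + 1 : ℕ) : ℤ) + 1)) :
    Subsingleton (CohTop.HU (X := X.carrier) (Coh.toAb F) (q + 1) (⨆ i, fam W s i)) := by
  obtain ⟨e⟩ := Groth.Agent.S0464.result (X := X.toTopCat) (Coh.toAb F) (fam W s) (fun p a n => by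
    refine Coherent.subsingleton_H'_qcoh_pos F ?_ n.succ_pos
    rw [← SiteCoh.inter_eq_iInf (X := X.toTopCat) (fam W s) a, cinter_fam W s a]
    exact isAffineOpen_inter hWV s hW _) (q + 1)
  haveI : Subsingleton (CohTop.cechH (X := X.toTopCat) (Coh.toAb F).obj (fam W s) (q + 1)) :=
    AddCommGrpCat.subsingleton_of_isZero (isZero_cech_of_ex F hWV s q h)
  exact e.symm.toEquiv.subsingleton

include hWV in
theorem inter_one (a : Fin 1 → Fin m) : inter W s a = fam W s ⟨a 0⟩ := by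
  refine le_antisymm (inf_le_inf_left _ (iInf_le (fun k => X.basicOpen (s (a k))) 0))
    (inf_le_inf_left _ (le_iInf fun k => ?_))
  rw [Subsingleton.elim k 0]

include hWV in
theorem eq_of_res {U : X.Opens} (hU : U ≤ ⨆ i, fam W s i) (t t' : Γ(F, U))
    (h : ∀ (a : Fin 1 → Fin m) (e : inter W s a ⊓ U ≤ U), resM F e t = resM F e t') : t = t' := by
  refine TopCat.Sheaf.eq_of_locally_eq' (X := X.toTopCat) (Coh.toAb F) (fun i => fam W s i ⊓ U) U
    (fun i => homOfLE inf_le_right) (fun x hx => ?_) t t' fun i => ?_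
  · obtain ⟨i, hi⟩ := Opens.mem_iSup.1 (hU hx)
    exact Opens.mem_iSup.2 ⟨i, hi, hx⟩
  · have e := inter_one hWV s fun _ => i.down
    have h1 := congrArg (resM F (show fam W s i ⊓ U ≤ inter W s (fun _ => i.down) ⊓ U by rw [e])) (h (fun _ => i.down) inf_le_right)
    rw [resM_resM, resM_resM] at h1
    exact h1

theorem injective_res (h : Ex (C F hWV s) 0) (hsup : (⨆ i, fam W s i) ≤ W) :
    Function.Injective (resM F hsup) := by
  rw [injective_iff_map_eq_zero]
  intro t ht
  have hle : inter W s (Fin.elim0 : Fin 0 → Fin m) ≤ W := inf_le_left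
  let x : Cn F hWV s 0 := fun a => resM F (inf_le_left : inter W s a ≤ W) t
  have hx : dn F hWV s 0 x = 0 := funext fun a => by
    rw [dn_zero_apply, Pi.zero_apply]
    refine (resM_resM F _ _ t).trans ?_
    have e : inter W s a ≤ ⨆ i, fam W s i := (inter_one hWV s a).le.trans (le_iSup (fam W s) _)
    exact ((resM_resM F hsup e t).symm.trans (congrArg (resM F e) ht)).trans (map_zero _)
  obtain ⟨y, hy⟩ := h (-1) 1 rfl rfl x ((C_d F hWV s 0 x).trans hx)
  haveI := subsingleton_neg F hWV s (-1) (by omega)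
  rw [Subsingleton.elim y 0, map_zero] at hy
  have hb : Function.Bijective (resM F hle) :=
    resM_bijective_of_eq F hle (le_antisymm (le_inf le_rfl (le_iInf fun k => k.elim0)) hle)
  exact hb.1 ((congrFun hy Fin.elim0).symm.trans (map_zero _).symm)

theorem surjective_res (h : Ex (C F hWV s) 1) (hsup : (⨆ i, fam W s i) ≤ W) :
    Function.Surjective (resM F hsup) := by
  intro t
  have e : ∀ a : Fin 1 → Fin m, inter W s a ≤ ⨆ i, fam W s i := fun a =>
    (inter_one hWV s a).le.trans (le_iSup (fam W s) _)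
  let x : Cn F hWV s 1 := fun a => resM F (e a) t
  have hx : dn F hWV s 1 x = 0 := funext fun a => by
    rw [dn_apply, Fin.sum_univ_two, Fin.val_zero, Fin.val_one, pow_zero, pow_one, one_smul, neg_smul, one_smul,
      Pi.zero_apply]
    refine add_neg_eq_zero.2 ?_
    exact (resM_resM F _ _ t).trans (resM_resM F _ _ t).symm
  obtain ⟨y, hy⟩ := exists_dn_eq F hWV s (n := 0) h x hx
  have hle : inter W s (Fin.elim0 : Fin 0 → Fin m) ≤ W := inf_le_left
  obtain ⟨w, hw⟩ := (resM_bijective_of_eq F hle (le_antisymm (le_inf le_rfl (le_iInf fun k => k.elim0)) hle)).2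
    (y Fin.elim0)
  refine ⟨w, eq_of_res F hWV s le_rfl _ _ fun a ea => ?_⟩
  rw [resM_resM]
  have h1 := congrFun hy a
  rw [dn_zero_apply] at h1
  have h2 : resM F (inf_le_left : inter W s a ≤ W) w = resM F (e a) t := by
    refine Eq.trans ?_ h1
    refine Eq.trans ?_ (congrArg (resM F (inf_le_inf_left W (le_iInf fun k => k.elim0) :
      inter W s a ≤ inter W s (Fin.elim0 : Fin 0 → Fin m))) hw)
    exact (resM_resM F _ _ w).symm
  have h3 := congrArg (resM F (inf_le_left : inter W s a ⊓ (⨆ i, fam W s i) ≤ inter W s a)) h2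
  rw [resM_resM, resM_resM] at h3
  exact h3

variable [HasInjectiveResolutions X.Modules]

/-- Local cohomology sheaves of a flat quasi-coherent module vanish below the length of a Koszul regular
sequence cutting out the closed set. -/
theorem isZero_HZshM_of_koszulRegular (U : X.Opens) (c : ℕ)
    (hZ : ∀ x : X, ∃ (V : X.Opens) (fs : List Γ(X, V)), x ∈ V ∧ IsAffineOpen V ∧ fs.length = c ∧
      LCI.IsKoszulRegularSeq Γ(X, V) fs ∧
      X.zeroLocus (U := V) {a | a ∈ fs} ∩ (V : Set ↥X) = (U : Set ↥X)ᶜ ∩ (V : Set ↥X))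
    (F : X.Modules) [Coh.IsQCoh F] (hFl : FlatMod.IsFlat F) (i : ℕ) (hi : i < c) :
    IsZero ((LocCohZ.HZshM U.ι i).obj F) := by
  refine ExtSS.isZero_HZshM U F i ?_
  refine IsZero.of_iso ?_ ((CAlgH3.SupportSheaf.HZshIso (X := X.carrier) U i).app (Coh.toAb F))
  let B : Set X.Opens := {W | IsAffineOpen W ∧ ∃ (V : X.Opens) (fs : List Γ(X, V)), IsAffineOpen V ∧ W ≤ V ∧
    fs.length = c ∧ LCI.IsKoszulRegularSeq Γ(X, V) fs ∧ W ⊓ U = ⨆ k, fam W fs.get k}
  have hB : Opens.IsBasis B := by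
    rw [Opens.isBasis_iff_nbhd]
    intro O x hx
    obtain ⟨V, fs, hxV, hVa, hlen, hreg, hV⟩ := hZ x
    obtain ⟨W, hW, hxW, hWO⟩ := exists_isAffineOpen_mem_and_subset (x := x) (U := O ⊓ V) ⟨hx, hxV⟩
    have hWV : W ≤ V := fun z hz => (hWO hz).2
    refine ⟨W, ⟨hW, V, fs, hVa, hWV, hlen, hreg, ?_⟩, hxW, fun z hz => (hWO hz).1⟩
    refine Opens.ext (Set.ext fun z => ?_)
    simp only [Opens.coe_inf, Set.mem_inter_iff, Opens.coe_iSup, Set.mem_iUnion, SetLike.mem_coe]
    constructor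
    · rintro ⟨hzW, hzU⟩
      have : z ∉ X.zeroLocus (U := V) {a | a ∈ fs} := fun h => ((hV.le ⟨h, hWV hzW⟩).1) hzU
      rw [Scheme.mem_zeroLocus_iff] at this
      push Not at this
      obtain ⟨f, hf, hzf⟩ := this
      obtain ⟨k, rfl⟩ := List.mem_iff_get.1 hf
      exact ⟨⟨k⟩, hzW, hzf⟩
    · rintro ⟨k, hk⟩
      refine ⟨hk.1, by_contra fun hzU => ?_⟩
      have h0 := (hV.ge ⟨hzU, hWV hk.1⟩).1
      rw [Scheme.mem_zeroLocus_iff] at h0
      exact h0 _ (List.get_mem fs k.down) hk.2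
  refine Coherent.isZero_sheafify_of_basis (Y := X.toTopCat) _ B hB ?_
  rintro W ⟨hW, V, fs, hVa, hWV, hlen, hreg, hWU⟩
  show Subsingleton (LocCohZ.HZ (X := X.carrier) (Coh.toAb F) i (inf_le_left : W ⊓ U ≤ W))
  subst hlen
  haveI : Module.Flat Γ(X, V) (sec F hWV) := by
    have h := (Props12.flat_sections_iff (𝟙 X) F hVa hW (e := hWV)).2 fun x _ =>
      (FlatCov8.isFlatAt_iff_over_id F x).1 (hFl x)
    refine FlatCov8.flat_of_smul_eq _ _ (fun r (x : Γ(F, W)) => ?_) h
    show (Scheme.Hom.appLE (𝟙 X) V W hWV).hom r • x = X.presheaf.map (homOfLE hWV).op r • x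
    simp [Scheme.Hom.appLE]
  have hex : ∀ q : ℤ, q < fs.length → Ex (C F hWV fs.get) q := fun q hq => ex_C F hWV hW fs hreg q hq
  have hsup : (⨆ k, fam W fs.get k) ≤ W := iSup_le fun k => inf_le_left
  have h1 : ∀ n, Subsingleton (CohTop.HU (X := X.carrier) (Coh.toAb F) (n + 1) W) := fun n =>
    Coherent.subsingleton_H'_qcoh_pos F hW n.succ_pos
  match i with
  | 0 =>
    haveI : Subsingleton (LocCohZ.sectZ (X := X.carrier) (Coh.toAb F) (inf_le_left : W ⊓ U ≤ W)) := by
      refine ⟨fun a b => Subtype.ext (injective_res F hWV fs.get (hex 0 (by omega)) hsup ?_)⟩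
      have := congrArg (resM F hWU.ge) (a.2.trans b.2.symm)
      exact (resM_resM F (inf_le_left : W ⊓ U ≤ W) hWU.ge a.1).symm.trans
        (this.trans (resM_resM F (inf_le_left : W ⊓ U ≤ W) hWU.ge b.1))
    exact (LocCohZ.sect0Equiv (X := X.carrier) (Coh.toAb F) (inf_le_left : W ⊓ U ≤ W)).toEquiv.subsingleton
  | 1 =>
    refine CAlgH3.SupportVanish.subsingleton_one_of_surjective (X := X.carrier) (Coh.toAb F) _ (h1 0) fun t => ?_
    obtain ⟨w, hw⟩ := surjective_res F hWV fs.get (hex 1 (by omega)) hsup (resM F hWU.ge t)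
    refine ⟨w, (resM_bijective_of_eq F hWU.ge hWU).1 ?_⟩
    exact (resM_resM F (inf_le_left : W ⊓ U ≤ W) hWU.ge w).trans hw
  | q + 2 =>
    obtain ⟨e⟩ := CAlgH3.SupportLES.nonempty_shift (X := X.carrier) (Coh.toAb F)
      (inf_le_left : W ⊓ U ≤ W) (q + 1) (h1 q) (h1 (q + 1))
    haveI : Subsingleton (CohTop.HU (X := X.carrier) (Coh.toAb F) (q + 1) (W ⊓ U)) := by
      rw [hWU]
      exact subsingleton_HU F hWV fs.get hW q (hex _ (by omega))
    exact e.symm.toEquiv.subsingleton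

end Groth.Agent.RelPerfH3.KoszulSupp
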