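import Groth.Agent.DQCoh.RelTorAffine
import Groth.Agent.DQCoh.RelTorLocal
import Groth.Agent.DQCoh.PscNoeth
import Groth.Agent.FlatCx12.RelPCFlatModule
import Groth.Agent.FlatCx12.PscInduction
import Groth.Agent.Props12.TildeFin
import Groth.Agent.Desc19b.ModStFibGrpd

/-!
# Relatively perfect objects are locally bounded complexes of flat finitely presented modules
-/

set_option autoImplicit false
set_option backward.isDefEq.respectTransparency false
set_option backward.defeqAttrib.useBackward true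
set_option linter.style.haveILetI false
set_option synthInstance.maxHeartbeats 100000
set_option backward.isDefEq.respectTransparency.types false

universe u

open CategoryTheory CategoryTheory.Limits CategoryTheory.Pretriangulated DerivedCategory Opposite TopologicalSpace AlgebraicGeometry
open Groth.Agent.DCat Groth.Agent.Coherent Groth.Agent.DQCoh

attribute [local instance] HasDerivedCategory.standard
attribute [-instance] Int.instConditionallyCompleteLinearOrder

namespace Groth.Agent.RelPerfH3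

variable {X S : Scheme.{u}} (f : X ⟶ S)

theorem isFP_restrict {W : Scheme.{u}} (k : W ⟶ X) [IsOpenImmersion k] {M : X.Modules} (hM : CohB1.IsFP M) :
    CohB1.IsFP ((Scheme.Modules.restrictFunctor k).obj M) :=
  (SheafOfModules.isFinitePresentation.{u} W.ringCatSheaf).prop_of_iso
    ((Scheme.Modules.restrictFunctorIsoPullback k).app M).symm (Desc19b.ModStFib.isFP_pullback k M hM)

/-- A finitely presented module flat over the base is pseudo-coherent, the morphism being flat and lfp. -/
theorem psc_inD_flatFP [Flat f] [LocallyOfFinitePresentation f] (M : X.Modules) (hM : CohB1.IsFP M)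
    (hfl : FlatMod.IsFlatOver f M) (m : ℤ) : DCoh.IsPseudoCoherentD m (DCoh.inD X M) := by
  refine psc_of_local _ fun x => ?_
  obtain ⟨U, hU, hsU, -⟩ := exists_isAffineOpen_mem_and_subset (x := f x) (U := (⊤ : S.Opens)) trivial
  obtain ⟨V, hV, hxV, hle⟩ := exists_isAffineOpen_mem_and_subset (x := x) (U := f ⁻¹ᵁ U) hsU
  let A : CommRingCat.{u} := Γ(S, U)
  let B : CommRingCat.{u} := Γ(X, V)
  let k : Spec B ⟶ X := hV.fromSpec
  let φ : A ⟶ B := f.appLE U V hle
  have hφ : Spec.map φ ≫ hU.fromSpec = k ≫ f := IsAffineOpen.SpecMap_appLE_fromSpec f hU hV _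
  refine ⟨Spec B, k, inferInstance, by show x ∈ hV.fromSpec.opensRange; rw [hV.opensRange_fromSpec]; exact hxV, ?_⟩
  let M' := (Scheme.Modules.restrictFunctor k).obj M
  have hM' : CohB1.IsFP M' := isFP_restrict k hM
  haveI : SheafOfModules.IsFinitePresentation.{u} (R := (Spec B).ringCatSheaf) M' := hM'
  haveI : Coh.IsQCoh M' := inferInstanceAs (SheafOfModules.IsQuasicoherent.{u} (R := (Spec B).ringCatSheaf) M')
  let L : ModuleCat.{u} B := moduleSpecΓFunctor.obj M'
  let i : M' ≅ (tilde.functor B).obj L := (asIso M'.fromTildeΓ).symm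
  haveI hL : Module.FinitePresentation B L :=
    (Props12.isFP_tilde_iff L).1 ((SheafOfModules.isFinitePresentation.{u} (Spec B).ringCatSheaf).prop_of_iso i hM')
  have hLf : Module.Flat A ((ModuleCat.restrictScalars φ.hom).obj L) := flat_of_isFlatOver_tilde φ L fun y =>
    EGA43.DvrCrit.isFlatOverAt_of_iso _ i y ((isFlatOverAt_comp_iff (Spec.map φ) hU.fromSpec M' y).1
      (by rw [hφ]; exact isFlatOver_restrict k f hfl y))
  letI : Algebra A B := φ.hom.toAlgebra
  haveI : Algebra.FinitePresentation A B :=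
    HasRingHomProperty.appLE (P := @LocallyOfFinitePresentation) f inferInstance ⟨U, hU⟩ ⟨V, hV⟩ hle
  haveI : Module.Flat A B := HasRingHomProperty.appLE (P := @Flat) f inferInstance ⟨U, hU⟩ ⟨V, hV⟩ hle
  letI : Module A L := Module.compHom L φ.hom
  haveI : IsScalarTower A B L := IsScalarTower.of_algebraMap_smul fun _ _ => rfl
  haveI : Module.Flat A L := hLf
  refine PCTriangle.psc_iso (((Scheme.Modules.restrictFunctor k).mapDerivedCategorySingleFunctor 0).app M).symm ?_
  exact PCTriangle.psc_mono (m := -((-m).toNat : ℤ)) (by omega)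
    (FlatCx12.RelPCFlatModule.psc_of_tilde i (FlatCx12.RelPCFlatModuleRing.pc_of_flat_fp A B L _))

/-- A local model gives pseudo-coherence and finite tor dimension relative to the base. -/
theorem rp_of_models [Flat f] [LocallyOfFinitePresentation f] (E : DCoh.D X)
    (h : ∀ x : X, ∃ V : X.Opens, x ∈ V ∧ ∃ (G : CochainComplex (V : Scheme.{u}).Modules ℤ) (a b : ℤ),
      DCoh.VanishesOutside G a b ∧ (∀ i : ℤ, CohB1.IsFP (G.X i) ∧ FlatMod.IsFlatOver (V.ι ≫ f) (G.X i)) ∧
        Nonempty ((PerfLocal.rd V.ι).obj E ≅ DerivedCategory.Q.obj G)) :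
    (∀ m : ℤ, DCoh.IsPseudoCoherentD m E) ∧ DCoh.LocHasFiniteRelTorDim f E := by
  refine ⟨fun m => psc_of_local E fun x => ?_, (locRel_iff f E).2 fun x => ?_⟩
  · obtain ⟨V, hxV, G, a, b, hG, hterm, ⟨e⟩⟩ := h x
    refine ⟨V, V.ι, inferInstance, by simpa using hxV, PCTriangle.psc_iso e.symm ?_⟩
    exact FlatCx12.PscInduction.psc_of_terms m (b + 1 - m).toNat G (fun i hi => hG i (Or.inr (by omega)))
      fun i => psc_inD_flatFP (V.ι ≫ f) (G.X i) (hterm i).1 (hterm i).2 _
  · obtain ⟨V, hxV, G, a, b, hG, hterm, ⟨e⟩⟩ := h x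
    exact ⟨V, V.ι, inferInstance, a, b, by simpa using hxV, G, hG, fun i => (hterm i).2, ⟨e.symm⟩⟩

/-- Local models of a relatively perfect object. -/
theorem exists_model [Flat f] [LocallyOfFinitePresentation f] (E : DCoh.D X)
    (hp : ∀ m : ℤ, DCoh.IsPseudoCoherentD m E) (ht : DCoh.LocHasFiniteRelTorDim f E) (x : X) :
    ∃ V : X.Opens, x ∈ V ∧ ∃ (G : CochainComplex (V : Scheme.{u}).Modules ℤ) (a b : ℤ),
      DCoh.VanishesOutside G a b ∧ (∀ i : ℤ, CohB1.IsFP (G.X i) ∧ FlatMod.IsFlatOver (V.ι ≫ f) (G.X i)) ∧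
        Nonempty ((PerfLocal.rd V.ι).obj E ≅ DerivedCategory.Q.obj G) := by
  obtain ⟨U, hU, hsU, -⟩ := exists_isAffineOpen_mem_and_subset (x := f x) (U := (⊤ : S.Opens)) trivial
  obtain ⟨V, hV, hxV, hle⟩ := exists_isAffineOpen_mem_and_subset (x := x) (U := f ⁻¹ᵁ U) hsU
  let A : CommRingCat.{u} := Γ(S, U)
  let B : CommRingCat.{u} := Γ(X, V)
  let k : Spec B ⟶ X := hV.fromSpec
  let φ : A ⟶ B := f.appLE U V hle
  have hφ : Spec.map φ ≫ hU.fromSpec = k ≫ f := IsAffineOpen.SpecMap_appLE_fromSpec f hU hV _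
  haveI := AffSchLib.preservesFiniteLimits_tilde B
  haveI := preservesFiniteColimits_tilde B
  obtain ⟨M, ⟨e⟩⟩ := ((tildeD_main B).2.2 _).1 (isQCohD_rd k (isQCohD_of_psc hp))
  obtain ⟨P, c, hc, hP, ⟨eP⟩⟩ := DRingLib.pc'_of_forall fun m =>
    pc_of_psc_tildeD (PCTriangle.psc_iso e.symm (psc_rd k (hp m)))
  let e₀ : (DCoh.tildeD B).obj (DRing.toD P) ≅ (PerfLocal.rd k).obj E := (DCoh.tildeD B).mapIso eP ≪≫ e
  have hflat : ∀ i, Module.Flat A ((ModuleCat.restrictScalars φ.hom).obj (P.X i)) := fun i => by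
    letI : Algebra A B := φ.hom.toAlgebra
    haveI : Module.Flat A B := HasRingHomProperty.appLE (P := @Flat) f inferInstance ⟨U, hU⟩ ⟨V, hV⟩ hle
    haveI := (hP i).2
    letI : Module A (P.X i) := Module.compHom _ φ.hom
    haveI : IsScalarTower A B (P.X i) := IsScalarTower.of_algebraMap_smul fun _ _ => rfl
    exact Module.Flat.trans A B (P.X i)
  have ht' : DCoh.LocHasFiniteRelTorDim (Spec.map φ) ((DCoh.tildeD B).obj (DRing.toD P)) := by
    rw [← locRel_comp_iff (Spec.map φ) hU.fromSpec, hφ]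
    exact locRel_iso e₀.symm (locRel_rd k ht)
  obtain ⟨a, hqis, hout, hf⟩ := exists_truncation_of_locRel φ P c hc hflat ht'
  haveI := hqis
  let T := P.truncGE a
  have hfp : ∀ i, Module.FinitePresentation B (T.X i) := fun i => by
    haveI := fun j => (hP j).1
    haveI := fun j => (hP j).2
    rcases lt_trichotomy i a with hi | rfl | hi
    · haveI : Subsingleton (T.X i) :=
        ModuleCat.subsingleton_of_isZero (CochainComplex.isZero_of_isStrictlyGE _ a i hi)
      exact Module.finitePresentation_of_projective _ _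
    · let ec : cokernel (P.d (i - 1) i) ≅ T.X i :=
        IsColimit.coconePointUniqueUpToIso (colimit.isColimit _) (P.opcyclesIsCokernel (i - 1) i (by simp)) ≪≫
          (P.truncGEXIsoOpcycles i).symm
      haveI : Module.FinitePresentation B (P.X i) := Module.finitePresentation_of_projective _ _
      haveI : Module.FinitePresentation B (P.X i ⧸ LinearMap.range (P.d (i - 1) i).hom) :=
        Module.finitePresentation_of_surjective _ (Submodule.mkQ_surjective _)
          (by rw [Submodule.ker_mkQ, LinearMap.range_eq_map]; exact (Module.Finite.fg_top).map _)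
      exact Module.FinitePresentation.of_equiv
        ((ModuleCat.cokernelIsoRangeQuotient _).symm ≪≫ ec).toLinearEquiv
    · haveI : Module.FinitePresentation B (P.X i) := Module.finitePresentation_of_projective _ _
      exact Module.FinitePresentation.of_equiv (P.truncGEXIso a i hi).symm.toLinearEquiv
  let G₀ : CochainComplex (Spec B).Modules ℤ := ((tilde.functor B).mapHomologicalComplex (ComplexShape.up ℤ)).obj T
  let e₁ : (PerfLocal.rd k).obj E ≅ DerivedCategory.Q.obj G₀ :=
    e₀.symm ≪≫ (DCoh.tildeD B).mapIso (asIso (DerivedCategory.Q.map (P.πTruncGE a))) ≪≫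
      (tilde.functor B).mapDerivedCategoryFactors.app T
  let g : (V : Scheme.{u}) ⟶ Spec B := hV.isoSpec.hom
  have hg : g ≫ k = V.ι := hV.isoSpec_hom_fromSpec
  let R := Scheme.Modules.restrictFunctor g
  refine ⟨V, hxV, (R.mapHomologicalComplex (ComplexShape.up ℤ)).obj G₀, a, max a c,
    fun i hi => R.map_isZero ((tilde.functor B).map_isZero (hout i hi)), fun i => ⟨?_, ?_⟩, ?_⟩
  · exact isFP_restrict g ((Props12.isFP_tilde_iff (T.X i)).2 (hfp i))
  · rw [← hg, Category.assoc]
    refine isFlatOver_restrict g (k ≫ f) fun y => ?_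
    rw [← hφ]
    exact (isFlatOverAt_comp_iff _ _ _ y).2 (FlatMor12.ApproxModule.isFlatOver_tilde φ (T.X i) (hf i) y)
  · obtain ⟨d⟩ := nonempty_rd_congr (X := X) hg
    obtain ⟨c'⟩ := PerfLocal.rd_comp g k E
    exact ⟨(d.app E).symm ≪≫ c' ≪≫ (PerfLocal.rd g).mapIso e₁ ≪≫ R.mapDerivedCategoryFactors.app G₀⟩

end Groth.Agent.RelPerfH3
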