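import Groth.Agent.DCat.PerfDescend
import Groth.Agent.DQCoh.PerfectAffine
import Groth.Agent.DCat.TildeStalk
import Groth.Agent.FlatCx12.AmpFibre
import Mathlib.RingTheory.Localization.Integer
import Mathlib.RingTheory.LocalRing.Module

/-!
# Perfect complexes at a point spread out to a neighbourhood
-/

set_option autoImplicit false
set_option backward.isDefEq.respectTransparency false
set_option backward.defeqAttrib.useBackward true
set_option backward.isDefEq.respectTransparency.types false
set_option linter.style.haveILetI false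

universe u

open CategoryTheory CategoryTheory.Limits AlgebraicGeometry Matrix

attribute [local instance] HasDerivedCategory.standard
attribute [-instance] Int.instConditionallyCompleteLinearOrder

namespace Groth.Agent.RelPerfH3.PerfSpread

/-- Bounded complexes of finite free modules over a localisation are base changes. -/
theorem exists_model_localization {A S : Type u} [CommRing A] [CommRing S] (φ : A →+* S) (M : Submonoid A)
    (hloc : letI := φ.toAlgebra; IsLocalization M S) (P : DRing.Cx S) {a b : ℤ} (hP : DRing.VanishesOutside P a b)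
    (hfin : ∀ i, Module.Finite S (P.X i) ∧ Module.Free S (P.X i)) :
    ∃ L : DRing.Cx A, DRing.VanishesOutside L a b ∧ DRing.TermwiseFiniteProjective L ∧
      Nonempty (((ModuleCat.extendScalars.{u, u, u} φ).mapHomologicalComplex (ComplexShape.up ℤ)).obj L ≅ P) := by
  classical
  letI := φ.toAlgebra
  haveI := hloc
  have hbas : ∀ i, ∃ (r : ℕ), Nonempty (Module.Basis (Fin r) S (P.X i)) := fun i => by
    haveI := (hfin i).1
    haveI := (hfin i).2
    let B := Module.Free.chooseBasis S (P.X i)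
    exact ⟨_, ⟨B.reindex (Fintype.equivFin _)⟩⟩
  choose r hr using hbas
  let B := fun i => (hr i).some
  obtain ⟨n, hn⟩ : ∃ n, ∀ i ∈ Finset.Icc a b, r i ≤ n :=
    ⟨(Finset.Icc a b).sup r, fun i hi => Finset.le_sup hi⟩
  let s₀ : ∀ i, P.X i →ₗ[S] (Fin n → S) := fun i => LinearMap.pi fun k =>
    if h : (k : ℕ) < r i then ((B i).coord ⟨k, h⟩) else 0
  let π₀ : ∀ i, (Fin n → S) →ₗ[S] P.X i := fun i =>
    if h : r i ≤ n then Fintype.linearCombination S (B i) ∘ₗ LinearMap.funLeft S S (Fin.castLE h) else 0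
  have hzero : ∀ i, i < a ∨ b < i → ∀ x : P.X i, x = 0 := fun i hi x =>
    @Subsingleton.elim _ (ModuleCat.subsingleton_of_isZero (hP i hi)) _ _
  have hπs₀ : ∀ i x, π₀ i (s₀ i x) = x := fun i x => by
    by_cases hi : i < a ∨ b < i
    · exact (hzero i hi _).trans (hzero i hi x).symm
    · have h : r i ≤ n := hn i (Finset.mem_Icc.2 (by omega))
      simp only [π₀, dif_pos h, LinearMap.comp_apply, Fintype.linearCombination_apply, LinearMap.funLeft_apply]
      conv_rhs => rw [← (B i).sum_repr x]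
      refine Finset.sum_congr rfl fun l _ => ?_
      simp [s₀]
  let e : ∀ (_ : ℤ), Matrix (Fin n) (Fin n) A := fun i => Matrix.diagonal fun k =>
    if (k : ℕ) < r i ∧ a ≤ i ∧ i ≤ b then 1 else 0
  have hee : ∀ i, e i * e i = e i := fun i => by
    rw [Matrix.diagonal_mul_diagonal]
    congr 1
    funext k
    split_ifs <;> simp
  have hsπ : ∀ i, ¬(i < a ∨ b < i) → ∀ (v : Fin n → S) (k : Fin n),
      s₀ i (π₀ i v) k = if (k : ℕ) < r i then v k else 0 := fun i hi v k => by
    have h : r i ≤ n := hn i (Finset.mem_Icc.2 (by omega))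
    simp only [π₀, dif_pos h, s₀, LinearMap.comp_apply, LinearMap.pi_apply, Fintype.linearCombination_apply,
      LinearMap.funLeft_apply]
    split_ifs with hk
    · rw [Module.Basis.coord_apply, (B i).repr_sum_self]
      rfl
    · rfl
  have he : ∀ i, (e i).map φ = LinearMap.toMatrix' ((s₀ i).comp (π₀ i)) := fun i => by
    ext k l
    simp only [e, LinearMap.toMatrix'_apply, Matrix.map_apply, Matrix.diagonal_apply, LinearMap.comp_apply]
    by_cases hi : i < a ∨ b < i
    · rw [hzero i hi (π₀ i _), map_zero, Pi.zero_apply]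
      have : ¬((k : ℕ) < r i ∧ a ≤ i ∧ i ≤ b) := by omega
      simp [this]
    · rw [hsπ i hi]
      have hab : a ≤ i ∧ i ≤ b := by omega
      by_cases hk : (k : ℕ) < r i
      · by_cases hkl : k = l
        · subst hkl; simp [hk, hab]
        · simp [hkl]
      · simp [hk]
  let T : ℤ → Matrix (Fin n) (Fin n) S := fun i =>
    LinearMap.toMatrix' ((s₀ (i + 1)).comp ((P.d i (i + 1)).hom.comp (π₀ i)))
  obtain ⟨c, hc⟩ := IsLocalization.exist_integer_multiples M ((Finset.Icc (a - 1) b) ×ˢ Finset.univ)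
    fun x : ℤ × Fin n × Fin n => T x.1 x.2.1 x.2.2
  have hT0 : ∀ i, i ∉ Finset.Icc (a - 1) b → T i = 0 := fun i hi => by
    have : i + 1 < a ∨ b < i + 1 := by
      rw [Finset.mem_Icc] at hi
      omega
    have h0 : (s₀ (i + 1)).comp ((P.d i (i + 1)).hom.comp (π₀ i)) = 0 := LinearMap.ext fun v => by
      rw [LinearMap.comp_apply, hzero _ this ((P.d i (i + 1)).hom.comp (π₀ i) v), map_zero]
      rfl
    exact (congrArg _ h0).trans (map_zero _)
  have hD0 : ∀ i, ∃ D₀ : Matrix (Fin n) (Fin n) A, D₀.map φ = φ c • T i := fun i => by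
    by_cases hi : i ∈ Finset.Icc (a - 1) b
    · choose d hd using fun k l => hc (i, k, l) (Finset.mem_product.2 ⟨hi, Finset.mem_univ _⟩)
      refine ⟨Matrix.of d, Matrix.ext fun k l => ?_⟩
      rw [Matrix.map_apply, Matrix.smul_apply, smul_eq_mul]
      exact (hd k l).trans (Algebra.smul_def _ _)
    · exact ⟨0, by rw [hT0 i hi, Matrix.map_zero _ (map_zero φ), smul_zero]⟩
  choose D₀ hD₀ using hD0
  let D₁ : ℤ → Matrix (Fin n) (Fin n) A := fun i => e (i + 1) * D₀ i
  have hπ : ∀ i, ((s₀ (i + 1)).comp (π₀ (i + 1))).comp ((s₀ (i + 1)).comp ((P.d i (i + 1)).hom.comp (π₀ i))) =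
      (s₀ (i + 1)).comp ((P.d i (i + 1)).hom.comp (π₀ i)) := fun i => LinearMap.ext fun v => by
    simp only [LinearMap.comp_apply, hπs₀]
  have hD₁ : ∀ i, (D₁ i).map φ = φ c • T i := fun i => by
    rw [Matrix.map_mul, he, hD₀, Matrix.mul_smul, ← LinearMap.toMatrix'_comp, hπ]
  have hTT : ∀ i, T (i + 1) * T i = 0 := fun i => by
    rw [← LinearMap.toMatrix'_comp]
    refine (congrArg _ (LinearMap.ext fun v => ?_)).trans (map_zero _)
    simp only [LinearMap.comp_apply, hπs₀, LinearMap.zero_apply]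
    rw [show (P.d (i + 1) (i + 1 + 1)).hom ((P.d i (i + 1)).hom (π₀ i v)) = 0 from
      ConcreteCategory.congr_hom (P.d_comp_d i (i + 1) (i + 1 + 1)) _, map_zero]
  have hkill : ∀ x : ℤ × Fin n × Fin n, ∃ t : M, (t : A) * (D₁ (x.1 + 1) * D₁ x.1) x.2.1 x.2.2 = 0 := fun x => by
    refine (IsLocalization.map_eq_zero_iff M S _).1 ?_
    show φ _ = 0
    rw [← Matrix.map_apply (f := φ) (M := D₁ (x.1 + 1) * D₁ x.1), Matrix.map_mul, hD₁, hD₁, Matrix.smul_mul,
      Matrix.mul_smul, hTT, smul_zero, smul_zero]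
    rfl
  choose t ht using hkill
  let t₀ : M := ∏ x ∈ (Finset.Icc (a - 2) b) ×ˢ Finset.univ, t x
  have hDD₁ : ∀ i, (t₀ : A) • (D₁ (i + 1) * D₁ i) = 0 := fun i => Matrix.ext fun k l => by
    rw [Matrix.smul_apply, Matrix.zero_apply, smul_eq_mul]
    by_cases hi : i ∈ Finset.Icc (a - 2) b
    · obtain ⟨z, hz⟩ := Finset.dvd_prod_of_mem t
        (Finset.mem_product.2 ⟨hi, Finset.mem_univ ((k, l) : Fin n × Fin n)⟩ :
          ((i, k, l) : ℤ × Fin n × Fin n) ∈ (Finset.Icc (a - 2) b) ×ˢ Finset.univ)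
      rw [show t₀ = t (i, k, l) * z from hz, Submonoid.coe_mul, mul_right_comm, ht (i, k, l), zero_mul]
    · have h0 : e (i + 1 + 1) = 0 := by
        rw [Finset.mem_Icc] at hi
        refine Matrix.ext fun p q => ?_
        simp only [e, Matrix.diagonal_apply]
        split_ifs with h1 h2
        · omega
        · rfl
        · rfl
      simp [D₁, h0]
  have hu : IsUnit (φ ((t₀ : A) * c)) := IsLocalization.map_units S (t₀ * c)
  let u : Sˣ := hu.unit
  let s : ∀ i, P.X i →ₗ[S] (Fin n → S) := fun i => ((u ^ i : Sˣ) : S) • s₀ i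
  let π : ∀ i, (Fin n → S) →ₗ[S] P.X i := fun i => ((u ^ (-i) : Sˣ) : S) • π₀ i
  have hπs : ∀ i x, π i (s i x) = x := fun i x => by
    simp only [s, π, LinearMap.smul_apply, map_smul, hπs₀, smul_smul, ← Units.val_mul, ← _root_.zpow_add]
    simp
  refine DCat.PerfDescend.exists_model φ P s π hπs e (fun i => (t₀ : A) • D₁ i) a b (fun i hi => ?_) hee
    (fun i => ?_) (fun i => ?_) (fun i => ?_) (fun i => ?_)
  · refine Matrix.ext fun p q => ?_
    simp only [e, Matrix.diagonal_apply]
    split_ifs with h1 h2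
    · omega
    · rfl
    · rfl
  · rw [Matrix.mul_smul, ← Matrix.mul_assoc, hee]
  · rw [Matrix.smul_mul, Matrix.mul_smul, hDD₁, smul_zero]
  · rw [he]
    refine congrArg _ (LinearMap.ext fun v => ?_)
    simp only [s, π, LinearMap.comp_apply, LinearMap.smul_apply, map_smul, smul_smul, ← Units.val_mul,
      ← _root_.zpow_add]
    simp
  · have h1 : (s (i + 1)).comp ((P.d i (i + 1)).hom.comp (π i)) =
        φ ((t₀ : A) * c) • ((s₀ (i + 1)).comp ((P.d i (i + 1)).hom.comp (π₀ i))) := LinearMap.ext fun v => by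
      simp only [s, π, LinearMap.comp_apply, LinearMap.smul_apply, map_smul, smul_smul, ← Units.val_mul,
        ← _root_.zpow_add]
      simp [u]
    rw [h1, map_smul, Matrix.smul_eq_diagonal_mul, Matrix.map_mul, Matrix.diagonal_map (map_zero φ), hD₁,
      ← Matrix.smul_eq_diagonal_mul, smul_smul, map_mul]

/-- A perfect complex of the local ring at a point spreads to a neighbourhood. -/
theorem exists_spread {X : Scheme.{u}} (x : X) (P : Dual.D ((X.presheaf.stalk x) : Type u))
    (hP : DRing.IsPerfect ((X.presheaf.stalk x) : Type u) P) :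
    ∃ (U : X.Opens) (F' : CochainComplex X.Modules ℤ), x ∈ U ∧
      DCoh.IsPerfect (DerivedCategory.Q.obj ((DCoh.restrictCx U).obj F')) ∧
      Nonempty (DRing.toD (((DerSch.stalkFunctor X x).mapHomologicalComplex (ComplexShape.up ℤ)).obj F') ≅ P) := by
  obtain ⟨V, hV, hxV, -⟩ := exists_isAffineOpen_mem_and_subset (x := x) (U := (⊤ : X.Opens)) trivial
  let A : CommRingCat.{u} := Γ(X, V)
  let j : Spec A ⟶ X := hV.fromSpec
  obtain ⟨y, rfl⟩ : x ∈ Set.range j := hV.range_fromSpec.symm ▸ hxV
  obtain ⟨E, a, b, hE, hp, ⟨eP⟩⟩ := hP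
  let O := (Spec A).presheaf.stalk y
  let φ := (j.stalkMap y).hom
  have hφ : Function.Bijective φ := ConcreteCategory.bijective_of_isIso (j.stalkMap y)
  let adj := ModuleCat.extendRestrictScalarsAdj.{u, u, u} φ
  haveI : (ModuleCat.restrictScalars.{u} φ).IsEquivalence :=
    (ModuleCat.restrictScalarsEquivalenceOfRingEquiv (RingEquiv.ofBijective φ hφ)).isEquivalence_functor
  haveI := adj.isEquivalence_left_of_isEquivalence_right
  haveI := adj.unit_isIso_of_L_fully_faithful
  let E' := ((ModuleCat.extendScalars.{u, u, u} φ).mapHomologicalComplex (ComplexShape.up ℤ)).obj E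
  have hfree : ∀ i, Module.Finite O (E'.X i) ∧ Module.Free O (E'.X i) := fun i => by
    letI := φ.toAlgebra
    haveI := (hp i).1
    haveI := (hp i).2
    haveI : Module.Free (X.presheaf.stalk (j y)) (E.X i) := Module.free_of_flat_of_isLocalRing
    exact ⟨inferInstanceAs (Module.Finite O (TensorProduct (X.presheaf.stalk (j y)) O (E.X i))),
      inferInstanceAs (Module.Free O (TensorProduct (X.presheaf.stalk (j y)) O (E.X i)))⟩
  obtain ⟨L, hL, hLp, ⟨eL⟩⟩ := exists_model_localization (A := A) (S := O) (DCat.stalkφ y) y.asIdeal.primeCompl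
    (StructureSheaf.IsLocalization.to_stalk A y) E'
    (fun i hi => (ModuleCat.extendScalars.{u, u, u} φ).map_isZero (hE i hi)) hfree
  let G := ((tilde.functor A).mapHomologicalComplex (ComplexShape.up ℤ)).obj L
  let pu := Scheme.Modules.pushforward j
  let r := Scheme.Modules.restrictFunctor j
  let F' := (pu.mapHomologicalComplex (ComplexShape.up ℤ)).obj G
  let cnt : (r.mapHomologicalComplex (ComplexShape.up ℤ)).obj F' ≅ G :=
    HomologicalComplex.Hom.isoOfComponents
      (fun i => (asIso (Scheme.Modules.restrictAdjunction j).counit).app (G.X i))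
      (fun p q _ => ((Scheme.Modules.restrictAdjunction j).counit.naturality (G.d p q)).symm)
  refine ⟨V, F', hxV, ?_, ?_⟩
  · let k : Spec A ⟶ V := hV.isoSpec.inv
    have hk : k ≫ V.ι = j := hV.isoSpec_inv_ι
    refine (DCat.PerfLocal.isPerfect_iff _).2 fun z => ⟨_, k, inferInstance, ?_, G,
      DQCoh.strictlyPerfect_tilde hL hLp, ⟨?_⟩⟩
    · obtain ⟨w, rfl⟩ := (ConcreteCategory.bijective_of_isIso k.base).2 z
      exact ⟨w, rfl⟩
    · let ν := (Scheme.Modules.restrictFunctorComp k V.ι).symm ≪≫ Scheme.Modules.restrictFunctorCongr hk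
      let cc : ((Scheme.Modules.restrictFunctor k).mapHomologicalComplex (ComplexShape.up ℤ)).obj
          ((DCoh.restrictCx V).obj F') ≅ (r.mapHomologicalComplex (ComplexShape.up ℤ)).obj F' :=
        HomologicalComplex.Hom.isoOfComponents (fun i => ν.app (F'.X i))
          (fun p q _ => (ν.hom.naturality (F'.d p q)).symm)
      exact (Scheme.Modules.restrictFunctor k).mapDerivedCategoryFactors.app _ ≪≫
        DerivedCategory.Q.mapIso (cc ≪≫ cnt)
  · let n : DerSch.stalkFunctor X (j y) ≅ r ⋙ DerSch.stalkFunctor (Spec A) y ⋙ ModuleCat.restrictScalars.{u} φ :=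
      Functor.isoWhiskerLeft (DerSch.stalkFunctor X (j y)) (asIso adj.unit) ≪≫
        Functor.isoWhiskerRight (ModStalk.pullbackStalkIso j y).symm (ModuleCat.restrictScalars.{u} φ) ≪≫
        Functor.isoWhiskerRight (Scheme.Modules.restrictFunctorIsoPullback j).symm
          (DerSch.stalkFunctor (Spec A) y ⋙ ModuleCat.restrictScalars.{u} φ)
    let rs := (ModuleCat.restrictScalars.{u} φ).mapHomologicalComplex (ComplexShape.up ℤ)
    let st := (DerSch.stalkFunctor (Spec A) y).mapHomologicalComplex (ComplexShape.up ℤ)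
    exact ⟨DerivedCategory.Q.mapIso ((NatIso.mapHomologicalComplex n (ComplexShape.up ℤ)).app F' ≪≫
      rs.mapIso (st.mapIso cnt ≪≫
        ((NatIso.mapHomologicalComplex (DCat.tildeStalkIso y) (ComplexShape.up ℤ)).app L).symm ≪≫ eL) ≪≫
      ((NatIso.mapHomologicalComplex (asIso adj.unit) (ComplexShape.up ℤ)).app E).symm) ≪≫ eP⟩

end Groth.Agent.RelPerfH3.PerfSpread
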