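import Groth.Agent.PicH127.Seq
import Groth.Agent.S0458
import Mathlib.AlgebraicGeometry.Morphisms.ClosedImmersion

/-!
# Lifting invertible modules from a closed subscheme when second cohomology vanishes
-/

set_option autoImplicit false
set_option linter.style.haveILetI false
set_option backward.isDefEq.respectTransparency.types false
set_option backward.isDefEq.respectTransparency false

universe u

open CategoryTheory CategoryTheory.Limits AlgebraicGeometry Opposite TopologicalSpace CategoryTheory.Abelian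
open Groth.Agent.Coherent Groth.Agent.PicLib Groth.Agent.AmpleLib Groth.Agent.PicDef15

namespace Groth.Agent.RelPerfH3.PicLift

open PicH127

variable {Z X : Scheme.{u}} (i : Z ⟶ X) [IsClosedImmersion i]

theorem exists_preimage_eq (U : Z.Opens) : ∃ V : X.Opens, i ⁻¹ᵁ V = U := by
  obtain ⟨s, hs, he⟩ := i.isClosedEmbedding.isInducing.isOpen_iff.1 U.isOpen
  exact ⟨⟨s, hs⟩, Opens.ext he⟩

/-- The complement of a closed immersion. -/
noncomputable def compl' : X.Opens := ⟨(Set.range i.base)ᶜ, i.isClosedEmbedding.isClosed_range.isOpen_compl⟩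

theorem preimage_compl' : i ⁻¹ᵁ compl' i = ⊥ :=
  le_bot_iff.1 fun z hz => absurd ⟨z, rfl⟩ hz

theorem hasTriv : HasTriv i := fun L hL => by
  obtain ⟨U, s, hm, hs⟩ := exists_cover hL
  choose V hV using fun z => exists_preimage_eq i (U z)
  refine ⟨Option Z, fun o => o.elim (compl' i) V, top_le_iff.1 fun x _ => ?_, fun o => ?_, fun o => ?_⟩
  · refine Opens.mem_iSup.2 ?_
    by_cases hx : x ∈ Set.range i.base
    · obtain ⟨z, rfl⟩ := hx
      exact ⟨some z, (hV z).ge (hm z)⟩
    · exact ⟨none, hx⟩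
  · cases o with
    | none => exact (0 : Γ(L, i ⁻¹ᵁ compl' i))
    | some z => exact resM L (hV z).le (s z)
  · cases o with
    | some z => exact (hs z).restrict _
    | none =>
      intro W hW
      have hW0 : W = ⊥ := le_bot_iff.1 (hW.trans (preimage_compl' i).le)
      subst hW0
      haveI h1 : Subsingleton Γ(Z, ⊥) := inferInstance
      haveI h2 : Subsingleton Γ(L, ⊥) :=
        AddCommGrpCat.subsingleton_of_isZero (TopCat.Sheaf.isTerminalOfEmpty (Coh.toAb L)).isZero
      exact ⟨fun a b _ => Subsingleton.elim a b, fun y => ⟨0, Subsingleton.elim _ _⟩⟩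

/-- Units of a closed subscheme lift locally. -/
theorem exists_lift_unit {U : X.Opens} (s : Γ(Z, i ⁻¹ᵁ U)ˣ) (x : X) (hx : x ∈ U) :
    ∃ (W : X.Opens) (hW : W ≤ U) (t : Γ(X, W)ˣ), x ∈ W ∧
      i.app W t.1 = Z.presheaf.map (homOfLE (i.preimage_mono hW)).op s.1 := by
  by_cases hxZ : x ∈ Set.range i.base
  · obtain ⟨z, rfl⟩ := hxZ
    obtain ⟨V, hV, hzV, hVU⟩ := exists_isAffineOpen_mem_and_subset (x := i z) (U := U) hx
    have hVU' : V ≤ U := hVU
    obtain ⟨t₀, ht₀⟩ := i.app_surjective V hV (Z.presheaf.map (homOfLE (i.preimage_mono hVU')).op s.1)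
    let t := X.presheaf.map (homOfLE (X.basicOpen_le t₀)).op t₀
    have hu : IsUnit t := RingedSpace.isUnit_res_basicOpen X.toLocallyRingedSpace.toRingedSpace t₀
    refine ⟨X.basicOpen t₀, (X.basicOpen_le t₀).trans hVU', hu.unit, ?_, ?_⟩
    · show z ∈ i ⁻¹ᵁ X.basicOpen t₀
      rw [Scheme.preimage_basicOpen, ht₀, Scheme.basicOpen_res, Scheme.basicOpen_of_isUnit _ s.isUnit]
      exact ⟨hzV, hx⟩
    · rw [IsUnit.unit_spec]
      show i.app _ (X.presheaf.map _ t₀) = _
      rw [← ConcreteCategory.comp_apply, Scheme.Hom.naturality, ConcreteCategory.comp_apply, ht₀,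
        ← ConcreteCategory.comp_apply, ← Functor.map_comp]
      rfl
  · refine ⟨U ⊓ compl' i, inf_le_left, 1, ⟨hx, hxZ⟩, ?_⟩
    have e : i ⁻¹ᵁ (U ⊓ compl' i) = ⊥ :=
      le_bot_iff.1 ((i.preimage_mono inf_le_right).trans (preimage_compl' i).le)
    haveI : Subsingleton Γ(Z, i ⁻¹ᵁ (U ⊓ compl' i)) := by rw [e]; infer_instance
    exact Subsingleton.elim _ _

theorem epi_comap' : Epi (comap' i) := by
  haveI : Sheaf.IsLocallySurjective (comap' i) := ⟨fun {U} s x hx => by
    obtain ⟨W, hW, t, hxW, ht⟩ := exists_lift_unit i (ofU i (show (PU i).obj.obj (op U) from s)) x hx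
    refine ⟨W, homOfLE hW, ⟨toU (𝟙 X) t, ?_⟩, hxW⟩
    exact ofU_injective i W (Units.ext ((ofU_comap (f := i) (toU (𝟙 X) (U := W) t)).trans ht))⟩
  exact (Sheaf.isLocallySurjective_iff_epi' (A := AddCommGrpCat.{u}) (comap' i)).1 inferInstance

/-- If `H²` vanishes on `X`, every invertible module on a closed subscheme extends. -/
theorem exists_extension (h2 : ∀ F : CohTop.Ab X.toTopCat, Subsingleton (Sheaf.H F 2))
    (L : Z.Modules) (hL : PicF.IsInvertible L) :
    ∃ L' : X.Modules, PicF.IsInvertible L' ∧ Nonempty ((Scheme.Modules.pullback i).obj L' ≅ L) := by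
  obtain ⟨lX⟩ := nonempty_law X
  obtain ⟨lZ⟩ := nonempty_law Z
  haveI := epi_comap' i
  let S := ShortComplex.mk (kernel.ι (comap' i)) (comap' i) (kernel.condition _)
  have hS : S.ShortExact := { exact := ShortComplex.exact_kernel (comap' i) }
  obtain ⟨y, hy⟩ := Ext.covariant_sequence_exact₃ _ hS (picToH1 (hasTriv i) (Additive.ofMul (PicGrp.cls L hL)))
    (rfl : 1 + 1 = 2) (@Subsingleton.elim _ (h2 S.X₁) _ _)
  obtain ⟨a, rfl⟩ := (picToH1_bijective (hasTriv_id (X := X))).2 y
  have e := (picToH1_bijective (hasTriv i)).1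
    ((picToH1_pullHom (hasTriv i) (pullMul i) a.toMul).trans hy)
  obtain ⟨L', hL', ha⟩ := PicGrp.exists_eq_cls a.toMul
  refine ⟨L', hL', (PicGrp.cls_eq_cls_iff (PicLoc.isInvertible_pullback i hL') hL).1 ?_⟩
  rw [← PicGrp.pullHom_cls i (pullMul i) L' hL', ← ha]
  exact Additive.ofMul.injective e

end Groth.Agent.RelPerfH3.PicLift
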