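import Groth.Agent.Desc19b.FlatOverBC
import Groth.Agent.ModStalk.Tensor
import Groth.Prelude.Def_FlatMod2
import Mathlib.RingTheory.Flat.FaithfullyFlat.Basic

/-!
# Flatness of a tensor product with a faithfully flat module
-/

set_option autoImplicit false
set_option backward.isDefEq.respectTransparency false
set_option backward.isDefEq.respectTransparency.types false
set_option linter.style.haveILetI false

universe u

open CategoryTheory CategoryTheory.Limits AlgebraicGeometry TensorProduct

namespace Groth.Agent.RelPerfH3.TensorFF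

section Algebra

variable {C B : Type u} [CommRing C] [CommRing B] [Algebra C B] (M N : Type u) [AddCommGroup M] [Module B M]
  [Module C M] [IsScalarTower C B M] [AddCommGroup N] [Module B N] [Module C N] [IsScalarTower C B N]

theorem flat_of_flat_tensor [Module.FaithfullyFlat B M] [Module.Flat C (M ⊗[B] N)] : Module.Flat C N := by
  rw [Module.Flat.iff_lTensor_preserves_injective_linearMap]
  intro P Q _ _ _ _ u hu
  have h1 := Module.Flat.lTensor_preserves_injective_linearMap (M := M ⊗[B] N) u hu
  let eP := AlgebraTensorModule.assoc C B B M N P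
  let eQ := AlgebraTensorModule.assoc C B B M N Q
  have h3 : (AlgebraTensorModule.lTensor B N u).lTensor M =
      eQ.toLinearMap ∘ₗ (AlgebraTensorModule.lTensor B (M ⊗[B] N) u) ∘ₗ eP.symm.toLinearMap := by
    ext m n q; rfl
  have h4 : Function.Injective ((AlgebraTensorModule.lTensor B N u).lTensor M) := by
    rw [h3]; exact eQ.injective.comp (h1.comp eP.symm.injective)
  exact (Module.FaithfullyFlat.lTensor_injective_iff_injective B M _).1 h4

theorem smul_top_ne_top_iff [Module.FaithfullyFlat B M] (I : Ideal C) :
    I • (⊤ : Submodule C (M ⊗[B] N)) ≠ ⊤ ↔ I • (⊤ : Submodule C N) ≠ ⊤ := by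
  refine not_congr ⟨fun h => ?_, fun h => ?_⟩
  · let J : Submodule B N :=
      { (I • (⊤ : Submodule C N)) with
        smul_mem' := fun c n hn => by
          induction hn using Submodule.smul_induction_on' with
          | smul r hr n' _ =>
            show c • r • n' ∈ I • (⊤ : Submodule C N)
            rw [← algebraMap_smul B r n', smul_comm, algebraMap_smul]
            exact Submodule.smul_mem_smul hr trivial
          | add a _ b _ ha hb =>
            show c • (a + b) ∈ I • (⊤ : Submodule C N)
            rw [smul_add]; exact add_mem ha hb }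
    suffices hJ : J = ⊤ by
      rw [eq_top_iff]
      intro x _
      exact (show x ∈ J by rw [hJ]; trivial)
    by_contra hne
    haveI : Nontrivial (N ⧸ J) := Submodule.Quotient.nontrivial_iff.2 hne
    haveI := Module.FaithfullyFlat.lTensor_nontrivial B M (N ⧸ J)
    suffices Subsingleton (M ⊗[B] (N ⧸ J)) from false_of_nontrivial_of_subsingleton (M ⊗[B] (N ⧸ J))
    refine subsingleton_of_forall_eq 0 fun z => ?_
    obtain ⟨t, rfl⟩ := LinearMap.lTensor_surjective M J.mkQ_surjective z
    have ht : t ∈ I • (⊤ : Submodule C (M ⊗[B] N)) := by rw [h]; trivial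
    induction ht using Submodule.smul_induction_on' with
    | smul r hr t _ =>
      induction t using TensorProduct.induction_on with
      | zero => simp
      | tmul m n =>
        have e : r • (m ⊗ₜ[B] n) = m ⊗ₜ[B] (algebraMap C B r • n) := by
          rw [smul_tmul', ← algebraMap_smul B r m, smul_tmul]
        rw [e, LinearMap.lTensor_tmul]
        have : J.mkQ (algebraMap C B r • n) = 0 :=
          (Submodule.Quotient.mk_eq_zero _).2 (by
            show algebraMap C B r • n ∈ I • (⊤ : Submodule C N)
            rw [algebraMap_smul]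
            exact Submodule.smul_mem_smul hr trivial)
        rw [this, tmul_zero]
      | add a b ha hb => rw [smul_add, map_add, ha trivial, hb trivial, add_zero]
    | add a _ b _ ha hb => rw [map_add, ha, hb, add_zero]
  · rw [eq_top_iff]
    rintro t -
    induction t using TensorProduct.induction_on with
    | zero => exact zero_mem _
    | tmul m n =>
      have hn : n ∈ I • (⊤ : Submodule C N) := by rw [h]; trivial
      induction hn using Submodule.smul_induction_on' with
      | smul r hr n' _ =>
        have e : m ⊗ₜ[B] (r • n') = r • (m ⊗ₜ[B] n') := by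
          rw [smul_tmul', ← algebraMap_smul B r m, ← algebraMap_smul B r n', smul_tmul]
        rw [e]
        exact Submodule.smul_mem_smul hr trivial
      | add a _ b _ ha hb => rw [tmul_add]; exact add_mem ha hb
    | add a b ha hb => exact add_mem ha hb

end Algebra

variable {X Y Z : Scheme.{u}}

theorem flat_and_smul_iff {C B : Type u} [CommRing C] [CommRing B] [Algebra C B] [IsLocalRing B] (M N T : Type u)
    [AddCommGroup M] [Module B M] [Module C M] [IsScalarTower C B M]
    [AddCommGroup N] [Module B N] [Module C N] [IsScalarTower C B N] [AddCommGroup T] [Module C T]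
    [Module.Flat B M] (hM : IsLocalRing.maximalIdeal B • (⊤ : Submodule B M) ≠ ⊤) (e : T ≃ₗ[C] M ⊗[B] N) (I : Ideal C) :
    (Module.Flat C T → Module.Flat C N) ∧ (I • (⊤ : Submodule C N) ≠ ⊤ → I • (⊤ : Submodule C T) ≠ ⊤) := by
  haveI : Module.FaithfullyFlat B M := ⟨fun m hm => by rwa [IsLocalRing.eq_maximalIdeal hm]⟩
  refine ⟨fun hT => ?_, fun hN hT => ?_⟩
  · haveI : Module.Flat C (M ⊗[B] N) := Module.Flat.of_linearEquiv e.symm
    exact flat_of_flat_tensor (B := B) M N
  · refine (smul_top_ne_top_iff (B := B) M N I).2 hN ?_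
    have := congrArg (Submodule.map e.toLinearMap) hT
    rwa [Submodule.map_smul'', Submodule.map_top, LinearMap.range_eq_top.2 e.surjective] at this

theorem smul_ne_top_of_equiv {C B : Type u} [CommRing C] [CommRing B] [Algebra C B] (M N T : Type u)
    [AddCommGroup M] [Module B M] [Module C M] [IsScalarTower C B M]
    [AddCommGroup N] [Module B N] [Module C N] [IsScalarTower C B N] [AddCommGroup T] [Module C T]
    (e : T ≃ₗ[C] M ⊗[B] N) (I : Ideal C) (h : I • (⊤ : Submodule C T) ≠ ⊤) :
    I • (⊤ : Submodule C N) ≠ ⊤ := fun hN => h (by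
  have h1 : I • (⊤ : Submodule C (M ⊗[B] N)) = ⊤ := by
    rw [eq_top_iff]
    rintro t -
    induction t using TensorProduct.induction_on with
    | zero => exact zero_mem _
    | tmul m n =>
      have hn : n ∈ I • (⊤ : Submodule C N) := by rw [hN]; trivial
      induction hn using Submodule.smul_induction_on' with
      | smul r hr n' _ =>
        have e : m ⊗ₜ[B] (r • n') = r • (m ⊗ₜ[B] n') := by
          rw [smul_tmul', ← algebraMap_smul B r m, ← algebraMap_smul B r n', smul_tmul]
        rw [e]
        exact Submodule.smul_mem_smul hr trivial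
      | add a _ b _ ha hb => rw [tmul_add]; exact add_mem ha hb
    | add a b ha hb => exact add_mem ha hb
  have := congrArg (Submodule.map e.symm.toLinearMap) h1
  rwa [Submodule.map_smul'', Submodule.map_top, LinearMap.range_eq_top.2 e.symm.surjective] at this)

/-- On a point where `M` is faithfully flat over `O_y`, the tensor product detects flatness and fibres of `G`. -/
theorem tensor_pullback_iff (q : X ⟶ Y) (h : Y ⟶ Z) (M : X.Modules) (G : Y.Modules) (x : X) :
    letI := FlatMod.moduleStalkOver h G (q x)
    letI := FlatMod.moduleStalkOver (q ≫ h) (CohB1.tensorMod M ((Scheme.Modules.pullback q).obj G)) x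
    letI := FlatMod.moduleStalkOver q M x
    (FlatMod.IsFlatOverAt q M x →
      IsLocalRing.maximalIdeal (Y.presheaf.stalk (q x)) • (⊤ : Submodule (Y.presheaf.stalk (q x)) (M.presheaf.stalk x)) ≠ ⊤ →
      (FlatMod.IsFlatOverAt (q ≫ h) (CohB1.tensorMod M ((Scheme.Modules.pullback q).obj G)) x → FlatMod.IsFlatOverAt h G (q x)) ∧
      (IsLocalRing.maximalIdeal (Z.presheaf.stalk (h (q x))) • (⊤ : Submodule (Z.presheaf.stalk (h (q x))) (G.presheaf.stalk (q x))) ≠ ⊤ →
        IsLocalRing.maximalIdeal (Z.presheaf.stalk ((q ≫ h) x)) • (⊤ : Submodule (Z.presheaf.stalk ((q ≫ h) x)) ((CohB1.tensorMod M ((Scheme.Modules.pullback q).obj G)).presheaf.stalk x)) ≠ ⊤)) ∧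
    (IsLocalRing.maximalIdeal (Z.presheaf.stalk ((q ≫ h) x)) • (⊤ : Submodule (Z.presheaf.stalk ((q ≫ h) x)) ((CohB1.tensorMod M ((Scheme.Modules.pullback q).obj G)).presheaf.stalk x)) ≠ ⊤ →
      IsLocalRing.maximalIdeal (Z.presheaf.stalk (h (q x))) • (⊤ : Submodule (Z.presheaf.stalk (h (q x))) (G.presheaf.stalk (q x))) ≠ ⊤) := by
  let y := q x
  let N' := (Scheme.Modules.pullback q).obj G
  let T := CohB1.tensorMod M N'
  let O := X.presheaf.stalk x
  let B := Y.presheaf.stalk y
  let C := Z.presheaf.stalk (h y)
  letI : Algebra B O := (q.stalkMap x).hom.toAlgebra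
  letI : Algebra C B := (h.stalkMap y).hom.toAlgebra
  letI : Algebra C O := ((q ≫ h).stalkMap x).hom.toAlgebra
  haveI : IsScalarTower C B O := .of_algebraMap_eq fun r => by
    show ((q ≫ h).stalkMap x).hom r = (q.stalkMap x).hom ((h.stalkMap y).hom r)
    rw [Scheme.Hom.stalkMap_comp]
    rfl
  letI := FlatMod.moduleStalkOver q M x
  letI := FlatMod.moduleStalkOver h G y
  letI : Module C (M.presheaf.stalk x) := FlatMod.moduleStalkOver (q ≫ h) M x
  haveI : IsScalarTower B O (M.presheaf.stalk x) := .of_algebraMap_smul fun _ _ => rfl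
  haveI : IsScalarTower C O (M.presheaf.stalk x) := .of_algebraMap_smul fun _ _ => rfl
  haveI : IsScalarTower C B (M.presheaf.stalk x) := .of_algebraMap_smul fun r m => by
    show algebraMap B O (algebraMap C B r) • m = algebraMap C O r • m
    rw [← IsScalarTower.algebraMap_apply]
  haveI : IsScalarTower C B (G.presheaf.stalk y) := .of_algebraMap_smul fun _ _ => rfl
  letI : Module C (T.presheaf.stalk x) := FlatMod.moduleStalkOver (q ≫ h) T x
  haveI : IsScalarTower C O (T.presheaf.stalk x) := .of_algebraMap_smul fun _ _ => rfl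
  let eN : N'.presheaf.stalk x ≃ₗ[O] TensorProduct B O (G.presheaf.stalk y) :=
    ((Groth.Agent.ModStalk.pullbackStalkIso q x).app G).toLinearEquiv
  let eT : T.presheaf.stalk x ≃ₗ[O] TensorProduct O (M.presheaf.stalk x) (N'.presheaf.stalk x) :=
    (Groth.Agent.ModStalk.stalkTensorIso x M N').toLinearEquiv
  let e := (eT.trans ((AlgebraTensorModule.congr (LinearEquiv.refl _ _) eN).trans
    (AlgebraTensorModule.cancelBaseChange B O O (M.presheaf.stalk x) (G.presheaf.stalk y)))).restrictScalars C
  refine ⟨fun hM hne => ?_, fun hT => smul_ne_top_of_equiv (B := B) (M.presheaf.stalk x) (G.presheaf.stalk y) _ e _ hT⟩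
  haveI : Module.Flat B (M.presheaf.stalk x) := hM
  exact flat_and_smul_iff (B := B) (M.presheaf.stalk x) (G.presheaf.stalk y) _ hne e (IsLocalRing.maximalIdeal C)

end Groth.Agent.RelPerfH3.TensorFF
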