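import Groth.Agent.DQCoh.FlatDescFT17
import Groth.Agent.H8Lim.ModFPDescent
import Groth.Agent.Coherent.CohOps
import Groth.Agent.DQCoh.RelTor
import Groth.Agent.DQCoh.PerfectAffine
import Groth.Agent.FlatCx12.AmpThick
import Groth.Agent.RelPerfH3.LocalModel
import Groth.Agent.EGA43.InjFibre.StalkBridge
import Groth.Agent.ModStalk.Pullback
import Groth.Agent.ModStalk.Exact
import Groth.Agent.Coherent.CohBC.SectionsCalculus
import Mathlib.RingTheory.Flat.Equalizer

/-!
# Finite presentation along nilpotent thickenings of modules flat over the base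
-/

set_option autoImplicit false
set_option backward.isDefEq.respectTransparency false
set_option backward.isDefEq.respectTransparency.types false
set_option linter.style.haveILetI false

universe u

open CategoryTheory CategoryTheory.Limits AlgebraicGeometry TopologicalSpace
open scoped TensorProduct
open Groth.Agent.OmegaLib Groth.Agent.Desc19b.FTFlatOpen Groth.Agent.DQCoh.FlatDesc17

noncomputable section

namespace Groth.Agent.RelPerfH3.ThickFP

/-! ### rings -/

section Ring

variable {R S : Type u} [CommRing R] [CommRing S]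

theorem exists_ker_quot (φ : R →+* S) (h : Function.Surjective φ) (N : Type u) [AddCommGroup N] [Module R N]
    (y : N) : letI := φ.toAlgebra
    (1 : S) ⊗ₜ[R] y = 0 ↔ y ∈ RingHom.ker φ • (⊤ : Submodule R N) := by
  letI := φ.toAlgebra
  let e : (R ⧸ RingHom.ker φ) ≃ₐ[R] S :=
    Ideal.quotientKerAlgEquivOfSurjective (f := Algebra.ofId R S) h
  let E := (TensorProduct.comm R N (R ⧸ RingHom.ker φ)).trans
    (TensorProduct.congr e.toLinearEquiv (LinearEquiv.refl R N))
  have hE : E (y ⊗ₜ 1) = (1 : S) ⊗ₜ[R] y := by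
    show e 1 ⊗ₜ[R] y = _
    rw [map_one]
  rw [← EGA43.InjFibre.tmul_one_quotient_eq_zero_iff, ← hE, E.map_eq_zero_iff]

/-- Nilpotent thickenings reflect zero modules and finiteness. -/
theorem finite_and_refl (φ : R →+* S) (h : Function.Surjective φ) (hn : IsNilpotent (RingHom.ker φ)) :
    letI := φ.toAlgebra
    (∀ (M : Type u) [AddCommGroup M] [Module R M], Subsingleton (S ⊗[R] M) → Subsingleton M) ∧
    (∀ (M : Type u) [AddCommGroup M] [Module R M], Module.Finite S (S ⊗[R] M) → Module.Finite R M) := by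
  letI := φ.toAlgebra
  have hrefl : ∀ (M : Type u) [AddCommGroup M] [Module R M], Subsingleton (S ⊗[R] M) → Subsingleton M := by
    intro M _ _ hM
    obtain ⟨n, hn⟩ := hn
    have htop : RingHom.ker φ • (⊤ : Submodule R M) = ⊤ := eq_top_iff.2 fun y _ =>
      (exists_ker_quot φ h M y).1 (Subsingleton.elim _ _)
    have key : ∀ k : ℕ, (RingHom.ker φ ^ k) • (⊤ : Submodule R M) = ⊤ := fun k => by
      induction k with
      | zero => rw [pow_zero, Ideal.one_eq_top, Submodule.top_smul]
      | succ k ih => rw [pow_succ, ← smul_eq_mul, Submodule.smul_assoc (RingHom.ker φ ^ k) (RingHom.ker φ), htop, ih]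
    have h0 := key n
    rw [hn, Ideal.zero_eq_bot, Submodule.bot_smul] at h0
    exact Submodule.subsingleton_iff R |>.1 (subsingleton_of_bot_eq_top h0)
  refine ⟨hrefl, fun M _ _ hM => ?_⟩
  obtain ⟨n, z, hz⟩ := hM.exists_fin
  choose m hm using fun i => TensorProduct.mk_surjective R M S h (z i)
  let N := Submodule.span R (Set.range m)
  have hs : Subsingleton (S ⊗[R] (M ⧸ N)) := by
    refine subsingleton_of_forall_eq 0 fun q => ?_
    obtain ⟨w, rfl⟩ := LinearMap.lTensor_surjective S (Submodule.mkQ_surjective N) q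
    have hw : w ∈ Submodule.span S (Set.range z) := hz.ge Submodule.mem_top
    show N.mkQ.baseChange S w = 0
    induction hw using Submodule.span_induction with
    | mem w hw =>
      obtain ⟨i, rfl⟩ := hw
      rw [← hm i]
      show N.mkQ.baseChange S ((1 : S) ⊗ₜ m i) = 0
      rw [LinearMap.baseChange_tmul, show N.mkQ (m i) = 0 from
        (Submodule.Quotient.mk_eq_zero N).2 (Submodule.subset_span ⟨i, rfl⟩), TensorProduct.tmul_zero]
    | zero => rw [map_zero]
    | add a b _ _ ha hb => rw [map_add, ha, hb, add_zero]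
    | smul c a _ ha => rw [map_smul, ha, smul_zero]
  haveI := hrefl _ hs
  exact ⟨by rw [← Submodule.Quotient.subsingleton_iff.1 this]; exact Submodule.fg_span (Set.finite_range _)⟩

/-- Reduction is left exact on extensions by modules flat over the base. -/
theorem injective_baseChange {A : Type u} [CommRing A] (φ : R →+* S) (hφ : Function.Surjective φ) (σ : A →+* R)
    (J : Ideal A) (hker : RingHom.ker φ = J.map σ) {K L F : Type u} [AddCommGroup K] [Module R K] [AddCommGroup L]
    [Module R L] [AddCommGroup F] [Module R F] (f : K →ₗ[R] L) (g : L →ₗ[R] F) (hf : Function.Injective f)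
    (hg : Function.Surjective g) (hfg : Function.Exact f g)
    (hflat : @Module.Flat A F _ _ (Module.compHom F σ)) :
    letI := φ.toAlgebra
    Function.Injective (f.baseChange S) := by
  letI := φ.toAlgebra
  letI := σ.toAlgebra
  letI : Module A K := Module.compHom K σ
  letI : Module A L := Module.compHom L σ
  letI : Module A F := Module.compHom F σ
  haveI : IsScalarTower A R K := IsScalarTower.of_algebraMap_smul fun _ _ => rfl
  haveI : IsScalarTower A R L := IsScalarTower.of_algebraMap_smul fun _ _ => rfl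
  haveI : IsScalarTower A R F := IsScalarTower.of_algebraMap_smul fun _ _ => rfl
  haveI : Module.Flat A F := hflat
  have hinj : Function.Injective ((f.restrictScalars A).rTensor (A ⧸ J)) := by
    rw [← LinearMap.lTensor_inj_iff_rTensor_inj]
    exact LinearMap.lTensor_injective_of_exact_of_flat (g.restrictScalars A) hg (f.restrictScalars A) hf hfg _
  rw [injective_iff_map_eq_zero]
  intro z hz
  obtain ⟨y, rfl⟩ := TensorProduct.mk_surjective R K S hφ z
  have h1 : (1 : S) ⊗ₜ[R] f y = 0 := hz
  rw [exists_ker_quot φ hφ, hker] at h1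
  refine (exists_ker_quot φ hφ K y).2 ?_
  rw [hker]
  refine (EGA43.InjFibre.mem_map_smul_top_iff (A := A) (B := R) J y).2 ?_
  rw [← EGA43.InjFibre.tmul_one_quotient_eq_zero_iff]
  apply hinj
  rw [map_zero, LinearMap.rTensor_tmul, EGA43.InjFibre.tmul_one_quotient_eq_zero_iff]
  exact (EGA43.InjFibre.mem_map_smul_top_iff (A := A) (B := R) J (f y)).1 h1

end Ring

/-! ### finite type -/

variable {X Y : Scheme.{u}} (f : X ⟶ Y)

/-- The stalk maps are nilpotent thickenings. -/
def ThickStalks : Prop :=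
  ∀ x : X, Function.Surjective (f.stalkMap x).hom ∧ IsNilpotent (RingHom.ker (f.stalkMap x).hom)

variable {f} (hs : ThickStalks f)

include hs

/-- Sections generate a stalk iff their pullbacks do. -/
theorem span_pull_eq_top_iff (F : Y.Modules) {V : Y.Opens} {κ : Type u} [Fintype κ] (s : κ → Γ(F, V)) (x : X)
    (h : f x ∈ V) :
    Submodule.span (X.presheaf.stalk x) (Set.range fun p =>
      gm ((Scheme.Modules.pullback f).obj F) (f ⁻¹ᵁ V) x h (OmegaSh.pullSect f F V (s p))) = ⊤ ↔
    Submodule.span (Y.presheaf.stalk (f x)) (Set.range fun p => gm F V (f x) h (s p)) = ⊤ := by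
  letI := (f.stalkMap x).hom.toAlgebra
  have hfr := finite_and_refl (f.stalkMap x).hom (hs x).1 (hs x).2
  obtain ⟨E, hE⟩ := exists_pullback_stalk_equiv f F x
  let G := (Scheme.Modules.pullback f).obj F
  let S' := Submodule.span (X.presheaf.stalk x) (Set.range fun p =>
      gm G (f ⁻¹ᵁ V) x h (OmegaSh.pullSect f F V (s p)))
  let N := Submodule.span (Y.presheaf.stalk (f x)) (Set.range fun p => gm F V (f x) h (s p))
  constructor
  · intro h1
    let π := N.mkQ.baseChange (X.presheaf.stalk x)
    have hzero : ∀ z, π (E.symm z) = 0 := by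
      intro z
      have hz : z ∈ S' := h1.ge (Submodule.mem_top (x := z))
      induction hz using Submodule.span_induction with
      | mem z hz =>
        obtain ⟨p, rfl⟩ := hz
        show π (E.symm (gm G (f ⁻¹ᵁ V) x h (OmegaSh.pullSect f F V (s p)))) = 0
        rw [← hE V h (s p), E.symm_apply_apply, LinearMap.baseChange_tmul,
          show N.mkQ (gm F V (f x) h (s p)) = 0 from
            (Submodule.Quotient.mk_eq_zero N).2 (Submodule.subset_span ⟨p, rfl⟩),
          TensorProduct.tmul_zero]
      | zero => simp only [map_zero]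
      | add a c _ _ ha hc => simp only [map_add, ha, hc, add_zero]
      | smul a c _ hc => simp only [map_smul, hc, smul_zero]
    have hs' : Subsingleton (X.presheaf.stalk x ⊗[Y.presheaf.stalk (f x)]
        ((DerSch.stalkFunctor Y (f x)).obj F ⧸ N)) := by
      refine subsingleton_of_forall_eq 0 fun q => ?_
      obtain ⟨w, rfl⟩ := LinearMap.lTensor_surjective (X.presheaf.stalk x) (Submodule.mkQ_surjective N) q
      have := hzero (E w)
      rwa [E.symm_apply_apply] at this
    haveI := hfr.1 ((DerSch.stalkFunctor Y (f x)).obj F ⧸ N) hs'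
    exact Submodule.Quotient.subsingleton_iff.1 this
  · intro h1
    refine eq_top_iff.2 fun z _ => ?_
    rw [← E.apply_symm_apply z]
    induction E.symm z using TensorProduct.induction_on with
    | zero => rw [map_zero]; exact Submodule.zero_mem _
    | add a b ha hb => rw [map_add]; exact Submodule.add_mem _ ha hb
    | tmul a m =>
      have hm : m ∈ N := h1.ge (Submodule.mem_top (x := m))
      induction hm using Submodule.span_induction generalizing a with
      | mem m hm =>
        obtain ⟨p, rfl⟩ := hm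
        rw [show a ⊗ₜ[Y.presheaf.stalk (f x)] gm F V (f x) h (s p) = a • ((1 : X.presheaf.stalk x) ⊗ₜ gm F V (f x) h (s p))
          by rw [TensorProduct.smul_tmul', smul_eq_mul, mul_one], map_smul, hE V h (s p)]
        exact Submodule.smul_mem _ _ (Submodule.subset_span ⟨p, rfl⟩)
      | zero => rw [TensorProduct.tmul_zero, map_zero]; exact Submodule.zero_mem _
      | add m m' _ _ ha hb => rw [TensorProduct.tmul_add, map_add]; exact Submodule.add_mem _ (ha a) (hb a)
      | smul c m _ hc =>
        rw [← TensorProduct.smul_tmul]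
        exact hc _

/-- Finite type lifts along nilpotent thickenings. -/
theorem isFT_of_pullback [Surjective f] (hq : Topology.IsQuotientMap f.base) (F : Y.Modules)
    (h : CohB1.IsFT ((Scheme.Modules.pullback f).obj F)) : CohB1.IsFT F := by
  classical
  refine Coherent.isFT_of_locallyFinGen fun y => ?_
  obtain ⟨x, rfl⟩ := f.surjective y
  let G := (Scheme.Modules.pullback f).obj F
  have hG := Coherent.locallyFinGen_of_isFT G h
  letI := (f.stalkMap x).hom.toAlgebra
  have hfr := finite_and_refl (f.stalkMap x).hom (hs x).1 (hs x).2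
  obtain ⟨E, hE⟩ := exists_pullback_stalk_equiv f F x
  obtain ⟨U, I, _, t, hxU, ht⟩ := hG x
  haveI : Module.Finite (X.presheaf.stalk x) ((DerSch.stalkFunctor X x).obj G) :=
    ⟨by rw [← span_gm_eq_top ht hxU]; exact Submodule.fg_span (Set.finite_range _)⟩
  haveI : Module.Finite (X.presheaf.stalk x)
      (X.presheaf.stalk x ⊗[Y.presheaf.stalk (f x)] ((DerSch.stalkFunctor Y (f x)).obj F)) :=
    Module.Finite.equiv E.symm
  haveI : Module.Finite (Y.presheaf.stalk (f x)) ((DerSch.stalkFunctor Y (f x)).obj F) :=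
    hfr.2 _ ‹_›
  obtain ⟨n, z, hz⟩ := Module.Finite.exists_fin (R := Y.presheaf.stalk (f x))
    (M := ((DerSch.stalkFunctor Y (f x)).obj F))
  choose V hV s hgs using fun p : ULift.{u} (Fin n) => exists_gm F (z p.down)
  let V₀ : Y.Opens := ⟨⋂ p, (V p : Set Y), isOpen_iInter_of_finite fun p => (V p).2⟩
  have hxV₀ : f x ∈ V₀ := Set.mem_iInter.2 hV
  have hV₀ : ∀ p, V₀ ≤ V p := fun p z hz => Set.mem_iInter.1 hz p
  let s' : ULift.{u} (Fin n) → Γ(F, V₀) := fun p => Coherent.resM F (hV₀ p) (s p)
  let Z : Set Y := {y' | ∃ h : y' ∈ V₀,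
    Submodule.span (Y.presheaf.stalk y') (Set.range fun p => gm F V₀ y' h (s' p)) = ⊤}
  have hZ : IsOpen Z := by
    rw [← hq.isOpen_preimage]
    convert isOpen_span_eq_top G hG (U₀ := f ⁻¹ᵁ V₀) (fun p => OmegaSh.pullSect f F V₀ (s' p)) using 1
    ext x'
    exact ⟨fun ⟨h', e⟩ => ⟨h', (span_pull_eq_top_iff hs F s' x' h').2 e⟩,
      fun ⟨h', e⟩ => ⟨h', (span_pull_eq_top_iff hs F s' x' h').1 e⟩⟩
  let V' : Y.Opens := ⟨Z, hZ⟩
  have hV' : V' ≤ V₀ := fun y' hy' => hy'.1
  refine ⟨V', ULift.{u} (Fin n), inferInstance, fun p => Coherent.resM F hV' (s' p), ⟨hxV₀, ?_⟩,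
    genOn_of_span _ fun y' hy' => ?_⟩
  · rw [eq_top_iff, ← hz, Submodule.span_le]
    rintro _ ⟨i, rfl⟩
    refine Submodule.subset_span ⟨⟨i⟩, ?_⟩
    exact (gm_res F (hV ⟨i⟩) (hV₀ ⟨i⟩) hxV₀ (s ⟨i⟩)).trans (hgs ⟨i⟩)
  · obtain ⟨h', e⟩ := hy'
    refine Eq.trans (congrArg (Submodule.span (Y.presheaf.stalk y')) (congrArg Set.range (funext fun p => ?_))) e
    exact gm_res F h' hV' _ (s' p)


omit hs

/-! ### the exact sequence -/

theorem mono_pullback_of_flatOver {S T : Scheme.{u}} {q : X ⟶ T} {q' : Y ⟶ S} {t : T ⟶ S} [IsClosedImmersion t]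
    (sq : IsPullback f q q' t) {E : ShortComplex Y.Modules} (hE : E.ShortExact)
    (h₃ : FlatMod.IsFlatOver q' E.X₃) : Mono ((Scheme.Modules.pullback f).map E.f) := by
  refine Preadditive.mono_of_isZero_kernel _ (ModStalk.isZero_of_stalks fun z => ?_)
  let O := (f.stalkMap z).hom
  obtain ⟨τ, -, -, hsurj, hker, -⟩ := FlatCx12.AmpThick.exists_square q q' f t sq z
  let T' := E.map (DerSch.stalkFunctor Y (f z))
  have hT : T'.ShortExact := hE.map_of_exact _
  haveI : Mono ((ModuleCat.extendScalars.{u, u, u} O).map T'.f) := by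
    rw [ModuleCat.mono_iff_injective]
    exact injective_baseChange O hsurj (q'.stalkMap (f z)).hom (RingHom.ker τ.hom) hker T'.f.hom T'.g.hom
      hT.moduleCat_injective_f hT.moduleCat_surjective_g
      ((ShortComplex.ShortExact.moduleCat_exact_iff_function_exact T').1 hT.exact) (h₃ (f z))
  haveI : Mono ((DerSch.stalkFunctor X z).map ((Scheme.Modules.pullback f).map E.f)) :=
    (MorphismProperty.monomorphisms (ModuleCat (X.presheaf.stalk z))).arrow_mk_iso_iff
      (Arrow.isoMk (f := Arrow.mk ((DerSch.stalkFunctor X z).map ((Scheme.Modules.pullback f).map E.f)))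
        (g := Arrow.mk ((ModuleCat.extendScalars.{u, u, u} O).map T'.f))
        ((ModStalk.pullbackStalkIso f z).app E.X₁) ((ModStalk.pullbackStalkIso f z).app E.X₂)
        ((ModStalk.pullbackStalkIso f z).hom.naturality E.f).symm) |>.2 ‹_›
  exact IsZero.of_iso (isZero_kernel_of_mono _)
    (PreservesKernel.iso (DerSch.stalkFunctor X z) ((Scheme.Modules.pullback f).map E.f))

/-- A module of finite type is locally a quotient of a finite free module. -/
theorem exists_epi_free (M : X.Modules) (hM : CohB1.IsFT M) (x : X) :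
    ∃ (U : X.Opens) (_ : IsAffineOpen U) (I : Type u) (_ : Finite I) (π : Coherent.freeMod U.toScheme I ⟶ M.restrict U.ι),
      x ∈ U ∧ Epi π := by
  obtain ⟨V, I, _, s, hxV, hV⟩ := Coherent.locallyFinGen_of_isFT M hM x
  obtain ⟨(U : X.Opens), hU, hxU, hUV⟩ := Opens.isBasis_iff_nbhd.mp X.isBasis_affineOpens hxV
  let t : I → Γ(M.restrict U.ι, ⊤) := fun i => (M.restrictAppIso U.ι ⊤).inv
    (Coherent.resM M (Scheme.Opens.ι_image_top U).le (Coherent.resM M hUV (s i)))
  exact ⟨U, hU, I, inferInstance, Coherent.freeDesc fun i => Coherent.unitDesc (M.restrict U.ι) (t i), hxU,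
    Coherent.epi_of_genOn_top (Coherent.genOn_restrict_top M (hV.res hUV))⟩

theorem isFP_congr {M N : X.Modules} (e : M ≅ N) (h : CohB1.IsFP M) : CohB1.IsFP N :=
  (SheafOfModules.isFinitePresentation X.ringCatSheaf).prop_of_iso e h

theorem isFP_free (X : Scheme.{u}) (I : Type u) [Finite I] : CohB1.IsFP (Coherent.freeMod X I) :=
  haveI := Coherent.isQCoh_freeMod (X := X) (I := I)
  EGA43.FPKernel.isFP_of_forall_exists_affine _ fun x => by
    obtain ⟨U, hU, hxU, -⟩ := Opens.isBasis_iff_nbhd.mp X.isBasis_affineOpens (Opens.mem_top x)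
    classical
    haveI := Fintype.ofFinite I
    exact ⟨U, hU, hxU, Module.FinitePresentation.of_equiv (Coherent.freeSectionsEquiv (X := X) (I := I) U).symm⟩

/-- A quotient of a finite free module by a finite type submodule is finitely presented. -/
theorem isFP_of_epi_of_isFT_kernel {I : Type u} [Finite I] {M : X.Modules} (π : Coherent.freeMod X I ⟶ M) [Epi π]
    (hK : CohB1.IsFT (kernel π)) : CohB1.IsFP M := by
  haveI := Fintype.ofFinite I
  haveI := Coherent.isQCoh_freeMod (X := X) (I := I)
  refine DQCoh.isFP_of_local M fun x => ?_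
  obtain ⟨U, hU, J, _, ρ, hxU, hρ⟩ := exists_epi_free (kernel π) hK x
  haveI := Fintype.ofFinite J
  haveI := Coherent.isQCoh_freeMod (X := U.toScheme) (I := J)
  let r := Scheme.Modules.restrictFunctor U.ι
  haveI : Coh.IsQCoh (r.obj (Coherent.freeMod X I)) := inferInstanceAs (Coh.IsQCoh ((Coherent.freeMod X I).restrict U.ι))
  let eM : cokernel (ρ ≫ r.map (kernel.ι π)) ≅ r.obj M :=
    cokernelEpiComp ρ (r.map (kernel.ι π)) ≪≫ (PreservesCokernel.iso r (kernel.ι π)).symm ≪≫
      r.mapIso ((Abelian.epiIsCokernelOfKernel _ (limit.isLimit (parallelPair π 0))).coconePointUniqueUpToIso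
        (colimit.isColimit (parallelPair (kernel.ι π) 0))).symm
  have hJ : CohB1.IsFT (Coherent.freeMod U.toScheme J) :=
    Coherent.isFT_of_locallyFinGen fun y => ⟨⊤, J, inferInstance, _, trivial, Coherent.genOn_of_epi (𝟙 _)⟩
  have h1 : CohB1.IsFP (r.obj M) := isFP_congr eM
    (H8Lim.isFP_cokernel _ hJ (RelPerfH3.isFP_restrict U.ι (isFP_free X I)))
  refine ⟨Γ(X, U), hU.fromSpec, inferInstance, hU.range_fromSpec.ge hxU, ?_⟩
  exact isFP_congr (((Scheme.Modules.restrictFunctorComp hU.isoSpec.inv U.ι).app M).symm ≪≫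
    (Scheme.Modules.restrictFunctorCongr hU.isoSpec_inv_ι).app M) (RelPerfH3.isFP_restrict hU.isoSpec.inv h1)

/-- Finite presentation lifts along square cartesian thickenings for modules flat over the base. -/
theorem isFP_of_pullback {S T : Scheme.{u}} {q : X ⟶ T} {q' : Y ⟶ S} {t : T ⟶ S} [IsClosedImmersion t]
    [Surjective t] (ht : IsNilpotent t.ker) (sq : IsPullback f q q' t) (F : Y.Modules) (hF : FlatMod.IsFlatOver q' F)
    (hG : CohB1.IsFP ((Scheme.Modules.pullback f).obj F)) : CohB1.IsFP F := by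
  have hts : ∀ {X' Y' : Scheme.{u}} {g : X' ⟶ Y'} {p : X' ⟶ T} {p' : Y' ⟶ S},
      IsPullback g p p' t → ThickStalks g ∧ Surjective g ∧ Topology.IsQuotientMap g.base := by
    intro X' Y' g p p' sq'
    haveI : IsClosedImmersion g := MorphismProperty.of_isPullback sq'.flip inferInstance
    haveI : Surjective g := MorphismProperty.of_isPullback sq'.flip inferInstance
    refine ⟨fun z => ?_, inferInstance,
      g.isClosedEmbedding.isClosedMap.isQuotientMap g.continuous g.surjective⟩
    obtain ⟨τ, -, -, hsurj, hker, hnil⟩ := FlatCx12.AmpThick.exists_square p p' g t sq' z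
    refine ⟨hsurj, ?_⟩
    rw [hker]
    exact (hnil ht).map (Ideal.mapHom _)
  obtain ⟨hs, _, hq⟩ := hts sq
  haveI := hG
  have hFT : CohB1.IsFT F := isFT_of_pullback hs hq F inferInstance
  refine DQCoh.isFP_of_local F fun y => ?_
  obtain ⟨U, hU, I, _, π, hyU, hπ⟩ := exists_epi_free F hFT y
  let p₁ := pullback.fst f U.ι
  let g := pullback.snd f U.ι
  have sqU : IsPullback g (p₁ ≫ q) (U.ι ≫ q') t := (IsPullback.of_hasPullback f U.ι).flip.paste_vert sq
  obtain ⟨hsU, _, hqU⟩ := hts sqU
  let F₁ := F.restrict U.ι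
  let P := Scheme.Modules.pullback g
  have hF₁ : FlatMod.IsFlatOver (U.ι ≫ q') F₁ := DQCoh.isFlatOver_restrict U.ι q' hF
  have hG₁ : CohB1.IsFP (P.obj F₁) := isFP_congr
    ((Scheme.Modules.pullbackComp p₁ f).app F ≪≫ (Scheme.Modules.pullbackCongr pullback.condition).app F ≪≫
      ((Scheme.Modules.pullbackComp g U.ι).app F).symm ≪≫
      P.mapIso ((Scheme.Modules.restrictFunctorIsoPullback U.ι).app F).symm)
    (Desc19b.ModStFib.isFP_pullback p₁ _ hG)
  let E := ShortComplex.mk (kernel.ι π) π (kernel.condition π)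
  have hE : E.ShortExact := H8Lim.shortExact_kernel π
  haveI := mono_pullback_of_flatOver sqU hE hF₁
  obtain ⟨hex, hepi⟩ := Coherent.CohBC.pullback_exact_of_shortExact g E hE
  have hE' : (E.map P).ShortExact := ShortComplex.ShortExact.mk' hex ‹_› hepi
  have hfree : CohB1.IsFP (P.obj (Coherent.freeMod U.toScheme I)) :=
    Desc19b.ModStFib.isFP_pullback g _ (isFP_free _ I)
  haveI := hfree
  haveI := hG₁
  haveI : Coh.IsQCoh (P.obj (Coherent.freeMod U.toScheme I)) := FlatCx12.RelPCModule.isQCoh_of_isFP hfree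
  haveI : Coh.IsQCoh (P.obj F₁) := FlatCx12.RelPCModule.isQCoh_of_isFP hG₁
  haveI : Epi (P.map π) := hepi
  have hk : CohB1.IsFT (kernel (P.map π)) := H8Lim.isFT_kernel_of_fp (P.map π) inferInstance hG₁
  let eK : P.obj (kernel π) ≅ kernel (P.map π) :=
    hE'.fIsKernel.conePointUniqueUpToIso (limit.isLimit _)
  have hK : CohB1.IsFT (P.obj (kernel π)) :=
    Coherent.isFT_of_epi eK.inv hk
  haveI := hπ
  have h1 : CohB1.IsFP F₁ := isFP_of_epi_of_isFT_kernel π (isFT_of_pullback hsU hqU (kernel π) hK)
  refine ⟨Γ(Y, U), hU.fromSpec, inferInstance, hU.range_fromSpec.ge hyU, ?_⟩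
  exact isFP_congr (((Scheme.Modules.restrictFunctorComp hU.isoSpec.inv U.ι).app F).symm ≪≫
    (Scheme.Modules.restrictFunctorCongr hU.isoSpec_inv_ι).app F) (RelPerfH3.isFP_restrict hU.isoSpec.inv h1)

end Groth.Agent.RelPerfH3.ThickFP
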